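import Mathlib

set_option autoImplicit false

namespace Cfsg.Agent.Lib.Helper4

/-- the Frattini subgroup of a finite abelian group of prime exponent is trivial -/
theorem frattini_eq_bot_of_elementary {E : Type*} [Group E] [Finite E] {p : ℕ} (hp : p.Prime)
    (hc : ∀ a b : E, a * b = b * a) (hpow : ∀ a : E, a ^ p = 1) : frattini E = ⊥ := by
  classical
  rw [eq_bot_iff]
  intro e he
  rw [Subgroup.mem_bot]
  by_contra hne
  have hfin : {M : Subgroup E | e ∉ M}.Finite := Set.toFinite _
  have hnonempty : {M : Subgroup E | e ∉ M}.Nonempty :=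
    ⟨⊥, by simpa [Subgroup.mem_bot] using hne⟩
  obtain ⟨M, hM, hMmax⟩ := hfin.exists_maximal hnonempty
  have hMe : e ∉ M := hM
  have hco : IsCoatom M := by
    refine ⟨fun h => hMe (h ▸ Subgroup.mem_top e), ?_⟩
    intro K hK
    have heK : e ∈ K := by
      by_contra h
      exact hK.not_ge (hMmax (show e ∉ K from h) hK.le)
    rw [eq_top_iff]
    intro y _
    by_cases hyM : y ∈ M
    · exact hK.le hyM
    · have hn : (Subgroup.zpowers y).Normal :=
        ⟨fun n hn g => by rw [hc g n, mul_assoc, mul_inv_cancel, mul_one]; exact hn⟩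
      have hlt : M < M ⊔ Subgroup.zpowers y := by
        refine lt_of_le_of_ne le_sup_left ?_
        intro h
        apply hyM
        rw [h]
        exact Subgroup.mem_sup_right (Subgroup.mem_zpowers y)
      have heS : e ∈ M ⊔ Subgroup.zpowers y := by
        by_contra h
        exact hlt.not_ge (hMmax (show e ∉ M ⊔ Subgroup.zpowers y from h) hlt.le)
      rw [Subgroup.mem_sup_of_normal_right] at heS
      obtain ⟨m, hm, z, hz, hmz⟩ := heS
      obtain ⟨j, rfl⟩ := Subgroup.mem_zpowers_iff.1 hz
      have hzK : y ^ j ∈ K := by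
        have : y ^ j = m⁻¹ * e := by rw [← hmz]; group
        rw [this]
        exact K.mul_mem (K.inv_mem (hK.le hm)) heK
      have hzM : y ^ j ∉ M := by
        intro h
        apply hMe
        rw [← hmz]
        exact M.mul_mem hm h
      have hcop : IsCoprime j (p : ℤ) := by
        rw [isCoprime_comm]
        apply (Int.prime_iff_natAbs_prime.2 (by simpa using hp)).coprime_iff_not_dvd.2
        rintro ⟨c, rfl⟩
        apply hzM
        rw [zpow_mul, zpow_natCast, hpow, one_zpow]
        exact M.one_mem
      obtain ⟨a, b, hab⟩ := hcop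
      have hy : y = (y ^ j) ^ a := by
        have h1 : y ^ (a * j + b * (p : ℤ)) = y := by rw [hab, zpow_one]
        rw [zpow_add, zpow_mul, zpow_mul, zpow_natCast, ← zpow_mul] at h1
        have h2 : (y ^ b) ^ p = 1 := hpow _
        rw [h2, mul_one, mul_comm a j, zpow_mul] at h1
        exact h1.symm
      rw [hy]
      exact K.zpow_mem hzK a
  exact hMe (frattini_le_coatom hco he)

/-- a homomorphism whose image is abelian of exponent `p` kills the Frattini subgroup -/
theorem frattini_le_ker_of_elementary {P E : Type*} [Group P] [Finite P] [Group E] {p : ℕ}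
    (hp : p.Prime) (f : P →* E) (hc : ∀ x y : P, f x * f y = f y * f x)
    (hpow : ∀ x : P, f x ^ p = 1) : frattini P ≤ f.ker := by
  have h1 := frattini_le_comap_frattini_of_surjective (φ := f.rangeRestrict)
    f.rangeRestrict_surjective
  have hfin : Finite ↥f.range := Finite.of_surjective f.rangeRestrict f.rangeRestrict_surjective
  have h2 : frattini ↥f.range = ⊥ := by
    apply frattini_eq_bot_of_elementary hp
    · rintro ⟨_, x, rfl⟩ ⟨_, y, rfl⟩
      exact Subtype.ext (hc x y)
    · rintro ⟨_, x, rfl⟩
      exact Subtype.ext (hpow x)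
  rw [h2] at h1
  intro x hx
  have h3 := h1 hx
  rw [Subgroup.mem_comap, Subgroup.mem_bot] at h3
  rw [MonoidHom.mem_ker]
  have := congrArg Subtype.val h3
  simpa using this

end Cfsg.Agent.Lib.Helper4
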