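import Mathlib
import Cfsg.Agent.Lib.Helper4.PCore
import Cfsg.Agent.Lib.Helper4.Coprime

set_option autoImplicit false

namespace Cfsg.Agent.Lib.Helper4

variable {G : Type*} [Group G] {p : ℕ}

/-- "characteristic `p`" transports along group isomorphisms -/
theorem charP_of_equiv {K K' : Type*} [Group K] [Group K'] (e : K ≃* K')
    (h : Subgroup.centralizer (Cfsg.pCore p K : Set K) ≤ Cfsg.pCore p K) :
    Subgroup.centralizer (Cfsg.pCore p K' : Set K') ≤ Cfsg.pCore p K' := by
  intro y hy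
  have h1 : e.symm y ∈ Subgroup.centralizer (Cfsg.pCore p K : Set K) := by
    rw [Subgroup.mem_centralizer_iff]
    intro q hq
    have hq' : e q ∈ Cfsg.pCore p K' := by
      rw [← pCore_map_equiv e]
      exact Subgroup.mem_map_of_mem _ hq
    have := (Subgroup.mem_centralizer_iff.mp hy) (e q) hq'
    apply e.injective
    rw [map_mul, map_mul, e.apply_symm_apply]
    exact this
  have h2 := h h1
  have h3 : e (e.symm y) ∈ Cfsg.pCore p K' := by
    rw [← pCore_map_equiv e]
    exact Subgroup.mem_map_of_mem _ h2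
  rwa [e.apply_symm_apply] at h3

/-- a normal `p`-subgroup of `G` meets a subgroup `H` inside `O_p(H)` -/
theorem subgroupOf_pCore_le (H : Subgroup G) :
    (Cfsg.pCore p G).subgroupOf H ≤ Cfsg.pCore p ↥H := by
  apply le_pCore
  · have := pCore_normal p G
    infer_instance
  · exact (pCore_isPGroup p G).comap_subtype

/-- characteristic `p` is inherited by normal subgroups -/
theorem charP_of_normal [Finite G] [Fact p.Prime]
    (hchar : Subgroup.centralizer (Cfsg.pCore p G : Set G) ≤ Cfsg.pCore p G)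
    (H : Subgroup G) (hH : H.Normal) :
    Subgroup.centralizer (Cfsg.pCore p ↥H : Set ↥H) ≤ Cfsg.pCore p ↥H := by
  have hn1 : (Cfsg.pCore p ↥H).Normal := pCore_normal p ↥H
  have hCn : (Subgroup.centralizer (Cfsg.pCore p ↥H : Set ↥H)).Normal := Subgroup.normal_centralizer
  apply le_pCore hCn
  apply isPGroup_of_coprime_trivial
  intro x hx hcop
  have hcop' : Nat.Coprime (orderOf (x : G)) p := by
    rw [Subgroup.orderOf_coe]; exact hcop
  have hxm : (x : G) ^ orderOf (x : G) = 1 := pow_orderOf_eq_one _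
  have hQn : (Cfsg.pCore p G).Normal := pCore_normal p G
  have hxc : (x : G) ∈ Subgroup.centralizer (Cfsg.pCore p G : Set G) := by
    rw [Subgroup.mem_centralizer_iff]
    intro q hq
    have hzH : (x : G) * q * (x : G)⁻¹ * q⁻¹ ∈ H := by
      have h1 : q * (x : G)⁻¹ * q⁻¹ ∈ H := hH.conj_mem _ (H.inv_mem x.2) q
      have : (x : G) * q * (x : G)⁻¹ * q⁻¹ = (x : G) * (q * (x : G)⁻¹ * q⁻¹) := by group
      rw [this]
      exact H.mul_mem x.2 h1
    have hzQ : (x : G) * q * (x : G)⁻¹ * q⁻¹ ∈ Cfsg.pCore p G :=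
      Subgroup.mul_mem _ (hQn.conj_mem _ hq _) (Subgroup.inv_mem _ hq)
    have hz' : (⟨(x : G) * q * (x : G)⁻¹ * q⁻¹, hzH⟩ : ↥H) ∈ Cfsg.pCore p ↥H := by
      apply subgroupOf_pCore_le H
      rw [Subgroup.mem_subgroupOf]
      exact hzQ
    have hcomm : Commute (x : G) ((x : G) * q * (x : G)⁻¹ * q⁻¹) := by
      have := (Subgroup.mem_centralizer_iff.mp hx) _ hz'
      have h2 := congrArg Subtype.val this
      exact h2.symm
    obtain ⟨k, hk⟩ := pow_eq_one_of_isPGroup (pCore_isPGroup p G) hzQ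
    have hz1 : (x : G) * q * (x : G)⁻¹ * q⁻¹ = 1 :=
      coprime_stab_eq_one (x : G) q _ (by group) hcomm hk hxm hcop'
    have : (x : G) * q = ((x : G) * q * (x : G)⁻¹ * q⁻¹) * (q * (x : G)) := by group
    rw [this, hz1, one_mul]
  obtain ⟨k, hk⟩ := pow_eq_one_of_isPGroup (pCore_isPGroup p G) (hchar hxc)
  have := eq_one_of_pow_of_coprime (x : G) hk hcop'
  exact Subtype.ext this

/-- characteristic `p` passes from `O^p(H)` up to `H` -/
theorem charP_of_pResidual [Finite G] [Fact p.Prime]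
    (hchar : Subgroup.centralizer (Cfsg.pCore p ↥(Cfsg.pResidual p G) : Set ↥(Cfsg.pResidual p G)) ≤
      Cfsg.pCore p ↥(Cfsg.pResidual p G)) :
    Subgroup.centralizer (Cfsg.pCore p G : Set G) ≤ Cfsg.pCore p G := by
  have hn1 : (Cfsg.pCore p G).Normal := pCore_normal p G
  have hCn : (Subgroup.centralizer (Cfsg.pCore p G : Set G)).Normal := Subgroup.normal_centralizer
  apply le_pCore hCn
  apply isPGroup_of_coprime_trivial
  intro x hx hcop
  have hxR : x ∈ Cfsg.pResidual p G := mem_pResidual_of_coprime hcop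
  have hRn : (Cfsg.pResidual p G).Normal := pResidual_normal p G
  have hchar2 : (Cfsg.pCore p ↥(Cfsg.pResidual p G)).Characteristic := pCore_characteristic p _
  have hmapn : ((Cfsg.pCore p ↥(Cfsg.pResidual p G)).map (Cfsg.pResidual p G).subtype).Normal :=
    ConjAct.normal_of_characteristic_of_normal
  have hmaple : (Cfsg.pCore p ↥(Cfsg.pResidual p G)).map (Cfsg.pResidual p G).subtype ≤
      Cfsg.pCore p G :=
    le_pCore hmapn ((pCore_isPGroup p _).map _)
  have hx' : (⟨x, hxR⟩ : ↥(Cfsg.pResidual p G)) ∈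
      Subgroup.centralizer (Cfsg.pCore p ↥(Cfsg.pResidual p G) : Set ↥(Cfsg.pResidual p G)) := by
    rw [Subgroup.mem_centralizer_iff]
    intro q hq
    have hq' : (q : G) ∈ Cfsg.pCore p G := hmaple (Subgroup.mem_map_of_mem _ hq)
    have := (Subgroup.mem_centralizer_iff.mp hx) _ hq'
    exact Subtype.ext this
  obtain ⟨k, hk⟩ := (pCore_isPGroup p ↥(Cfsg.pResidual p G)) ⟨_, hchar hx'⟩
  have hk' : x ^ (p ^ k) = 1 := by
    have := congrArg (fun z : ↥(Cfsg.pCore p ↥(Cfsg.pResidual p G)) => ((z : ↥(Cfsg.pResidual p G)) : G)) hk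
    simpa using this
  exact eq_one_of_pow_of_coprime x hk' hcop

end Cfsg.Agent.Lib.Helper4
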