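import Mathlib

set_option autoImplicit false

namespace Cfsg.Agent.Lib.Helper4

variable {G G' : Type*} [Group G] [Group G']

theorem isCoatom_comap_of_surjective {f : G →* G'} (hf : Function.Surjective f)
    {K : Subgroup G'} (hK : IsCoatom K) : IsCoatom (K.comap f) := by
  refine ⟨?_, ?_⟩
  · intro h
    apply hK.1
    rw [← Subgroup.map_comap_eq_self_of_surjective hf K, h, Subgroup.map_top_of_surjective f hf]
  · intro L hL
    have hker : f.ker ≤ L := le_trans (Subgroup.ker_le_comap f K) hL.le
    have h1 : K ≤ L.map f := by
      rw [← Subgroup.map_comap_eq_self_of_surjective hf K]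
      exact Subgroup.map_mono hL.le
    have h2 : K ≠ L.map f := by
      intro h
      apply hL.ne
      rw [h, Subgroup.comap_map_eq_self hker]
    have h3 := hK.2 _ (lt_of_le_of_ne h1 h2)
    rw [← Subgroup.comap_map_eq_self hker, h3, Subgroup.comap_top]

theorem isCoatom_map_of_surjective {f : G →* G'} (hf : Function.Surjective f)
    {M : Subgroup G} (hM : IsCoatom M) (hker : f.ker ≤ M) : IsCoatom (M.map f) := by
  refine ⟨?_, ?_⟩
  · intro h
    apply hM.1
    rw [← Subgroup.comap_map_eq_self hker, h, Subgroup.comap_top]
  · intro L hL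
    have h1 : M ≤ L.comap f := by
      rw [← Subgroup.comap_map_eq_self hker]
      exact Subgroup.comap_mono hL.le
    have h2 : M ≠ L.comap f := by
      intro h
      apply hL.ne
      rw [h, Subgroup.map_comap_eq_self_of_surjective hf]
    have h3 := hM.2 _ (lt_of_le_of_ne h1 h2)
    rw [← Subgroup.map_comap_eq_self_of_surjective hf L, h3, Subgroup.map_top_of_surjective f hf]

end Cfsg.Agent.Lib.Helper4
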