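import Mathlib

set_option autoImplicit false

namespace Cfsg.Agent.Lib.Helper4

/-- A prime dividing the lcm of a multiset of naturals divides one of its members. -/
theorem prime_dvd_multiset_lcm {p : ℕ} (hp : p.Prime) {m : Multiset ℕ} (h : p ∣ m.lcm) :
    ∃ a ∈ m, p ∣ a := by
  have h1 : m.lcm ∣ m.prod := Multiset.lcm_dvd.2 fun b hb => Multiset.dvd_prod hb
  exact (Nat.Prime.prime hp).exists_mem_multiset_dvd (h.trans h1)

/-- Members of a multiset of naturals are at most its sum. -/
theorem multiset_le_sum {m : Multiset ℕ} {a : ℕ} (ha : a ∈ m) : a ≤ m.sum := by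
  rw [← Multiset.cons_erase ha, Multiset.sum_cons]
  exact Nat.le_add_right _ _

/-- Two distinct members of a multiset of naturals have sum at most its sum. -/
theorem multiset_add_le_sum {m : Multiset ℕ} {a b : ℕ} (ha : a ∈ m) (hb : b ∈ m) (hab : b ≠ a) :
    a + b ≤ m.sum := by
  rw [← Multiset.cons_erase ha, Multiset.sum_cons]
  have : b ∈ m.erase a := (Multiset.mem_erase_of_ne hab).2 hb
  have := multiset_le_sum this
  omega

/-- A multiset of naturals all at least `c` has sum at least `c` times its cardinality. -/
theorem multiset_card_mul_le_sum {m : Multiset ℕ} {c : ℕ} (h : ∀ a ∈ m, c ≤ a) :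
    c * Multiset.card m ≤ m.sum := by
  induction m using Multiset.induction_on with
  | empty => simp
  | cons a s ih =>
    rw [Multiset.card_cons, Multiset.sum_cons]
    have h1 := h a (Multiset.mem_cons_self a s)
    have h2 := ih fun b hb => h b (Multiset.mem_cons_of_mem hb)
    rw [Nat.mul_succ]
    omega

/-- The sign of a permutation is `(-1)` to the number of cycles of even length. -/
theorem sign_eq_neg_one_pow_card_even {α : Type*} [Fintype α] [DecidableEq α]
    (f : Equiv.Perm α) :
    Equiv.Perm.sign f = (-1 : ℤˣ) ^ Multiset.card (f.cycleType.filter (fun n => Even n)) := by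
  rw [Equiv.Perm.sign_of_cycleType']
  induction f.cycleType using Multiset.induction_on with
  | empty => rfl
  | cons a s ihs =>
    rw [Multiset.map_cons, Multiset.prod_cons, ihs]
    by_cases ha : Even a
    · rw [Multiset.filter_cons_of_pos _ ha, Multiset.card_cons, pow_succ, ha.neg_one_pow]
      simp
    · rw [Multiset.filter_cons_of_neg _ ha, (Nat.not_even_iff_odd.1 ha).neg_one_pow]
      simp

/-- An even permutation has an even number of cycles of even length. -/
theorem even_card_even_cycles {α : Type*} [Fintype α] [DecidableEq α]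
    (f : Equiv.Perm α) (hf : Equiv.Perm.sign f = 1) :
    Even (Multiset.card (f.cycleType.filter (fun n => Even n))) := by
  rw [sign_eq_neg_one_pow_card_even] at hf
  by_contra h
  rw [(Nat.not_even_iff_odd.1 h).neg_one_pow] at hf
  exact absurd hf (by decide)

end Cfsg.Agent.Lib.Helper4
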