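import Mathlib

set_option autoImplicit false

namespace Cfsg.Agent.Lib.Helper4

/-- The number of conjugacy classes of a group with an abelian subgroup `A` of index two that
is inverted by an element `w` outside it, where `A` has a unique involution `z`
(dihedral-like and dicyclic-like groups with `|A|` even): `2 k = |A| + 6`. -/
theorem card_conjClasses_dicyclic {G : Type*} [Group G] [Finite G] (A : Subgroup G) (w z : G)
    (hw : w ∉ A) (hcov : ∀ g : G, g ∈ A ∨ w⁻¹ * g ∈ A)
    (hinv : ∀ a ∈ A, w * a * w⁻¹ = a⁻¹)
    (hcomm : ∀ a ∈ A, ∀ b ∈ A, a * b = b * a)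
    (hz : z ∈ A) (hz1 : z ≠ 1) (hzz : z * z = 1)
    (hsq : ∀ a ∈ A, a * a = 1 → a = 1 ∨ a = z) :
    2 * Nat.card (ConjClasses G) = Nat.card A + 6 := by
  classical
  have := Fintype.ofFinite G
  have hidx : A.index = 2 := by
    rw [Subgroup.index_eq_two_iff]
    refine ⟨w⁻¹, fun b => ?_⟩
    by_cases hb : b ∈ A
    · right
      refine ⟨hb, fun h => hw ?_⟩
      have h1 := A.mul_mem (A.inv_mem hb) h
      have h2 : b⁻¹ * (b * w⁻¹) = w⁻¹ := by group
      rw [h2] at h1
      exact (A.inv_mem_iff).1 h1
    · left
      refine ⟨?_, hb⟩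
      have h1 : w⁻¹ * b ∈ A := (hcov b).resolve_left hb
      have h2 := hinv _ h1
      have h3 : b * w⁻¹ = (w⁻¹ * b)⁻¹ := by
        rw [← h2]
        group
      rw [h3]
      exact A.inv_mem h1
  have hG : Nat.card G = 2 * Nat.card A := by
    rw [← Subgroup.card_mul_index A, hidx, mul_comm]
  have hzinv : z⁻¹ = z := inv_eq_of_mul_eq_one_left hzz
  have hwz : w * z = z * w := by
    have h1 := hinv z hz
    rw [hzinv] at h1
    calc w * z = w * z * w⁻¹ * w := by group
      _ = z * w := by rw [h1]
  have hout : ∀ x, x ∉ A → ∃ a ∈ A, x = w * a := fun x hx =>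
    ⟨w⁻¹ * x, (hcov x).resolve_left hx, by group⟩
  have hinv' : ∀ x, x ∉ A → ∀ b ∈ A, x * b * x⁻¹ = b⁻¹ := by
    intro x hx b hb
    obtain ⟨a, ha, rfl⟩ := hout x hx
    have h1 : a * b * a⁻¹ = b := by
      rw [hcomm a ha b hb]
      group
    calc w * a * b * (w * a)⁻¹ = w * (a * b * a⁻¹) * w⁻¹ := by group
      _ = b⁻¹ := by rw [h1, hinv b hb]
  have hzc : ∀ y : G, Commute z y := by
    intro y
    by_cases hy : y ∈ A
    · exact hcomm z hz y hy
    · obtain ⟨a, ha, rfl⟩ := hout y hy
      show z * (w * a) = w * a * z
      rw [← mul_assoc, ← hwz, mul_assoc, mul_assoc, hcomm z hz a ha]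
  have hsq' : ∀ x y : G, y ∈ A → x * y * x⁻¹ = y⁻¹ → x * y * x⁻¹ = y → y = 1 ∨ y = z := by
    intro x y hy h1 h2
    have h3 : y⁻¹ = y := h1.symm.trans h2
    have h4 : y * y = 1 := by
      nth_rewrite 1 [← h3]
      exact inv_mul_cancel y
    exact hsq y hy h4
  have hc1 : ∀ x, (x = 1 ∨ x = z) → Nat.card {y : G // Commute x y} = 2 * Nat.card A := by
    intro x hx
    have hall : ∀ y : G, Commute x y := by
      intro y
      rcases hx with rfl | rfl
      · exact Commute.one_left y
      · exact hzc y
    rw [← hG]
    exact Nat.card_congr (Equiv.subtypeUnivEquiv hall)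
  have hc2 : ∀ x, x ∈ A → x ≠ 1 → x ≠ z → Nat.card {y : G // Commute x y} = Nat.card A := by
    intro x hx hx1 hxz
    have hset : ∀ y : G, Commute x y ↔ y ∈ A := by
      intro y
      constructor
      · intro hc
        by_contra hy
        have h1 := hinv' y hy x hx
        have h2 : y * x * y⁻¹ = x := by
          rw [← hc.eq]
          group
        rcases hsq' y x hx h1 h2 with h | h
        · exact hx1 h
        · exact hxz h
      · intro hy
        exact hcomm x hx y hy
    exact Nat.card_congr (Equiv.subtypeEquivRight hset)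
  have hc3 : ∀ x, x ∉ A → Nat.card {y : G // Commute x y} = 4 := by
    intro x hx
    have hx1 : x ≠ 1 := fun h => hx (h ▸ A.one_mem)
    have hxz : x ≠ z := fun h => hx (h ▸ hz)
    have hset : ∀ y : G, Commute x y ↔ y ∈ ({1, z, x, x * z} : Finset G) := by
      intro y
      simp only [Finset.mem_insert, Finset.mem_singleton]
      constructor
      · intro hc
        by_cases hy : y ∈ A
        · have h1 := hinv' x hx y hy
          have h2 : x * y * x⁻¹ = y := by
            rw [hc.eq]
            group
          rcases hsq' x y hy h1 h2 with h | h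
          · left
            exact h
          · right; left
            exact h
        · have hcA : x⁻¹ * y ∈ A := by
            obtain ⟨a, ha, rfl⟩ := hout x hx
            obtain ⟨b, hb, rfl⟩ := hout y hy
            have : (w * a)⁻¹ * (w * b) = a⁻¹ * b := by group
            rw [this]
            exact A.mul_mem (A.inv_mem ha) hb
          have h1 := hinv' x hx _ hcA
          have h2 : x * (x⁻¹ * y) * x⁻¹ = x⁻¹ * y := by
            have : x * (x⁻¹ * y) * x⁻¹ = x⁻¹ * (x * y) * x⁻¹ := by group
            rw [this, hc.eq]
            group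
          rcases hsq' x _ hcA h1 h2 with h | h
          · right; right; left
            have : y = x * (x⁻¹ * y) := by group
            rw [this, h, mul_one]
          · right; right; right
            have : y = x * (x⁻¹ * y) := by group
            rw [this, h]
      · rintro (h | h | h | h)
        · rw [h]
          exact Commute.one_right x
        · rw [h]
          exact (hzc x).symm
        · rw [h]
        · rw [h]
          show x * (x * z) = x * z * x
          rw [mul_assoc, (hzc x).eq]
    rw [Nat.card_congr (Equiv.subtypeEquivRight hset), Nat.card_eq_fintype_card, Fintype.card_coe]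
    have h1 : x ≠ x * z := by
      intro h
      apply hz1
      have : x * z = x * 1 := by rw [← h, mul_one]
      exact mul_left_cancel this
    have h2 : z ∉ ({x, x * z} : Finset G) := by
      simp only [Finset.mem_insert, Finset.mem_singleton, not_or]
      refine ⟨fun h => hxz h.symm, fun h => hx1 ?_⟩
      have : 1 * z = x * z := by rw [one_mul]; exact h
      exact (mul_right_cancel this).symm
    have h3 : (1 : G) ∉ ({z, x, x * z} : Finset G) := by
      simp only [Finset.mem_insert, Finset.mem_singleton, not_or]
      refine ⟨fun h => hz1 h.symm, fun h => hx1 h.symm, fun h => hx ?_⟩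
      have : x = z⁻¹ := eq_inv_of_mul_eq_one_left h.symm
      rw [this]
      exact A.inv_mem hz
    rw [Finset.card_insert_of_notMem h3, Finset.card_insert_of_notMem h2,
      Finset.card_pair h1]
  have key := card_comm_eq_card_conjClasses_mul_card G
  rw [Nat.card_congr (Equiv.subtypeProdEquivSigmaSubtype Commute), Nat.card_sigma] at key
  have hc : ∀ x : G, Nat.card {y : G // Commute x y} =
      if x ∈ A then (if x = 1 ∨ x = z then 2 * Nat.card A else Nat.card A) else 4 := by
    intro x
    by_cases hxA : x ∈ A
    · rw [if_pos hxA]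
      by_cases hx : x = 1 ∨ x = z
      · rw [if_pos hx]
        exact hc1 x hx
      · rw [if_neg hx]
        push Not at hx
        exact hc2 x hxA hx.1 hx.2
    · rw [if_neg hxA]
      exact hc3 x hxA
  rw [Finset.sum_congr rfl (fun x _ => hc x), Finset.sum_ite, Finset.sum_ite, Finset.sum_const,
    Finset.sum_const, Finset.sum_const, smul_eq_mul, smul_eq_mul, smul_eq_mul] at key
  have hA : (Finset.univ.filter (fun x : G => x ∈ A)).card = Nat.card A := by
    rw [Nat.card_eq_fintype_card, Fintype.card_subtype]
  have hnA : (Finset.univ.filter (fun x : G => ¬ x ∈ A)).card = Nat.card A := by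
    have h1 := Finset.card_filter_add_card_filter_not (s := (Finset.univ : Finset G))
      (fun x : G => x ∈ A)
    rw [hA, Finset.card_univ, ← Nat.card_eq_fintype_card, hG] at h1
    omega
  have h2 : ((Finset.univ.filter (fun x : G => x ∈ A)).filter (fun x => x = 1 ∨ x = z)).card = 2 := by
    have : ((Finset.univ.filter (fun x : G => x ∈ A)).filter (fun x => x = 1 ∨ x = z)) = {1, z} := by
      ext x
      simp only [Finset.mem_filter, Finset.mem_univ, true_and, Finset.mem_insert,
        Finset.mem_singleton]
      constructor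
      · exact fun h => h.2
      · rintro (rfl | rfl)
        · exact ⟨A.one_mem, Or.inl rfl⟩
        · exact ⟨hz, Or.inr rfl⟩
    rw [this, Finset.card_pair hz1.symm]
  have h3 := Finset.card_filter_add_card_filter_not
    (s := (Finset.univ.filter (fun x : G => x ∈ A))) (fun x => x = 1 ∨ x = z)
  rw [h2, hA] at h3
  rw [h2, hnA, hG] at key
  obtain ⟨m, hm⟩ : ∃ m, m = ((Finset.univ.filter (fun x : G => x ∈ A)).filter
      (fun x => ¬ (x = 1 ∨ x = z))).card := ⟨_, rfl⟩
  rw [← hm] at h3 key
  rw [← h3] at key ⊢
  have h5 : (2 + m) * (2 * Nat.card (ConjClasses G)) = (2 + m) * (2 + m + 6) := by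
    have : Nat.card (ConjClasses G) * (2 * (2 + m)) = (2 + m) * (2 * Nat.card (ConjClasses G)) := by
      ring
    rw [← this, ← key]
    ring
  exact Nat.eq_of_mul_eq_mul_left (by omega) h5

end Cfsg.Agent.Lib.Helper4
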