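import Mathlib
import Cfsg.Prelude.Def_ParabolicCharacters

set_option autoImplicit false

namespace Cfsg.Agent.Lib.Helper4

variable {F : Type*} [Field F]

theorem mem_borel2_iff (h : Matrix.GeneralLinearGroup (Fin 2) F) :
    h ∈ Cfsg.upperTriangularGL 2 F ↔ (h : Matrix (Fin 2) (Fin 2) F) 1 0 = 0 := by
  constructor
  · intro hh
    exact hh (show id (0 : Fin 2) < id (1 : Fin 2) by decide)
  · intro h0 i j hij
    fin_cases i <;> fin_cases j
    · exact absurd hij (by decide)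
    · exact absurd hij (by decide)
    · exact h0
    · exact absurd hij (by decide)

/-- The determinant of the matrix with columns `x e₁` and `g x e₁`. -/
def eigDet (g x : Matrix.GeneralLinearGroup (Fin 2) F) : F :=
  (x : Matrix (Fin 2) (Fin 2) F) 0 0 * ((g : Matrix (Fin 2) (Fin 2) F) 1 0 *
    (x : Matrix (Fin 2) (Fin 2) F) 0 0 + (g : Matrix (Fin 2) (Fin 2) F) 1 1 *
    (x : Matrix (Fin 2) (Fin 2) F) 1 0) - (x : Matrix (Fin 2) (Fin 2) F) 1 0 *
    ((g : Matrix (Fin 2) (Fin 2) F) 0 0 * (x : Matrix (Fin 2) (Fin 2) F) 0 0 +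
    (g : Matrix (Fin 2) (Fin 2) F) 0 1 * (x : Matrix (Fin 2) (Fin 2) F) 1 0)

theorem eigDet_eq (g x : Matrix.GeneralLinearGroup (Fin 2) F) :
    eigDet g x = ((x⁻¹ * g * x : Matrix.GeneralLinearGroup (Fin 2) F) : Matrix (Fin 2) (Fin 2) F) 1 0 *
      Matrix.det (x : Matrix (Fin 2) (Fin 2) F) := by
  have h1 : x * (x⁻¹ * g * x) = g * x := by group
  have h2 : (x : Matrix (Fin 2) (Fin 2) F) *
      ((x⁻¹ * g * x : Matrix.GeneralLinearGroup (Fin 2) F) : Matrix (Fin 2) (Fin 2) F) =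
      (g : Matrix (Fin 2) (Fin 2) F) * (x : Matrix (Fin 2) (Fin 2) F) := by
    rw [← Units.val_mul, ← Units.val_mul, h1]
  have e00 := congrFun (congrFun h2 0) 0
  have e10 := congrFun (congrFun h2 1) 0
  simp only [Matrix.mul_apply, Fin.sum_univ_two] at e00 e10
  rw [Matrix.det_fin_two]
  unfold eigDet
  linear_combination (-(x : Matrix (Fin 2) (Fin 2) F) 0 0) * e10 +
    (x : Matrix (Fin 2) (Fin 2) F) 1 0 * e00

theorem gl2_det_ne_zero (x : Matrix.GeneralLinearGroup (Fin 2) F) :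
    Matrix.det (x : Matrix (Fin 2) (Fin 2) F) ≠ 0 :=
  (Matrix.GeneralLinearGroup.det x).ne_zero

theorem borel2_fixed_iff (g x : Matrix.GeneralLinearGroup (Fin 2) F) :
    g • (QuotientGroup.mk x : Matrix.GeneralLinearGroup (Fin 2) F ⧸ Cfsg.upperTriangularGL 2 F) =
      QuotientGroup.mk x ↔ eigDet g x = 0 := by
  have h1 : g • (QuotientGroup.mk x : Matrix.GeneralLinearGroup (Fin 2) F ⧸ Cfsg.upperTriangularGL 2 F) =
      QuotientGroup.mk (g * x) := rfl
  rw [h1, QuotientGroup.eq, ← Subgroup.inv_mem_iff]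
  have h2 : ((g * x)⁻¹ * x)⁻¹ = x⁻¹ * g * x := by group
  rw [h2, mem_borel2_iff, eigDet_eq]
  constructor
  · intro h; rw [h, zero_mul]
  · intro h
    exact (mul_eq_zero.1 h).resolve_right (gl2_det_ne_zero x)

theorem card_borel2 [Fintype F] :
    Nat.card ↥(Cfsg.upperTriangularGL 2 F) = Fintype.card F * (Fintype.card F - 1) ^ 2 := by
  classical
  have hnz : ∀ h : Matrix.GeneralLinearGroup (Fin 2) F, h ∈ Cfsg.upperTriangularGL 2 F →
      ((h : Matrix (Fin 2) (Fin 2) F) 0 0 ≠ 0 ∧ (h : Matrix (Fin 2) (Fin 2) F) 1 1 ≠ 0) := by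
    intro h hh
    have e1 := (mem_borel2_iff h).1 hh
    have hdn := gl2_det_ne_zero h
    rw [Matrix.det_fin_two, e1, mul_zero, sub_zero] at hdn
    exact ⟨left_ne_zero_of_mul hdn, right_ne_zero_of_mul hdn⟩
  have hbij : Function.Bijective (fun h : ↥(Cfsg.upperTriangularGL 2 F) =>
      ((Units.mk0 _ (hnz h.1 h.2).1, Units.mk0 _ (hnz h.1 h.2).2,
        ((h : Matrix.GeneralLinearGroup (Fin 2) F) : Matrix (Fin 2) (Fin 2) F) 0 1) : Fˣ × Fˣ × F)) := by
    constructor
    · intro h h' hh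
      simp only [Prod.mk.injEq, Units.mk0_inj] at hh
      have e1 := (mem_borel2_iff h.1).1 h.2
      have e1' := (mem_borel2_iff h'.1).1 h'.2
      apply Subtype.ext
      apply Units.ext
      rw [Matrix.eta_fin_two ((h : Matrix.GeneralLinearGroup (Fin 2) F) : Matrix (Fin 2) (Fin 2) F),
        Matrix.eta_fin_two ((h' : Matrix.GeneralLinearGroup (Fin 2) F) : Matrix (Fin 2) (Fin 2) F),
        e1, e1', hh.1, hh.2.1, hh.2.2]
    · rintro ⟨x, y, z⟩
      refine ⟨⟨Matrix.GeneralLinearGroup.mkOfDetNeZero !![(x : F), z; 0, (y : F)] (by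
        simp [Matrix.det_fin_two]), (mem_borel2_iff _).2 rfl⟩, ?_⟩
      refine Prod.ext (Units.ext rfl) (Prod.ext (Units.ext rfl) rfl)
  rw [Nat.card_congr (Equiv.ofBijective _ hbij), Nat.card_prod, Nat.card_prod,
    Nat.card_eq_fintype_card, Fintype.card_units, Nat.card_eq_fintype_card]
  ring

theorem index_borel2 [Fintype F] :
    (Cfsg.upperTriangularGL 2 F).index = Fintype.card F + 1 := by
  classical
  have h1 := (Cfsg.upperTriangularGL 2 F).card_mul_index
  rw [card_borel2, Matrix.card_GL_field, Fin.prod_univ_two] at h1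
  simp only [Fin.val_zero, Fin.val_one, pow_zero, pow_one] at h1
  obtain ⟨r, hr⟩ := Nat.exists_eq_succ_of_ne_zero (Fintype.card_ne_zero (α := F))
  have hr1 : 1 ≤ r := by
    have := Fintype.one_lt_card (α := F)
    omega
  rw [hr] at h1 ⊢
  simp only [Nat.succ_eq_add_one, Nat.add_sub_cancel] at h1 ⊢
  have e1 : (r + 1) ^ 2 - 1 = r * (r + 2) := by
    have : (r + 1) ^ 2 = r * (r + 2) + 1 := by ring
    omega
  have e2 : (r + 1) ^ 2 - (r + 1) = r * (r + 1) := by
    have : (r + 1) ^ 2 = r * (r + 1) + (r + 1) := by ring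
    omega
  rw [e1, e2] at h1
  have h3 : (r + 1) * r ^ 2 * (Cfsg.upperTriangularGL 2 F).index = (r + 1) * r ^ 2 * (r + 1 + 1) := by
    rw [h1]; ring
  exact Nat.eq_of_mul_eq_mul_left (by positivity) h3

end Cfsg.Agent.Lib.Helper4
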