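import Mathlib

set_option autoImplicit false

namespace Cfsg.Agent.Lib.Helper4

/-- if `G = D M` with `D` normal and `Q ≤ D ⊓ M` has `p'`-index in `D`, then `M` has `p'`-index -/
theorem not_dvd_index_of_sup_eq_top {G : Type*} [Group G] [Finite G] {p : ℕ}
    (D M Q : Subgroup G) [D.Normal] (hsup : D ⊔ M = ⊤) (hQD : Q ≤ D) (hQM : Q ≤ M)
    (hQ : ¬ p ∣ Q.relIndex D) : ¬ p ∣ M.index := by
  have e1 : D.relIndex M = D.index := by
    have h := Subgroup.relIndex_sup_right (H := M) (K := D)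
    rw [sup_comm, hsup, Subgroup.relIndex_top_right] at h
    exact h.symm
  have e2 : (D ⊓ M).relIndex M = D.index := by rw [Subgroup.inf_relIndex_right, e1]
  have c1 : (⊥ : Subgroup G).relIndex (D ⊓ M) * (D ⊓ M).relIndex M = (⊥ : Subgroup G).relIndex M :=
    Subgroup.relIndex_mul_relIndex _ _ _ bot_le inf_le_right
  have c2 : (⊥ : Subgroup G).relIndex (D ⊓ M) * (D ⊓ M).relIndex D = (⊥ : Subgroup G).relIndex D :=
    Subgroup.relIndex_mul_relIndex _ _ _ bot_le inf_le_left
  have c3 : (⊥ : Subgroup G).relIndex M * M.index = (⊥ : Subgroup G).index :=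
    Subgroup.relIndex_mul_index bot_le
  have c4 : (⊥ : Subgroup G).relIndex D * D.index = (⊥ : Subgroup G).index :=
    Subgroup.relIndex_mul_index bot_le
  have hpos : 0 < (⊥ : Subgroup G).relIndex (D ⊓ M) * D.index := by
    apply Nat.mul_pos
    · rw [Subgroup.relIndex_bot_left]; exact Nat.card_pos
    · exact Nat.pos_of_ne_zero Subgroup.index_ne_zero_of_finite
  have e3 : M.index = (D ⊓ M).relIndex D := by
    apply Nat.eq_of_mul_eq_mul_left hpos
    calc (⊥ : Subgroup G).relIndex (D ⊓ M) * D.index * M.index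
        = ((⊥ : Subgroup G).relIndex (D ⊓ M) * (D ⊓ M).relIndex M) * M.index := by rw [e2]
      _ = (⊥ : Subgroup G).index := by rw [c1, c3]
      _ = ((⊥ : Subgroup G).relIndex (D ⊓ M) * (D ⊓ M).relIndex D) * D.index := by rw [c2, c4]
      _ = (⊥ : Subgroup G).relIndex (D ⊓ M) * D.index * (D ⊓ M).relIndex D := by ring
  rw [e3]
  intro hdvd
  exact hQ (hdvd.trans (Subgroup.relIndex_dvd_of_le_left D (le_inf hQD hQM)))

/-- a `p`-subgroup is conjugate into any subgroup of index prime to `p` -/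
theorem exists_conj_le_of_not_dvd_index {G : Type*} [Group G] [Finite G] {p : ℕ} [Fact p.Prime]
    (P : Subgroup G) (hP : IsPGroup p P) (M : Subgroup G) (h : ¬ p ∣ M.index) :
    ∃ g : G, ∀ x ∈ P, g⁻¹ * x * g ∈ M := by
  obtain ⟨q, hq⟩ := hP.nonempty_fixed_point_of_prime_not_dvd_card (G ⧸ M) h
  induction q using QuotientGroup.induction_on with
  | H g =>
    refine ⟨g, fun x hx => ?_⟩
    have h1 := hq ⟨x⁻¹, P.inv_mem hx⟩
    have h2 : (QuotientGroup.mk (x⁻¹ * g) : G ⧸ M) = QuotientGroup.mk g := h1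
    rw [QuotientGroup.eq] at h2
    have e : (x⁻¹ * g)⁻¹ * g = g⁻¹ * x * g := by group
    rwa [e] at h2

end Cfsg.Agent.Lib.Helper4
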