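import Mathlib

set_option autoImplicit false

namespace Cfsg.Agent.Lib.Helper4

section

variable {G A : Type*} [Group G] [CommGroup A] (φ : G →* MulAut A) (S : Subgroup G)
  [Fintype (G ⧸ S)]

/-- the trace (norm) of an element over the cosets of `S` -/
noncomputable def cosetTrace (x : A) : A := ∏ q : G ⧸ S, φ q.out x

variable {φ S}

theorem cosetTrace_out_eq {x : A} (hx : ∀ s ∈ S, φ s x = x) (a : G) :
    φ (QuotientGroup.mk a : G ⧸ S).out x = φ a x := by
  obtain ⟨s, hs⟩ := QuotientGroup.mk_out_eq_mul S a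
  rw [hs, map_mul, MulAut.mul_apply, hx s s.2]

theorem cosetTrace_fixed {x : A} (hx : ∀ s ∈ S, φ s x = x) (g : G) :
    φ g (cosetTrace φ S x) = cosetTrace φ S x := by
  unfold cosetTrace
  rw [map_prod]
  rw [← Equiv.prod_comp (MulAction.toPerm g) (fun q : G ⧸ S => φ q.out x)]
  apply Finset.prod_congr rfl
  intro q _
  have e : (MulAction.toPerm g) q = (QuotientGroup.mk (g * q.out) : G ⧸ S) := by
    conv_lhs => rw [← QuotientGroup.out_eq' q]
    rfl
  rw [e, cosetTrace_out_eq hx, map_mul, MulAut.mul_apply]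

theorem cosetTrace_mul (x y : A) :
    cosetTrace φ S (x * y) = cosetTrace φ S x * cosetTrace φ S y := by
  unfold cosetTrace
  rw [← Finset.prod_mul_distrib]
  apply Finset.prod_congr rfl
  intro q _
  rw [map_mul]

theorem cosetTrace_of_fixed {y : A} (hy : ∀ g, φ g y = y) :
    cosetTrace φ S y = y ^ Fintype.card (G ⧸ S) := by
  unfold cosetTrace
  rw [Finset.prod_congr rfl (fun q _ => hy q.out), Finset.prod_const, Finset.card_univ]

theorem cosetTrace_div_pow_mem {x : A} (B : Subgroup A) (hB : ∀ g, φ g x / x ∈ B) :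
    cosetTrace φ S x / x ^ Fintype.card (G ⧸ S) ∈ B := by
  have e : cosetTrace φ S x / x ^ (Fintype.card (G ⧸ S)) = ∏ q : G ⧸ S, (φ q.out x / x) := by
    unfold cosetTrace
    rw [Finset.prod_div_distrib, Finset.prod_const, Finset.card_univ]
  rw [e]
  exact Subgroup.prod_mem _ (fun q _ => hB _)

theorem cosetTrace_equivariant (θ : G ≃* G) (hθ : ∀ s, s ∈ S ↔ θ s ∈ S) (θA : A ≃* A)
    (hcomp : ∀ g a, θA (φ g a) = φ (θ g) (θA a)) {x : A} (hx : ∀ s ∈ S, φ s x = x) :
    θA (cosetTrace φ S x) = cosetTrace φ S (θA x) := by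
  have hx' : ∀ s ∈ S, φ s (θA x) = θA x := by
    intro s hs
    have h1 : θ.symm s ∈ S := by
      rw [hθ]; simpa using hs
    have h2 := hcomp (θ.symm s) x
    rw [hx _ h1] at h2
    simpa using h2.symm
  let θq : G ⧸ S ≃ G ⧸ S := Quotient.congr θ.toEquiv (by
    intro a b
    show QuotientGroup.leftRel S a b ↔ QuotientGroup.leftRel S (θ a) (θ b)
    rw [QuotientGroup.leftRel_apply, QuotientGroup.leftRel_apply, hθ]
    simp)
  unfold cosetTrace
  rw [map_prod, ← Equiv.prod_comp θq (fun q : G ⧸ S => φ q.out (θA x))]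
  apply Finset.prod_congr rfl
  intro q _
  have e : θq q = (QuotientGroup.mk (θ q.out) : G ⧸ S) := by
    conv_lhs => rw [← QuotientGroup.out_eq' q]
    rfl
  rw [hcomp, e, cosetTrace_out_eq hx']

theorem cosetTrace_pow (x : A) (k : ℕ) :
    cosetTrace φ S (x ^ k) = cosetTrace φ S x ^ k := by
  unfold cosetTrace
  rw [← Finset.prod_pow]
  apply Finset.prod_congr rfl
  intro q _
  rw [map_pow]

theorem cosetTrace_one : cosetTrace φ S (1 : A) = 1 := by
  unfold cosetTrace
  apply Finset.prod_eq_one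
  intro q _
  rw [map_one]

end

end Cfsg.Agent.Lib.Helper4
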