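import Mathlib
import Cfsg.Prelude.Def_Solvable
import Cfsg.Prelude.Def_Transfer
import Cfsg.Prelude.Def_LocalEven
import Cfsg.Prelude.Def_LocalStructure
import Cfsg.Prelude.Def_Amalgam
import Cfsg.Agent.Lib.Helper4.PCore
import Cfsg.Agent.Lib.Helper4.PClosed
import Cfsg.Agent.Lib.Helper4.PReduced
import Cfsg.Agent.Lib.Helper4.Normalizer
import Cfsg.Agent.Lib.Helper4.SylowCenter
import Cfsg.Agent.Lib.Helper4.CharP
import Cfsg.Agent.Lib.Helper4.Trace
import Cfsg.Agent.Lib.Helper4.KielerCore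

set_option autoImplicit false

namespace Cfsg.Agent.Lib.Helper4

variable {G : Type*} [Group G] {p : ℕ}

theorem mem_centralizer_omegaOne_iff {B : Subgroup G} {y : G} :
    y ∈ Subgroup.centralizer ((Cfsg.omegaOne p B : Subgroup G) : Set G) ↔
      ∀ x ∈ B, x ^ p = 1 → x * y = y * x := by
  constructor
  · intro h x hx hxp
    rw [Subgroup.mem_centralizer_iff] at h
    exact h x (Subgroup.subset_closure ⟨hx, hxp⟩)
  · intro h
    have hle : Cfsg.omegaOne p B ≤ Subgroup.centralizer ({y} : Set G) := by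
      unfold Cfsg.omegaOne
      rw [Subgroup.closure_le]
      rintro x ⟨hx, hxp⟩
      rw [SetLike.mem_coe, Subgroup.mem_centralizer_iff]
      intro z hz
      rw [Set.mem_singleton_iff] at hz
      subst hz
      exact (h x hx hxp).symm
    rw [Subgroup.mem_centralizer_iff]
    intro x hx
    have h1 := hle hx
    rw [Subgroup.mem_centralizer_iff] at h1
    exact (h1 y rfl).symm

theorem omegaOne_le (B : Subgroup G) : Cfsg.omegaOne p B ≤ B := by
  unfold Cfsg.omegaOne
  rw [Subgroup.closure_le]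
  rintro x ⟨hx, -⟩
  exact hx

theorem le_normalizer_omegaOne {B S : Subgroup G}
    (h : S ≤ Subgroup.normalizer (B : Set G)) :
    S ≤ Subgroup.normalizer ((Cfsg.omegaOne p B : Subgroup G) : Set G) := by
  apply le_normalizer_of_conj_mem
  intro s hs x hx
  have hmap : (Cfsg.omegaOne p B).map (MulAut.conj s).toMonoidHom ≤ Cfsg.omegaOne p B := by
    unfold Cfsg.omegaOne
    rw [MonoidHom.map_closure, Subgroup.closure_le]
    rintro _ ⟨x, ⟨hx, hxp⟩, rfl⟩
    apply Subgroup.subset_closure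
    refine ⟨conj_mem_of_mem_normalizer (h hs) hx, ?_⟩
    simp only [MulEquiv.coe_toMonoidHom, MulAut.conj_apply]
    rw [conj_pow, hxp]; group
  exact hmap ⟨x, hx, rfl⟩

/-- direction (I) of the normal case of the Kieler lemma -/
theorem kieler_normal_one [Finite G] [Fact p.Prime]
    (hG : Subgroup.centralizer (Cfsg.pCore p G : Set G) ≤ Cfsg.pCore p G)
    (L : Subgroup G) [hLn : L.Normal] (P : Sylow p G) :
    L ⊓ Subgroup.centralizer ((Cfsg.omegaOne p (((P : Subgroup G) ⊓ L) ⊓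
        Subgroup.centralizer ((((P : Subgroup G) ⊓ L : Subgroup G)) : Set G)) : Subgroup G) : Set G) ≤
    L ⊓ Subgroup.centralizer ((Cfsg.omegaOne p ((P : Subgroup G) ⊓
        Subgroup.centralizer ((P : Subgroup G) : Set G)) : Subgroup G) : Set G) := by
  classical
  obtain ⟨SL, hSL⟩ := sylow_inf_normal P L
  have hidxL : ¬ p ∣ ((P : Subgroup G).subgroupOf L).index := by
    rw [← hSL]; exact SL.not_dvd_index
  intro y hy
  obtain ⟨hyL, hyc⟩ := Subgroup.mem_inf.1 hy
  refine Subgroup.mem_inf.2 ⟨hyL, ?_⟩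
  rw [mem_centralizer_omegaOne_iff] at hyc ⊢
  intro z hz hzp
  obtain ⟨hzP, hzc⟩ := Subgroup.mem_inf.1 hz
  have hQn : (Cfsg.pCore p G).Normal := pCore_normal p G
  have hQP : Cfsg.pCore p G ≤ (P : Subgroup G) := pCore_le_sylow P
  have hzcQ : z ∈ Subgroup.centralizer (Cfsg.pCore p G : Set G) := Subgroup.centralizer_le hQP hzc
  have hzQ : z ∈ Cfsg.pCore p G := hG hzcQ
  have hVn : (Cfsg.pCore p G ⊓ Subgroup.centralizer (Cfsg.pCore p G : Set G)).Normal :=
    inferInstance
  have hVcomm : ∀ a ∈ Cfsg.pCore p G ⊓ Subgroup.centralizer (Cfsg.pCore p G : Set G),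
      ∀ b ∈ Cfsg.pCore p G ⊓ Subgroup.centralizer (Cfsg.pCore p G : Set G), a * b = b * a := by
    intro a ha b hb
    have h1 := (Subgroup.mem_inf.1 ha).2
    rw [Subgroup.mem_centralizer_iff] at h1
    exact (h1 b (Subgroup.mem_inf.1 hb).1).symm
  have hzV : z ∈ Cfsg.pCore p G ⊓ Subgroup.centralizer (Cfsg.pCore p G : Set G) :=
    Subgroup.mem_inf.2 ⟨hzQ, hzcQ⟩
  let instV : CommGroup ↥(Cfsg.pCore p G ⊓ Subgroup.centralizer (Cfsg.pCore p G : Set G)) :=
    { (inferInstance : Group ↥(Cfsg.pCore p G ⊓ Subgroup.centralizer (Cfsg.pCore p G : Set G)))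
        with mul_comm := fun a b => Subtype.ext (hVcomm a a.2 b b.2) }
  have instF : Fintype (↥L ⧸ (P : Subgroup G).subgroupOf L) := Fintype.ofFinite _
  rw [Subgroup.mem_centralizer_iff] at hzc
  obtain ⟨c, hc1, hc2, hc3⟩ := @trace_hom ↥L
    ↥(Cfsg.pCore p G ⊓ Subgroup.centralizer (Cfsg.pCore p G : Set G)) _ instV
    ((MulAut.conjNormal (H := Cfsg.pCore p G ⊓
      Subgroup.centralizer (Cfsg.pCore p G : Set G))).comp L.subtype)
    ((P : Subgroup G).subgroupOf L) instF ⟨z, hzV⟩ (by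
      intro s hs
      apply Subtype.ext
      have h1 := hzc (s : G) (Subgroup.mem_subgroupOf.1 hs)
      show (s : G) * z * (s : G)⁻¹ = z
      rw [h1]; group)
  have hnp : (Fintype.card (↥L ⧸ (P : Subgroup G).subgroupOf L)).Coprime p := by
    have h2 : Fintype.card (↥L ⧸ (P : Subgroup G).subgroupOf L) =
        ((P : Subgroup G).subgroupOf L).index := by
      rw [Subgroup.index, Nat.card_eq_fintype_card]
    rw [h2]
    exact ((Nat.Prime.coprime_iff_not_dvd Fact.out).2 hidxL).symm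
  have hB := hc2 (L.subgroupOf _) (by
    intro l
    rw [Subgroup.mem_subgroupOf]
    have e : ((((MulAut.conjNormal (H := Cfsg.pCore p G ⊓
        Subgroup.centralizer (Cfsg.pCore p G : Set G))).comp L.subtype) l ⟨z, hzV⟩ /
        ⟨z, hzV⟩ : ↥(Cfsg.pCore p G ⊓ Subgroup.centralizer (Cfsg.pCore p G : Set G))) : G) =
        (l : G) * (z * (l : G)⁻¹ * z⁻¹) := by
      simp [div_eq_mul_inv, MulAut.conjNormal_apply, mul_assoc]
    rw [e]
    exact L.mul_mem l.2 (hLn.conj_mem _ (L.inv_mem l.2) z))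
  rw [Subgroup.mem_subgroupOf] at hB
  have hcoe : ((c / (⟨z, hzV⟩ : ↥(Cfsg.pCore p G ⊓
      Subgroup.centralizer (Cfsg.pCore p G : Set G))) ^
      Fintype.card (↥L ⧸ (P : Subgroup G).subgroupOf L) :
      ↥(Cfsg.pCore p G ⊓ Subgroup.centralizer (Cfsg.pCore p G : Set G))) : G) =
      (c : G) * (z ^ Fintype.card (↥L ⧸ (P : Subgroup G).subgroupOf L))⁻¹ := by
    simp [div_eq_mul_inv]
  rw [hcoe] at hB
  have hcp : (c : G) ^ p = 1 := congrArg Subtype.val (hc3 p (Subtype.ext hzp))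
  have hcL : ∀ l ∈ L, Commute l (c : G) := by
    intro l hl
    have h1 := congrArg Subtype.val (hc1 ⟨l, hl⟩)
    have h2 : l * (c : G) * l⁻¹ = (c : G) := h1
    show l * (c : G) = (c : G) * l
    calc l * (c : G) = l * (c : G) * l⁻¹ * l := by group
      _ = (c : G) * l := by rw [h2]
  have hczn : Commute (c : G) ((z ^ Fintype.card (↥L ⧸ (P : Subgroup G).subgroupOf L))⁻¹) :=
    hVcomm _ c.2 _ (Subgroup.inv_mem _ (Subgroup.pow_mem _ hzV _))
  have hup : ((c : G) * (z ^ Fintype.card (↥L ⧸ (P : Subgroup G).subgroupOf L))⁻¹) ^ p = 1 := by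
    rw [hczn.mul_pow, hcp, one_mul, inv_pow, ← pow_mul, mul_comm, pow_mul, hzp, one_pow, inv_one]
  have huV : (c : G) * (z ^ Fintype.card (↥L ⧸ (P : Subgroup G).subgroupOf L))⁻¹ ∈
      Cfsg.pCore p G ⊓ Subgroup.centralizer (Cfsg.pCore p G : Set G) :=
    Subgroup.mul_mem _ c.2 (Subgroup.inv_mem _ (Subgroup.pow_mem _ hzV _))
  have huc : (c : G) * (z ^ Fintype.card (↥L ⧸ (P : Subgroup G).subgroupOf L))⁻¹ ∈
      Subgroup.centralizer ((((P : Subgroup G) ⊓ L : Subgroup G)) : Set G) := by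
    rw [Subgroup.mem_centralizer_iff]
    intro s hs
    have h1 : Commute s (c : G) := hcL s (Subgroup.mem_inf.1 hs).2
    have h2 : Commute s z := hzc s (Subgroup.mem_inf.1 hs).1
    exact (h1.mul_right (h2.pow_right _).inv_right).eq
  have hyu := hyc _ (Subgroup.mem_inf.2 ⟨Subgroup.mem_inf.2
    ⟨hQP (Subgroup.mem_inf.1 huV).1, hB⟩, huc⟩) hup
  have hyc' : Commute y (c : G) := hcL y hyL
  have hyzn : Commute y (z ^ Fintype.card (↥L ⧸ (P : Subgroup G).subgroupOf L)) := by
    have e : z ^ Fintype.card (↥L ⧸ (P : Subgroup G).subgroupOf L) =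
        ((c : G) * (z ^ Fintype.card (↥L ⧸ (P : Subgroup G).subgroupOf L))⁻¹)⁻¹ * (c : G) := by
      group
    rw [e]
    have h3 : Commute y ((c : G) * (z ^ Fintype.card (↥L ⧸ (P : Subgroup G).subgroupOf L))⁻¹) :=
      hyu.symm
    exact h3.inv_right.mul_right hyc'
  have hord : orderOf z ∣ p := orderOf_dvd_of_pow_eq_one hzp
  obtain ⟨m, hm⟩ := exists_pow_eq_self_of_coprime (Nat.Coprime.coprime_dvd_right hord hnp)
  have h4 : Commute y ((z ^ Fintype.card (↥L ⧸ (P : Subgroup G).subgroupOf L)) ^ m) :=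
    hyzn.pow_right m
  rw [hm] at h4
  exact h4.eq.symm

/-- direction (II) of the normal case of the Kieler lemma -/
theorem kieler_normal_two [Finite G] [Fact p.Prime]
    (L : Subgroup G) [hLn : L.Normal]
    (hL : Subgroup.centralizer (Cfsg.pCore p ↥L : Set ↥L) ≤ Cfsg.pCore p ↥L) (P : Sylow p G) :
    L ⊓ Subgroup.centralizer ((Cfsg.omegaOne p ((P : Subgroup G) ⊓
        Subgroup.centralizer ((P : Subgroup G) : Set G)) : Subgroup G) : Set G) ≤
    L ⊓ Subgroup.centralizer ((Cfsg.omegaOne p (((P : Subgroup G) ⊓ L) ⊓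
        Subgroup.centralizer ((((P : Subgroup G) ⊓ L : Subgroup G)) : Set G)) : Subgroup G) : Set G) := by
  classical
  obtain ⟨SL, hSL⟩ := sylow_inf_normal P L
  have hSLmap : (SL : Subgroup ↥L).map L.subtype = (P : Subgroup G) ⊓ L := by
    rw [hSL, Subgroup.subgroupOf_map_subtype]
  have hidxL : ¬ p ∣ ((P : Subgroup G).subgroupOf L).index := by
    rw [← hSL]; exact SL.not_dvd_index
  obtain ⟨Z, hZ⟩ : ∃ Z : Subgroup G, Z = Cfsg.omegaOne p ((P : Subgroup G) ⊓
      Subgroup.centralizer ((P : Subgroup G) : Set G)) := ⟨_, rfl⟩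
  rw [← hZ]
  obtain ⟨C, hC⟩ : ∃ C : Subgroup G, C = L ⊓ Subgroup.centralizer (Z : Set G) := ⟨_, rfl⟩
  obtain ⟨B, hB⟩ : ∃ B : Subgroup G, B = Cfsg.pCoreOf p L ⊓
      Subgroup.centralizer ((Cfsg.pCoreOf p L : Subgroup G) : Set G) := ⟨_, rfl⟩
  obtain ⟨U, hU⟩ : ∃ U : Subgroup G, U = Cfsg.omegaOne p B := ⟨_, rfl⟩
  have hOLn : (Cfsg.pCoreOf p L).Normal := by
    have hchar : (Cfsg.pCore p ↥L).Characteristic := pCore_characteristic p _
    exact ConjAct.normal_of_characteristic_of_normal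
  have hBn : B.Normal := by rw [hB]; infer_instance
  have hUn : U.Normal := by
    rw [hU]
    exact normal_of_normalizer_eq_top
      (top_le_iff.1 (le_normalizer_omegaOne (le_normalizer_of_normal hBn)))
  have hUB : U ≤ B := by rw [hU]; exact omegaOne_le B
  have hBcomm : ∀ a ∈ B, ∀ b ∈ B, a * b = b * a := by
    intro a ha b hb
    rw [hB] at ha hb
    have h1 := (Subgroup.mem_inf.1 ha).2
    rw [Subgroup.mem_centralizer_iff] at h1
    exact (h1 b (Subgroup.mem_inf.1 hb).1).symm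
  have hUcomm : ∀ a ∈ U, ∀ b ∈ U, a * b = b * a :=
    fun a ha b hb => hBcomm a (hUB ha) b (hUB hb)
  have hUel : Cfsg.IsElementaryAbelian p U :=
    isElementaryAbelian_of_le_of_comm hUcomm {x | x ∈ B ∧ x ^ p = 1}
      (by rw [hU]; exact le_rfl)
      (by
        rintro a ⟨ha, hap⟩
        exact ⟨by rw [hU]; exact Subgroup.subset_closure ⟨ha, hap⟩, hap⟩)
  have hUpow : ∀ a ∈ U, a ^ p = 1 := hUel.2
  have hUp : IsPGroup p ↥U := isPGroup_of_isElementaryAbelian hUel
  have hOLP : Cfsg.pCoreOf p L ≤ (P : Subgroup G) := by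
    rintro _ ⟨o, ho, rfl⟩
    have h1 := pCore_le_sylow SL ho
    rw [hSL] at h1
    exact Subgroup.mem_subgroupOf.1 h1
  have hPZ : (P : Subgroup G) ≤ Subgroup.centralizer (Z : Set G) := by
    rw [Subgroup.le_centralizer_iff, hZ]
    exact (omegaOne_le _).trans inf_le_right
  have hPNZ : (P : Subgroup G) ≤ Subgroup.normalizer (Z : Set G) := by
    rw [hZ]
    exact le_normalizer_omegaOne (le_normalizer_inf Subgroup.le_normalizer
      (le_normalizer_centralizer Subgroup.le_normalizer))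
  have hPC : (P : Subgroup G) ≤ Subgroup.normalizer (C : Set G) := by
    rw [hC]
    exact le_normalizer_inf (le_normalizer_of_normal hLn) (le_normalizer_centralizer hPNZ)
  have hCL : C ≤ L := by rw [hC]; exact inf_le_left
  have hPLC : (P : Subgroup G) ⊓ L ≤ C := by
    rw [hC]; exact le_inf inf_le_right (inf_le_left.trans hPZ)
  have hidxC : ¬ p ∣ ((P : Subgroup G).subgroupOf C).index := by
    intro hdvd
    apply hidxL
    have e1 : ((P : Subgroup G).subgroupOf C).index = ((P : Subgroup G) ⊓ L).relIndex C := by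
      show (P : Subgroup G).relIndex C = _
      rw [← Subgroup.inf_relIndex_right (P : Subgroup G) C,
        ← Subgroup.inf_relIndex_right ((P : Subgroup G) ⊓ L) C]
      congr 1
      rw [inf_assoc, inf_eq_right.2 hCL]
    have e2 : ((P : Subgroup G).subgroupOf L).index = ((P : Subgroup G) ⊓ L).relIndex L := by
      show (P : Subgroup G).relIndex L = _
      rw [Subgroup.inf_relIndex_right]
    rw [e2, ← Subgroup.relIndex_mul_relIndex _ _ _ hPLC hCL]
    rw [e1] at hdvd
    exact Dvd.dvd.mul_right hdvd _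
  let instU : CommGroup ↥U :=
    { (inferInstance : Group ↥U) with mul_comm := fun a b => Subtype.ext (hUcomm a a.2 b b.2) }
  have key := @fixed_of_sylow_fixed ↥C ↥U ↥(P : Subgroup G) _ _ instU _ _ _ p _ hUp P.isPGroup'
    ((MulAut.conjNormal (H := U)).comp C.subtype) ((P : Subgroup G).subgroupOf C) hidxC
    ((Subgroup.normalizerMonoidHom C).comp (Subgroup.inclusion hPC))
    ((MulAut.conjNormal (H := U)).comp (P : Subgroup G).subtype)
    (by
      intro t s
      rw [Subgroup.mem_subgroupOf, Subgroup.mem_subgroupOf]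
      show (s : G) ∈ (P : Subgroup G) ↔ (t : G) * (s : G) * (t : G)⁻¹ ∈ (P : Subgroup G)
      constructor
      · intro h
        exact Subgroup.mul_mem _ (Subgroup.mul_mem _ t.2 h) (Subgroup.inv_mem _ t.2)
      · intro h
        have h1 := Subgroup.mul_mem _ (Subgroup.mul_mem _ (Subgroup.inv_mem _ t.2) h) t.2
        simpa [mul_assoc] using h1)
    (by
      intro t g a
      apply Subtype.ext
      show (t : G) * ((g : G) * (a : G) * (g : G)⁻¹) * (t : G)⁻¹ =
        ((t : G) * (g : G) * (t : G)⁻¹) * ((t : G) * (a : G) * (t : G)⁻¹) *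
          ((t : G) * (g : G) * (t : G)⁻¹)⁻¹
      group)
    (by
      intro a _ hT g
      apply Subtype.ext
      show (g : G) * (a : G) * (g : G)⁻¹ = (a : G)
      have haP : (a : G) ∈ (P : Subgroup G) := hOLP (by
        have h0 := hUB a.2
        rw [hB] at h0
        exact (Subgroup.mem_inf.1 h0).1)
      have hac : (a : G) ∈ Subgroup.centralizer ((P : Subgroup G) : Set G) := by
        rw [Subgroup.mem_centralizer_iff]
        intro t ht
        have h1 := congrArg Subtype.val (hT ⟨t, ht⟩)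
        have h2 : t * (a : G) * t⁻¹ = (a : G) := h1
        calc t * (a : G) = t * (a : G) * t⁻¹ * t := by group
          _ = (a : G) * t := by rw [h2]
      have haZ : (a : G) ∈ Z := by
        rw [hZ]
        exact Subgroup.subset_closure ⟨Subgroup.mem_inf.2 ⟨haP, hac⟩, hUpow _ a.2⟩
      have hg : (g : G) ∈ Subgroup.centralizer (Z : Set G) :=
        (Subgroup.mem_inf.1 (hC.le g.2)).2
      rw [Subgroup.mem_centralizer_iff] at hg
      have h3 := hg _ haZ
      rw [← h3]; group)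
  intro y hy
  obtain ⟨hyL, hyc⟩ := Subgroup.mem_inf.1 hy
  refine Subgroup.mem_inf.2 ⟨hyL, ?_⟩
  rw [mem_centralizer_omegaOne_iff]
  intro a ha hap
  have haU : a ∈ U := by
    have h1 : a ∈ Cfsg.sylowCenterClosure p L := scc_mem L SL a (by rw [hSLmap]; exact ha) hap
    have h2 := scc_le_pCoreOf_inf_centralizer L hL h1
    rw [hU, hB]; exact Subgroup.subset_closure ⟨h2, hap⟩
  have hyC : y ∈ C := by rw [hC]; exact hy
  have h5 := key ⟨a, haU⟩ (by
    intro s hs
    apply Subtype.ext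
    show (s : G) * a * (s : G)⁻¹ = a
    have hsP : (s : G) ∈ (P : Subgroup G) := Subgroup.mem_subgroupOf.1 hs
    have hsL : (s : G) ∈ L := hCL s.2
    have hac := (Subgroup.mem_inf.1 ha).2
    rw [Subgroup.mem_centralizer_iff] at hac
    have h6 := hac (s : G) (Subgroup.mem_inf.2 ⟨hsP, hsL⟩)
    rw [h6]; group) ⟨y, hyC⟩
  have h7 : y * a * y⁻¹ = a := congrArg Subtype.val h5
  calc a * y = (y * a * y⁻¹) * y := by rw [h7]
    _ = y * a := by group

/-- the Kieler lemma for a normal subgroup -/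
theorem kieler_normal [Finite G] [Fact p.Prime]
    (hG : Subgroup.centralizer (Cfsg.pCore p G : Set G) ≤ Cfsg.pCore p G)
    (L : Subgroup G) [hLn : L.Normal]
    (hL : Subgroup.centralizer (Cfsg.pCore p ↥L : Set ↥L) ≤ Cfsg.pCore p ↥L) (P : Sylow p G) :
    L ⊓ Subgroup.centralizer ((Cfsg.omegaOne p ((P : Subgroup G) ⊓
        Subgroup.centralizer ((P : Subgroup G) : Set G)) : Subgroup G) : Set G) =
    L ⊓ Subgroup.centralizer ((Cfsg.omegaOne p (((P : Subgroup G) ⊓ L) ⊓
        Subgroup.centralizer ((((P : Subgroup G) ⊓ L : Subgroup G)) : Set G)) : Subgroup G) : Set G) :=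
  le_antisymm (kieler_normal_two L hL P) (kieler_normal_one hG L P)

end Cfsg.Agent.Lib.Helper4
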