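import Mathlib
import Cfsg.Agent.Lib.Helper4.Trace

set_option autoImplicit false

namespace Cfsg.Agent.Lib.Helper4

/-- module-theoretic core of the Kieler lemma: if every vector fixed by `S` and by the `p`-group
`T` (acting compatibly on the group `C` and on the module `A`) is fixed by `C`, then every
vector fixed by the Sylow `p`-subgroup `S` of `C` is fixed by `C`. -/
theorem fixed_of_sylow_fixed {C A T : Type*} [Group C] [Finite C] [CommGroup A] [Finite A]
    [Group T] [Finite T] {p : ℕ} [Fact p.Prime] (hA : IsPGroup p A) (hT : IsPGroup p T)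
    (φ : C →* MulAut A) (S : Subgroup C) (hS : ¬ p ∣ S.index)
    (θ : T →* MulAut C) (θA : T →* MulAut A)
    (hθS : ∀ t s, s ∈ S ↔ θ t s ∈ S)
    (hcomp : ∀ t g a, θA t (φ g a) = φ (θ t g) (θA t a))
    (hstar : ∀ a : A, (∀ s ∈ S, φ s a = a) → (∀ t, θA t a = a) → ∀ g, φ g a = a) :
    ∀ a : A, (∀ s ∈ S, φ s a = a) → ∀ g, φ g a = a := by
  classical
  have : Fintype (C ⧸ S) := Fintype.ofFinite _
  let E : Subgroup A :=
    { carrier := {a | ∀ s ∈ S, φ s a = a}
      one_mem' := by intro s _; simp
      mul_mem' := by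
        intro a b ha hb s hs
        rw [map_mul, ha s hs, hb s hs]
      inv_mem' := by
        intro a ha s hs
        rw [map_inv, ha s hs] }
  let D : Subgroup A :=
    { carrier := {a | ∀ g, φ g a = a}
      one_mem' := by intro g; simp
      mul_mem' := by
        intro a b ha hb g
        rw [map_mul, ha g, hb g]
      inv_mem' := by
        intro a ha g
        rw [map_inv, ha g] }
  have hDE : D ≤ E := fun a ha s _ => ha s
  have hTE : ∀ t, ∀ a ∈ E, θA t a ∈ E := by
    intro t a ha s hs
    have h1 : (θ t).symm s ∈ S := by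
      rw [hθS t]; simpa using hs
    have h2 := hcomp t ((θ t).symm s) a
    rw [ha _ h1] at h2
    simpa using h2.symm
  have hTD : ∀ t, ∀ a ∈ D, θA t a ∈ D := by
    intro t a ha g
    have h2 := hcomp t ((θ t).symm g) a
    rw [ha _] at h2
    simpa using h2.symm
  have hmp : (Fintype.card (C ⧸ S)).Coprime p := by
    have h2 : Fintype.card (C ⧸ S) = S.index := by
      rw [Subgroup.index, Nat.card_eq_fintype_card]
    rw [h2]
    exact ((Nat.Prime.coprime_iff_not_dvd Fact.out).2 hS).symm
  have hK : ∀ a ∈ E, (∀ t, θA t a / a ∈ D) → a ∈ D := by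
    intro a ha hta
    have hc : cosetTrace φ S a ∈ D := fun g => cosetTrace_fixed ha g
    have hu : cosetTrace φ S a / a ^ Fintype.card (C ⧸ S) ∈ D := by
      apply hstar
      · intro s hs
        exact (E.div_mem (hDE hc) (E.pow_mem ha _)) s hs
      · intro t
        have h1 : θA t (cosetTrace φ S a) = cosetTrace φ S (θA t a) :=
          cosetTrace_equivariant (θ t) (hθS t) (θA t) (hcomp t) ha
        obtain ⟨b, hb⟩ : ∃ b, b = θA t a / a := ⟨_, rfl⟩
        have h2 : θA t a = a * b := by rw [hb, mul_div_cancel]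
        have hbD : b ∈ D := hb ▸ hta t
        have h3 : cosetTrace φ S (θA t a) = cosetTrace φ S a * b ^ Fintype.card (C ⧸ S) := by
          rw [h2, cosetTrace_mul, cosetTrace_of_fixed hbD]
        rw [map_div, h1, h3, map_pow, h2, mul_pow, mul_div_mul_right_eq_div]
    have ham : a ^ Fintype.card (C ⧸ S) ∈ D := by
      have e : a ^ Fintype.card (C ⧸ S) =
          cosetTrace φ S a / (cosetTrace φ S a / a ^ Fintype.card (C ⧸ S)) := by
        rw [div_div_cancel]
      rw [e]; exact D.div_mem hc hu
    obtain ⟨k, hk⟩ := hA a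
    have hord : orderOf a ∣ p ^ k := orderOf_dvd_of_pow_eq_one hk
    obtain ⟨j, hj⟩ := exists_pow_eq_self_of_coprime
      (Nat.Coprime.coprime_dvd_right hord (Nat.Coprime.pow_right k hmp))
    rw [← hj]; exact D.pow_mem ham j
  by_contra hne
  push Not at hne
  obtain ⟨a₀, ha₀E, g₀, hg₀⟩ := hne
  letI : MulAction T ↥E :=
    { smul := fun t a => ⟨θA t a, hTE t a a.2⟩
      one_smul := by
        intro a
        apply Subtype.ext
        show θA 1 (a : A) = a
        simp
      mul_smul := by
        intro t₁ t₂ a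
        apply Subtype.ext
        show θA (t₁ * t₂) (a : A) = θA t₁ (θA t₂ (a : A))
        simp }
  have hsm : ∀ (t : T) (a : ↥E), ((t • a : ↥E) : A) = θA t (a : A) := fun _ _ => rfl
  haveI : MulAction.QuotientAction T (D.subgroupOf E) := ⟨by
    intro t a a' h
    rw [Subgroup.mem_subgroupOf] at h ⊢
    have h2 := hTD t _ h
    simpa [hsm] using h2⟩
  have hEp : IsPGroup p ↥E := hA.to_subgroup E
  have hidx : p ∣ Nat.card (↥E ⧸ D.subgroupOf E) := by
    obtain ⟨n, hn⟩ := hEp.index (D.subgroupOf E)
    have hn0 : n ≠ 0 := by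
      rintro rfl
      rw [pow_zero, Subgroup.index_eq_one] at hn
      have h1 : (⟨a₀, ha₀E⟩ : ↥E) ∈ D.subgroupOf E := by rw [hn]; trivial
      exact hg₀ (Subgroup.mem_subgroupOf.1 h1 g₀)
    show p ∣ (D.subgroupOf E).index
    rw [hn]
    exact dvd_pow_self p hn0
  have hfix1 : ((1 : ↥E) : ↥E ⧸ D.subgroupOf E) ∈
      MulAction.fixedPoints T (↥E ⧸ D.subgroupOf E) := by
    intro t
    rw [MulAction.Quotient.smul_mk]
    congr 1
    apply Subtype.ext
    rw [hsm]; simp
  obtain ⟨b, hb, hb1⟩ := hT.exists_fixed_point_of_prime_dvd_card_of_fixed_point _ hidx hfix1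
  induction b using QuotientGroup.induction_on with
  | H a =>
    apply hb1
    have haD : (a : A) ∈ D := hK a a.2 (fun t => by
      have h1 := hb t
      rw [MulAction.Quotient.smul_mk, QuotientGroup.eq, Subgroup.mem_subgroupOf] at h1
      have h2 := D.inv_mem h1
      simpa [hsm, div_eq_mul_inv, mul_comm] using h2)
    symm
    rw [QuotientGroup.eq, Subgroup.mem_subgroupOf]
    simpa using D.inv_mem haD

end Cfsg.Agent.Lib.Helper4
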