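import Mathlib
import Cfsg.Agent.Lib.Helper4.ConjHom

set_option autoImplicit false

namespace Cfsg.Agent.Lib.Helper4

/-- if `L = [L, Q]` with `Q` finite normalizing `L` and `z ∈ L` is centralized by `Q`,
then `z ^ |Q| ∈ [L, L]` (norm map into the abelianization). -/
theorem pow_card_mem_commutator_of_centralized {G : Type*} [Group G] (L Q : Subgroup G)
    [Finite Q] (hQL : Q ≤ Subgroup.normalizer (L : Set G)) (hLQ : L ≤ ⁅L, Q⁆) {z : G}
    (hz : z ∈ L) (hzQ : ∀ q ∈ Q, q * z = z * q) : z ^ Nat.card Q ∈ ⁅L, L⁆ := by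
  classical
  have : Fintype ↥Q := Fintype.ofFinite _
  let N : ↥L →* Abelianization ↥L :=
    ∏ q : ↥Q, (Abelianization.of).comp (conjHom L Q hQL q).toMonoidHom
  have hN : ∀ x : ↥L, N x = ∏ q : ↥Q, Abelianization.of (conjHom L Q hQL q x) := by
    intro x
    simp [N]
  have hNconj : ∀ (q : ↥Q) (x : ↥L), N (conjHom L Q hQL q x) = N x := by
    intro q x
    rw [hN, hN]
    apply Fintype.prod_equiv (Equiv.mulRight q)
    intro q'
    simp [map_mul]
  have hker : ⁅L, Q⁆ ≤ N.ker.map L.subtype := by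
    rw [Subgroup.commutator_le]
    intro l hl q hq
    refine ⟨⟨l, hl⟩ * (conjHom L Q hQL ⟨q, hq⟩ ⟨l, hl⟩)⁻¹, ?_, ?_⟩
    · show _ ∈ N.ker
      rw [MonoidHom.mem_ker, map_mul, map_inv, hNconj, mul_inv_cancel]
    · simp [conjHom_apply, commutatorElement_def, mul_assoc]
  obtain ⟨w, hw, hwz⟩ := hker (hLQ hz)
  have hwz' : w = ⟨z, hz⟩ := Subtype.ext hwz
  rw [hwz'] at hw
  have h1 : N ⟨z, hz⟩ = Abelianization.of (⟨z, hz⟩ : ↥L) ^ Nat.card Q := by
    rw [hN]
    have : ∀ q : ↥Q, conjHom L Q hQL q ⟨z, hz⟩ = ⟨z, hz⟩ := by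
      intro q
      apply Subtype.ext
      rw [conjHom_apply]
      show (q : G) * z * (q : G)⁻¹ = z
      rw [hzQ q q.2, mul_inv_cancel_right]
    simp [this, Nat.card_eq_fintype_card]
  have h2 : (⟨z, hz⟩ : ↥L) ^ Nat.card Q ∈ commutator ↥L := by
    rw [← Abelianization.ker_of, MonoidHom.mem_ker, map_pow, ← h1]
    exact hw
  rw [← Subgroup.map_subtype_commutator]
  exact ⟨_, h2, by simp⟩

end Cfsg.Agent.Lib.Helper4
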