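import Mathlib
import Cfsg.Prelude.Def_Solvable
import Cfsg.Prelude.Def_Transfer
import Cfsg.Prelude.Def_LocalEven
import Cfsg.Prelude.Def_LocalStructure
import Cfsg.Prelude.Def_Amalgam
import Cfsg.Agent.Lib.Helper4.PReduced
import Cfsg.Agent.Lib.Helper4.Normalizer

set_option autoImplicit false

namespace Cfsg.Agent.Lib.Helper4

/-- `Y_M ≤ Y_L` when `L C(Y_M) = M C(Y_M)` and both contain the Sylow subgroup `T`. -/
theorem largestPReducedOf_le_of_sup_eq {H : Type*} [Group H] [Finite H] {p : ℕ} [Fact p.Prime]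
    (T : Sylow p H) (L M : Subgroup H) (hTL : (T : Subgroup H) ≤ L) (hTM : (T : Subgroup H) ≤ M) :
    L ⊔ Subgroup.centralizer (((Cfsg.largestPReducedOf p M) : Subgroup H) : Set H)
      = M ⊔ Subgroup.centralizer (((Cfsg.largestPReducedOf p M) : Subgroup H) : Set H) →
    (Cfsg.largestPReducedOf p M) ≤ (Cfsg.largestPReducedOf p L) := by
  classical
  intro heq
  have hY'red := Cfsg.Agent.Lib.Helper4.isPReducedNormal_largestPReduced p ↥M
  have hYdef : Cfsg.largestPReducedOf p M = (Cfsg.largestPReduced p ↥M).map M.subtype := rfl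
  have hYM : Cfsg.largestPReducedOf p M ≤ M := Subgroup.map_subtype_le _
  have hY'pc := Cfsg.Agent.Lib.Helper4.IsPReducedNormal.le_pCore hY'red
  obtain ⟨hY'n, hY'e, hCn, hO⟩ := hY'red
  have hMN : M ≤ Subgroup.normalizer ((Cfsg.largestPReducedOf p M : Subgroup H) : Set H) := by
    apply Cfsg.Agent.Lib.Helper4.le_normalizer_of_conj_mem
    intro m hm y hy
    obtain ⟨y', hy', rfl⟩ := hy
    exact ⟨⟨m, hm⟩ * y' * ⟨m, hm⟩⁻¹, hY'n.conj_mem y' hy' ⟨m, hm⟩, rfl⟩
  have hYT : Cfsg.largestPReducedOf p M ≤ (T : Subgroup H) := by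
    have h2 : Cfsg.pCore p ↥M ≤ ((T.subtype hTM : Sylow p M) : Subgroup M) :=
      Cfsg.Agent.Lib.Helper4.pCore_le_sylow _
    rintro _ ⟨y', hy', rfl⟩
    have h3 := h2 (hY'pc hy')
    rw [Sylow.coe_subtype] at h3
    exact Subgroup.mem_subgroupOf.1 h3
  have hYL : Cfsg.largestPReducedOf p M ≤ L := hYT.trans hTL
  have hLN : L ≤ Subgroup.normalizer ((Cfsg.largestPReducedOf p M : Subgroup H) : Set H) := by
    have h1 : L ≤ M ⊔ Subgroup.centralizer ((Cfsg.largestPReducedOf p M : Subgroup H) : Set H) := by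
      rw [← heq]; exact le_sup_left
    exact h1.trans (sup_le hMN (Subgroup.centralizer_le_normalizer _))
  have hVmap : ((Cfsg.largestPReducedOf p M).subgroupOf L).map L.subtype
      = Cfsg.largestPReducedOf p M := by
    rw [Subgroup.subgroupOf_map_subtype, inf_eq_left.2 hYL]
  have hVn : ((Cfsg.largestPReducedOf p M).subgroupOf L).Normal := by
    refine ⟨fun v hv l => ?_⟩
    rw [Subgroup.mem_subgroupOf] at hv ⊢
    exact Cfsg.Agent.Lib.Helper4.conj_mem_of_mem_normalizer (hLN l.2) hv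
  have hYcomm : ∀ a ∈ Cfsg.largestPReducedOf p M, ∀ b ∈ Cfsg.largestPReducedOf p M,
      a * b = b * a := by
    rintro _ ⟨a', ha', rfl⟩ _ ⟨b', hb', rfl⟩
    have hc := hY'e.1
    have h1 := mul_comm' (⟨a', ha'⟩ : ↥(Cfsg.largestPReduced p ↥M)) ⟨b', hb'⟩
    have h2 := congrArg (fun z : ↥(Cfsg.largestPReduced p ↥M) => ((z : ↥M) : H)) h1
    simpa using h2
  have hYpow : ∀ a ∈ Cfsg.largestPReducedOf p M, a ^ p = 1 := by
    rintro _ ⟨a', ha', rfl⟩
    have h1 := hY'e.2 a' ha'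
    have h2 := congrArg (fun z : ↥M => (z : H)) h1
    simpa using h2
  have hVe : Cfsg.IsElementaryAbelian p ((Cfsg.largestPReducedOf p M).subgroupOf L) := by
    refine ⟨⟨⟨fun a b => ?_⟩⟩, ?_⟩
    · apply Subtype.ext
      apply Subtype.ext
      exact hYcomm _ (Subgroup.mem_subgroupOf.1 a.2) _ (Subgroup.mem_subgroupOf.1 b.2)
    · intro a ha
      apply Subtype.ext
      simpa using hYpow _ (Subgroup.mem_subgroupOf.1 ha)
  have hred : Cfsg.IsPReducedNormal p ((Cfsg.largestPReducedOf p M).subgroupOf L) := by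
    refine ⟨hVn, hVe, inferInstance, ?_⟩
    rw [Cfsg.Agent.Lib.Helper4.pCore_quotient_ker_eq_bot_iff
      ((Cfsg.largestPReducedOf p M).normalizerMonoidHom.comp (Subgroup.inclusion hLN)) _
      (Cfsg.Agent.Lib.Helper4.ker_normalizerMonoidHom_comp_inclusion _ L hLN _ hVmap).symm]
    have hM' := (Cfsg.Agent.Lib.Helper4.pCore_quotient_ker_eq_bot_iff
      ((Cfsg.largestPReducedOf p M).normalizerMonoidHom.comp (Subgroup.inclusion hMN)) _
      (Cfsg.Agent.Lib.Helper4.ker_normalizerMonoidHom_comp_inclusion _ M hMN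
        (Cfsg.largestPReduced p ↥M) rfl).symm).1 hO
    rw [Cfsg.Agent.Lib.Helper4.range_normalizerMonoidHom_comp_inclusion _ L hLN, heq,
      ← Cfsg.Agent.Lib.Helper4.range_normalizerMonoidHom_comp_inclusion _ M hMN]
    exact hM'
  have hVle : (Cfsg.largestPReducedOf p M).subgroupOf L ≤ Cfsg.largestPReduced p ↥L :=
    le_sSup hred
  intro y hy
  exact ⟨⟨y, hYL hy⟩, hVle (Subgroup.mem_subgroupOf.2 hy), rfl⟩

section basic

variable {H : Type*} [Group H] {p : ℕ}

theorem largestPReducedOf_le (L : Subgroup H) : Cfsg.largestPReducedOf p L ≤ L :=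
  Subgroup.map_subtype_le _

theorem le_normalizer_largestPReducedOf (L : Subgroup H) :
    L ≤ Subgroup.normalizer ((Cfsg.largestPReducedOf p L : Subgroup H) : Set H) := by
  have hY'n := (isPReducedNormal_largestPReduced p ↥L).1
  apply le_normalizer_of_conj_mem
  intro m hm y hy
  obtain ⟨y', hy', rfl⟩ := hy
  exact ⟨⟨m, hm⟩ * y' * ⟨m, hm⟩⁻¹, hY'n.conj_mem y' hy' ⟨m, hm⟩, rfl⟩

theorem largestPReducedOf_le_pCoreOf (L : Subgroup H) :
    Cfsg.largestPReducedOf p L ≤ Cfsg.pCoreOf p L :=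
  Subgroup.map_mono (IsPReducedNormal.le_pCore (isPReducedNormal_largestPReduced p ↥L))

theorem pCoreOf_le_sylow [Fact p.Prime] (T : Sylow p H) (L : Subgroup H)
    (hTL : (T : Subgroup H) ≤ L) : Cfsg.pCoreOf p L ≤ (T : Subgroup H) := by
  have h2 : Cfsg.pCore p ↥L ≤ ((T.subtype hTL : Sylow p L) : Subgroup L) := pCore_le_sylow _
  rintro _ ⟨y', hy', rfl⟩
  have h3 := h2 hy'
  rw [Sylow.coe_subtype] at h3
  exact Subgroup.mem_subgroupOf.1 h3

theorem largestPReducedOf_comm (L : Subgroup H) :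
    ∀ a ∈ Cfsg.largestPReducedOf p L, ∀ b ∈ Cfsg.largestPReducedOf p L, a * b = b * a := by
  have hY'e := (isPReducedNormal_largestPReduced p ↥L).2.1
  rintro _ ⟨a', ha', rfl⟩ _ ⟨b', hb', rfl⟩
  have hc := hY'e.1
  have h1 := mul_comm' (⟨a', ha'⟩ : ↥(Cfsg.largestPReduced p ↥L)) ⟨b', hb'⟩
  have h2 := congrArg (fun z : ↥(Cfsg.largestPReduced p ↥L) => ((z : ↥L) : H)) h1
  simpa using h2

theorem largestPReducedOf_pow (L : Subgroup H) :
    ∀ a ∈ Cfsg.largestPReducedOf p L, a ^ p = 1 := by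
  have hY'e := (isPReducedNormal_largestPReduced p ↥L).2.1
  rintro _ ⟨a', ha', rfl⟩
  have h1 := hY'e.2 a' ha'
  have h2 := congrArg (fun z : ↥L => (z : H)) h1
  simpa using h2

theorem largestPReducedOf_le_centralizer (L : Subgroup H) :
    Cfsg.largestPReducedOf p L ≤
      Subgroup.centralizer ((Cfsg.largestPReducedOf p L : Subgroup H) : Set H) := by
  intro y hy
  rw [Subgroup.mem_centralizer_iff]
  intro z hz
  exact largestPReducedOf_comm L z hz y hy

theorem pCoreOf_le_centralizer_largestPReducedOf (L : Subgroup H) :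
    Cfsg.pCoreOf p L ≤ Subgroup.centralizer ((Cfsg.largestPReducedOf p L : Subgroup H) : Set H) := by
  have hOY' := IsPReducedNormal.pCore_le_centralizer (isPReducedNormal_largestPReduced p ↥L)
  rintro _ ⟨o, ho, rfl⟩
  rw [Subgroup.mem_centralizer_iff]
  rintro _ ⟨y, hy, rfl⟩
  have h2 := hOY' ho
  rw [Subgroup.mem_centralizer_iff] at h2
  exact congrArg Subtype.val (h2 y hy)

end basic

end Cfsg.Agent.Lib.Helper4
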