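import Mathlib
import Cfsg.Prelude.Def_Solvable
import Cfsg.Prelude.Def_Transfer
import Cfsg.Prelude.Def_LocalEven
import Cfsg.Prelude.Def_LocalStructure
import Cfsg.Agent.Lib.Helper4.PReduced
import Cfsg.Agent.Lib.Helper4.PReduced2
import Cfsg.Agent.Lib.Helper4.Normalizer
import Cfsg.Agent.Lib.Helper4.CoprimeChain
import Cfsg.Agent.Lib.Helper2.Fit
import Cfsg.Agent.Lib.Helper4.PClosed

set_option autoImplicit false

namespace Cfsg.Agent.Lib.Helper4

variable {H : Type*} [Group H] {p : ℕ}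

/-- ambient form of "`V` is a `p`-reduced normal subgroup of `K`" -/
def PRedIn (p : ℕ) (K V : Subgroup H) : Prop :=
  V ≤ K ∧ K ≤ Subgroup.normalizer (V : Set H) ∧ (∀ a ∈ V, ∀ b ∈ V, a * b = b * a) ∧
  (∀ a ∈ V, a ^ p = 1) ∧
  ∀ D : Subgroup H, D ≤ K → K ≤ Subgroup.normalizer (D : Set H) →
    (∀ d ∈ D, ∃ k : ℕ, d ^ p ^ k ∈ Subgroup.centralizer (V : Set H)) →
    D ≤ Subgroup.centralizer (V : Set H)

theorem isPReducedNormal_iff_pRedIn (K : Subgroup H) (V' : Subgroup ↥K) :
    Cfsg.IsPReducedNormal p V' ↔ PRedIn p K (V'.map K.subtype) := by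
  constructor
  · rintro ⟨hn, he, hCn, hO⟩
    refine ⟨Subgroup.map_subtype_le _, ?_, ?_, ?_, ?_⟩
    · apply le_normalizer_of_conj_mem
      rintro k hk _ ⟨y, hy, rfl⟩
      exact ⟨⟨k, hk⟩ * y * ⟨k, hk⟩⁻¹, hn.conj_mem y hy ⟨k, hk⟩, rfl⟩
    · rintro _ ⟨a, ha, rfl⟩ _ ⟨b, hb, rfl⟩
      have hc := he.1
      have h1 := mul_comm' (⟨a, ha⟩ : ↥V') ⟨b, hb⟩
      have h2 := congrArg (fun z : ↥V' => ((z : ↥K) : H)) h1
      simpa using h2
    · rintro _ ⟨a, ha, rfl⟩
      have h1 := he.2 a ha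
      have h2 := congrArg (fun z : ↥K => (z : H)) h1
      simpa using h2
    · intro D hDK hKD hpow
      have hDn : (D.subgroupOf K).Normal :=
        (Subgroup.normal_subgroupOf_iff_le_normalizer hDK).2 hKD
      have key := (pCore_quotient_eq_bot_iff (Subgroup.centralizer (V' : Set ↥K))).1 hO
        (D.subgroupOf K) hDn (by
          intro d hd
          obtain ⟨k, hk⟩ := hpow d (Subgroup.mem_subgroupOf.1 hd)
          refine ⟨k, ?_⟩
          rw [Subgroup.mem_centralizer_iff] at hk ⊢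
          intro y hy
          apply Subtype.ext
          have := hk _ ⟨y, hy, rfl⟩
          simpa using this)
      intro d hd
      have h1 := key (Subgroup.mem_subgroupOf.2 hd : (⟨d, hDK hd⟩ : ↥K) ∈ D.subgroupOf K)
      rw [Subgroup.mem_centralizer_iff] at h1 ⊢
      rintro _ ⟨y, hy, rfl⟩
      exact congrArg Subtype.val (h1 y hy)
  · rintro ⟨-, hKN, hcomm, hpow, hD⟩
    have hn : V'.Normal := by
      refine ⟨fun v hv k => ?_⟩
      have h1 := conj_mem_of_mem_normalizer (hKN k.2)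
        (⟨v, hv, rfl⟩ : (v : H) ∈ V'.map K.subtype)
      obtain ⟨w, hw, hwe⟩ := h1
      have : w = k * v * k⁻¹ := Subtype.ext (by simpa using hwe)
      rw [← this]; exact hw
    have he : Cfsg.IsElementaryAbelian p V' := by
      refine ⟨⟨⟨fun a b => ?_⟩⟩, ?_⟩
      · apply Subtype.ext
        apply Subtype.ext
        exact hcomm _ ⟨a, a.2, rfl⟩ _ ⟨b, b.2, rfl⟩
      · intro a ha
        apply Subtype.ext
        simpa using hpow _ ⟨a, ha, rfl⟩
    refine ⟨hn, he, inferInstance, ?_⟩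
    rw [pCore_quotient_eq_bot_iff]
    intro D' hD'n hpow'
    have h1 := hD (D'.map K.subtype) (Subgroup.map_subtype_le _) (by
        apply le_normalizer_of_conj_mem
        rintro k hk _ ⟨y, hy, rfl⟩
        exact ⟨⟨k, hk⟩ * y * ⟨k, hk⟩⁻¹, hD'n.conj_mem y hy ⟨k, hk⟩, rfl⟩) (by
        rintro _ ⟨d, hd, rfl⟩
        obtain ⟨k, hk⟩ := hpow' d hd
        refine ⟨k, ?_⟩
        rw [Subgroup.mem_centralizer_iff] at hk ⊢
        rintro _ ⟨y, hy, rfl⟩
        have := congrArg Subtype.val (hk y hy)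
        simpa using this)
    intro d hd
    have h2 := h1 ⟨d, hd, rfl⟩
    rw [Subgroup.mem_centralizer_iff] at h2 ⊢
    intro y hy
    apply Subtype.ext
    exact h2 _ ⟨y, hy, rfl⟩

theorem pRedIn_iff_subgroupOf (K V : Subgroup H) (hVK : V ≤ K) :
    PRedIn p K V ↔ Cfsg.IsPReducedNormal p (V.subgroupOf K) := by
  rw [isPReducedNormal_iff_pRedIn, Subgroup.subgroupOf_map_subtype, inf_eq_left.2 hVK]

theorem pRedIn_top_iff (V : Subgroup H) : PRedIn p ⊤ V ↔ Cfsg.IsPReducedNormal p V := by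
  constructor
  · rintro ⟨-, hKN, hcomm, hpow, hD⟩
    have hn : V.Normal := normal_of_normalizer_eq_top (top_le_iff.1 hKN)
    refine ⟨hn, ⟨⟨⟨fun a b => Subtype.ext (hcomm a a.2 b b.2)⟩⟩, hpow⟩, inferInstance, ?_⟩
    rw [pCore_quotient_eq_bot_iff]
    intro D hDn hpow'
    exact hD D le_top (le_normalizer_of_normal hDn) hpow'
  · rintro ⟨hn, he, hCn, hO⟩
    refine ⟨le_top, le_normalizer_of_normal hn, ?_, he.2, ?_⟩
    · intro a ha b hb
      have hc := he.1
      exact congrArg Subtype.val (mul_comm' (⟨a, ha⟩ : ↥V) ⟨b, hb⟩)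
    · intro D _ hKD hpow
      exact (pCore_quotient_eq_bot_iff (Subgroup.centralizer (V : Set H))).1 hO D
        (normal_of_normalizer_eq_top (top_le_iff.1 hKD)) hpow

theorem pRedIn_largestPReducedOf (L : Subgroup H) : PRedIn p L (Cfsg.largestPReducedOf p L) :=
  (isPReducedNormal_iff_pRedIn L _).1 (isPReducedNormal_largestPReduced p ↥L)

theorem PRedIn.le_largestPReducedOf {L V : Subgroup H} (hV : PRedIn p L V) :
    V ≤ Cfsg.largestPReducedOf p L := by
  have h1 := (pRedIn_iff_subgroupOf L V hV.1).1 hV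
  have h2 : V.subgroupOf L ≤ Cfsg.largestPReduced p ↥L := le_sSup h1
  intro v hv
  exact ⟨⟨v, hV.1 hv⟩, h2 (Subgroup.mem_subgroupOf.2 hv), rfl⟩

theorem pRedIn_largestPReduced (p : ℕ) (H : Type*) [Group H] :
    PRedIn p ⊤ (Cfsg.largestPReduced p H) :=
  (pRedIn_top_iff _).2 (isPReducedNormal_largestPReduced p H)

theorem PRedIn.le_largestPReduced {V : Subgroup H} (hV : PRedIn p ⊤ V) :
    V ≤ Cfsg.largestPReduced p H :=
  le_sSup ((pRedIn_top_iff V).1 hV)

/-- subnormal subgroups acting as `p`-groups on a `p`-reduced normal subgroup act trivially -/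
theorem PRedIn.le_centralizer_of_subnormal [Finite H] [Fact p.Prime] {K V : Subgroup H}
    (hV : PRedIn p K V) {D : Subgroup H} (hDK : D ≤ K) (hD : (D.subgroupOf K).IsSubnormal)
    (hpow : ∀ d ∈ D, ∃ k : ℕ, d ^ p ^ k ∈ Subgroup.centralizer (V : Set H)) :
    D ≤ Subgroup.centralizer (V : Set H) := by
  have hV' := (pRedIn_iff_subgroupOf K V hV.1).1 hV
  obtain ⟨hn, he, hCn, hO⟩ := hV'
  have hsub : ((D.subgroupOf K).map (QuotientGroup.mk'
      (Subgroup.centralizer ((V.subgroupOf K : Subgroup ↥K) : Set ↥K)))).IsSubnormal :=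
    hD.map (QuotientGroup.mk'_surjective _)
  have hp' : IsPGroup p ↥((D.subgroupOf K).map (QuotientGroup.mk'
      (Subgroup.centralizer ((V.subgroupOf K : Subgroup ↥K) : Set ↥K)))) := by
    rintro ⟨_, d, hd, rfl⟩
    obtain ⟨k, hk⟩ := hpow d (Subgroup.mem_subgroupOf.1 hd)
    refine ⟨k, Subtype.ext ?_⟩
    show (QuotientGroup.mk' _ d) ^ p ^ k = 1
    rw [← map_pow, QuotientGroup.mk'_apply, QuotientGroup.eq_one_iff]
    rw [Subgroup.mem_centralizer_iff] at hk ⊢
    intro y hy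
    apply Subtype.ext
    have := hk _ (Subgroup.mem_subgroupOf.1 hy)
    simpa using this
  have hle := Cfsg.Agent.Lib.Helper2.subnormal_pgroup_le_pCore p _ hsub hp'
  rw [hO] at hle
  intro d hd
  have h1 : (QuotientGroup.mk' (Subgroup.centralizer ((V.subgroupOf K : Subgroup ↥K) : Set ↥K))
      (⟨d, hDK hd⟩ : ↥K)) ∈ (⊥ : Subgroup _) :=
    hle ⟨_, Subgroup.mem_subgroupOf.2 hd, rfl⟩
  rw [Subgroup.mem_bot, QuotientGroup.mk'_apply, QuotientGroup.eq_one_iff] at h1
  rw [Subgroup.mem_centralizer_iff] at h1 ⊢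
  intro y hy
  exact congrArg Subtype.val (h1 ⟨y, hV.1 hy⟩ (Subgroup.mem_subgroupOf.2 hy))

/-- a `p'`-element of the normal subgroup `N` of `K` centralizing `V ⊓ N` centralizes `V` -/
theorem conj_eq_of_coprime_of_inf {K V N : Subgroup H} (hVK : V ≤ K)
    (hKV : K ≤ Subgroup.normalizer (V : Set H)) (hpowV : ∀ a ∈ V, a ^ p = 1)
    (hNK : N ≤ K) (hKN : K ≤ Subgroup.normalizer (N : Set H)) {x : H} (hxN : x ∈ N)
    (hx : (orderOf x).Coprime p)
    (hxc : x ∈ Subgroup.centralizer ((V ⊓ N : Subgroup H) : Set H)) :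
    x ∈ Subgroup.centralizer (V : Set H) := by
  rw [Subgroup.mem_centralizer_iff]
  intro v hv
  have hxv : x * v * x⁻¹ ∈ V := conj_mem_of_mem_normalizer (hKV (hNK hxN)) hv
  have huV : v⁻¹ * (x * v * x⁻¹) ∈ V := V.mul_mem (V.inv_mem hv) hxv
  have huN : v⁻¹ * (x * v * x⁻¹) ∈ N := by
    have h1 : v⁻¹ * x * v⁻¹⁻¹ ∈ N :=
      conj_mem_of_mem_normalizer (hKN (hVK (V.inv_mem hv))) hxN
    have e : v⁻¹ * (x * v * x⁻¹) = (v⁻¹ * x * v⁻¹⁻¹) * x⁻¹ := by group
    rw [e]; exact N.mul_mem h1 (N.inv_mem hxN)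
  rw [Subgroup.mem_centralizer_iff] at hxc
  have h2 := hxc _ (Subgroup.mem_inf.2 ⟨huV, huN⟩)
  have h3 : x * (v⁻¹ * (x * v * x⁻¹)) * x⁻¹ = v⁻¹ * (x * v * x⁻¹) := by rw [← h2]; group
  have h1 : x * v * x⁻¹ = v * (v⁻¹ * (x * v * x⁻¹)) := by group
  have hu := eq_one_of_conj_eq_mul h1 h3 (k := 1) (by simpa using hpowV _ huV) hx
  have h4 : x * v * x⁻¹ = v := by rw [h1, hu, mul_one]
  calc v * x = (x * v * x⁻¹) * x := by rw [h4]
    _ = x * v := by group

/-- if every element of `D` has a `p`-power in `C₁` and every `p'`-element of `D ⊓ C₁` lies in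
`C₂`, then every element of `D` has a `p`-power in `C₂` -/
theorem exists_pow_mem_of_coprime [Finite H] [Fact p.Prime] {D C₁ C₂ : Subgroup H}
    (hpow : ∀ d ∈ D, ∃ k : ℕ, d ^ p ^ k ∈ C₁)
    (h : ∀ x ∈ D, x ∈ C₁ → (orderOf x).Coprime p → x ∈ C₂) :
    ∀ d ∈ D, ∃ k : ℕ, d ^ p ^ k ∈ C₂ := by
  intro d hd
  obtain ⟨k₀, hk₀⟩ := hpow d hd
  obtain ⟨k, hk, hco⟩ := exists_pow_coprime (p := p) d k₀
  refine ⟨k, h _ (D.pow_mem hd _) ?_ hco⟩
  obtain ⟨j, rfl⟩ := Nat.exists_eq_add_of_le hk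
  rw [pow_add, pow_mul]
  exact C₁.pow_mem hk₀ _

/-- (A) the intersection of a `p`-reduced normal subgroup with a normal subgroup `N` is `p`-reduced
in `N` -/
theorem PRedIn.inf_normal [Finite H] [Fact p.Prime] {K V N : Subgroup H} (hV : PRedIn p K V)
    (hNK : N ≤ K) (hKN : K ≤ Subgroup.normalizer (N : Set H)) : PRedIn p N (V ⊓ N) := by
  obtain ⟨hVK, hKV, hcomm, hpowV, hD⟩ := hV
  refine ⟨inf_le_right, le_normalizer_inf (hNK.trans hKV) Subgroup.le_normalizer,
    fun a ha b hb => hcomm a (Subgroup.mem_inf.1 ha).1 b (Subgroup.mem_inf.1 hb).1,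
    fun a ha => hpowV a (Subgroup.mem_inf.1 ha).1, ?_⟩
  intro D hDN hND hpow
  have hDV : D ≤ Subgroup.centralizer (V : Set H) := by
    apply PRedIn.le_centralizer_of_subnormal ⟨hVK, hKV, hcomm, hpowV, hD⟩ (hDN.trans hNK)
    · have hN' : (N.subgroupOf K).Normal :=
        (Subgroup.normal_subgroupOf_iff_le_normalizer hNK).2 hKN
      have hDN' : D.subgroupOf K ≤ N.subgroupOf K := by
        intro d hd
        rw [Subgroup.mem_subgroupOf] at hd ⊢
        exact hDN hd
      refine Subgroup.IsSubnormal.step _ (N.subgroupOf K) hDN' hN'.isSubnormal ?_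
      rw [Subgroup.normal_subgroupOf_iff_le_normalizer hDN']
      intro n hn
      rw [Subgroup.mem_subgroupOf] at hn
      have h1 := hND hn
      rw [Subgroup.mem_normalizer_iff] at h1 ⊢
      intro d
      rw [Subgroup.mem_subgroupOf, Subgroup.mem_subgroupOf]
      exact h1 d
    · exact exists_pow_mem_of_coprime hpow (fun x hxD hxc hxo =>
        conj_eq_of_coprime_of_inf hVK hKV hpowV hNK hKN (hDN hxD) hxo hxc)
  exact hDV.trans (Subgroup.centralizer_le (fun y hy => (Subgroup.mem_inf.1 hy).1))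

/-- (B) `C_N(V ⊓ N) ≤ C(V)` for `V` `p`-reduced normal in `K` and `N` normal in `K` -/
theorem PRedIn.inf_centralizer_le [Finite H] [Fact p.Prime] {K V N : Subgroup H}
    (hV : PRedIn p K V) (hNK : N ≤ K) (hKN : K ≤ Subgroup.normalizer (N : Set H)) :
    N ⊓ Subgroup.centralizer ((V ⊓ N : Subgroup H) : Set H) ≤
      Subgroup.centralizer (V : Set H) := by
  obtain ⟨hVK, hKV, hcomm, hpowV, hD⟩ := hV
  apply hD _ (inf_le_left.trans hNK)
    (le_normalizer_inf hKN (le_normalizer_centralizer (le_normalizer_inf hKV hKN)))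
  apply exists_pow_mem_of_coprime
    (C₁ := N ⊓ Subgroup.centralizer ((V ⊓ N : Subgroup H) : Set H))
  · intro d hd; exact ⟨0, by simpa using hd⟩
  · intro x hx _ hxo
    exact conj_eq_of_coprime_of_inf hVK hKV hpowV hNK hKN (Subgroup.mem_inf.1 hx).1 hxo
      (Subgroup.mem_inf.1 hx).2

/-- (X) a `p`-reduced normal subgroup `V` of the normal subgroup `N` of `K`, normalized by `K`,
contains a `p`-reduced normal subgroup `U` of `K` with `C_N(U) ≤ C(V)` -/
theorem exists_pRedIn_le [Finite H] [Fact p.Prime] {K N : Subgroup H} (hNK : N ≤ K)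
    (hKN : K ≤ Subgroup.normalizer (N : Set H)) :
    ∀ n : ℕ, ∀ V : Subgroup H, Nat.card V = n → PRedIn p N V →
      K ≤ Subgroup.normalizer (V : Set H) →
      ∃ U : Subgroup H, U ≤ V ∧ PRedIn p K U ∧
        N ⊓ Subgroup.centralizer (U : Set H) ≤ Subgroup.centralizer (V : Set H) := by
  intro n
  induction n using Nat.strong_induction_on with
  | _ n ih =>
    intro V hcard hV hKV
    obtain ⟨hVN, hNV, hcomm, hpowV, hDN⟩ := hV
    by_cases hred : ∀ D : Subgroup H, D ≤ K → K ≤ Subgroup.normalizer (D : Set H) →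
        (∀ d ∈ D, ∃ k : ℕ, d ^ p ^ k ∈ Subgroup.centralizer (V : Set H)) →
        D ≤ Subgroup.centralizer (V : Set H)
    · exact ⟨V, le_rfl, ⟨hVN.trans hNK, hKV, hcomm, hpowV, hred⟩, inf_le_right⟩
    · push Not at hred
      obtain ⟨D, hDK, hKD, hDpow, hDnot⟩ := hred
      have hV₁V : V ⊓ Subgroup.centralizer (D : Set H) ≤ V := inf_le_left
      have hKV₁ : K ≤ Subgroup.normalizer
          ((V ⊓ Subgroup.centralizer (D : Set H) : Subgroup H) : Set H) :=
        le_normalizer_inf hKV (le_normalizer_centralizer hKD)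
      have hDNc : D ⊓ N ≤ Subgroup.centralizer (V : Set H) :=
        hDN _ inf_le_right (le_normalizer_inf (hNK.trans hKD) Subgroup.le_normalizer)
          (fun d hd => hDpow d (Subgroup.mem_inf.1 hd).1)
      have hchain : ∀ x ∈ N, (orderOf x).Coprime p →
          x ∈ Subgroup.centralizer
            ((V ⊓ Subgroup.centralizer (D : Set H) : Subgroup H) : Set H) →
          x ∈ Subgroup.centralizer (V : Set H) := by
        intro x hxN hxo hxc
        have key := conj_eq_of_coprime_of_fixed V D x hcomm hpowV (hDK.trans hKV) (hNV hxN)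
          hDpow (by
            intro d hd v hv
            have hc : x⁻¹ * d⁻¹ * x * d ∈ D ⊓ N := by
              refine Subgroup.mem_inf.2 ⟨?_, ?_⟩
              · have h1 : x⁻¹ * d⁻¹ * x⁻¹⁻¹ ∈ D :=
                  conj_mem_of_mem_normalizer (hKD (hNK (N.inv_mem hxN))) (D.inv_mem hd)
                have e : x⁻¹ * d⁻¹ * x * d = (x⁻¹ * d⁻¹ * x⁻¹⁻¹) * d := by group
                rw [e]; exact D.mul_mem h1 hd
              · have h1 : d⁻¹ * x * d⁻¹⁻¹ ∈ N :=
                  conj_mem_of_mem_normalizer (hKN (hDK (D.inv_mem hd))) hxN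
                have e : x⁻¹ * d⁻¹ * x * d = x⁻¹ * (d⁻¹ * x * d⁻¹⁻¹) := by group
                rw [e]; exact N.mul_mem (N.inv_mem hxN) h1
            have hcv := (Subgroup.mem_centralizer_iff.1 (hDNc hc)) v hv
            have hcv' : (x⁻¹ * d⁻¹ * x * d) * v * (x⁻¹ * d⁻¹ * x * d)⁻¹ = v := by
              rw [← hcv]; group
            have e1 : x * d = d * x * (x⁻¹ * d⁻¹ * x * d) := by group
            calc d * (x * v * x⁻¹) * d⁻¹ = d * x * v * (d * x)⁻¹ := by group
              _ = d * x * ((x⁻¹ * d⁻¹ * x * d) * v * (x⁻¹ * d⁻¹ * x * d)⁻¹) * (d * x)⁻¹ := by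
                  rw [hcv']
              _ = (d * x * (x⁻¹ * d⁻¹ * x * d)) * v * (d * x * (x⁻¹ * d⁻¹ * x * d))⁻¹ := by
                  group
              _ = (x * d) * v * (x * d)⁻¹ := by rw [← e1]
              _ = x * (d * v * d⁻¹) * x⁻¹ := by group) hxo (by
            intro v hv hfixed
            have hvV₁ : v ∈ V ⊓ Subgroup.centralizer (D : Set H) := by
              refine Subgroup.mem_inf.2 ⟨hv, ?_⟩
              rw [Subgroup.mem_centralizer_iff]
              intro d hd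
              have h5 := hfixed d hd
              calc d * v = (d * v * d⁻¹) * d := by group
                _ = v * d := by rw [h5]
            rw [Subgroup.mem_centralizer_iff] at hxc
            have h6 := hxc v hvV₁
            calc x * v * x⁻¹ = (v * x) * x⁻¹ := by rw [h6]
              _ = v := by group)
        rw [Subgroup.mem_centralizer_iff]
        intro v hv
        have h7 := key v hv
        calc v * x = (x * v * x⁻¹) * x := by rw [h7]
          _ = x * v := by group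
      have hV₁red : PRedIn p N (V ⊓ Subgroup.centralizer (D : Set H)) := by
        refine ⟨hV₁V.trans hVN, hNK.trans hKV₁, fun a ha b hb => hcomm a (hV₁V ha) b (hV₁V hb),
          fun a ha => hpowV a (hV₁V ha), ?_⟩
        intro D' hD'N hND' hpow'
        have h1 : D' ≤ Subgroup.centralizer (V : Set H) := by
          apply hDN D' hD'N hND'
          exact exists_pow_mem_of_coprime hpow'
            (fun x hxD' hxc hxo => hchain x (hD'N hxD') hxo hxc)
        exact h1.trans (Subgroup.centralizer_le hV₁V)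
      have hNc : N ⊓ Subgroup.centralizer
          ((V ⊓ Subgroup.centralizer (D : Set H) : Subgroup H) : Set H) ≤
          Subgroup.centralizer (V : Set H) := by
        apply hDN _ inf_le_left (le_normalizer_inf Subgroup.le_normalizer
          (le_normalizer_centralizer (hNK.trans hKV₁)))
        apply exists_pow_mem_of_coprime (C₁ := N ⊓ Subgroup.centralizer
          ((V ⊓ Subgroup.centralizer (D : Set H) : Subgroup H) : Set H))
        · intro d hd; exact ⟨0, by simpa using hd⟩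
        · intro x hx _ hxo
          exact hchain x (Subgroup.mem_inf.1 hx).1 hxo (Subgroup.mem_inf.1 hx).2
      have hlt : Nat.card ↥(V ⊓ Subgroup.centralizer (D : Set H)) < Nat.card ↥V := by
        by_contra hge
        have heq : V ⊓ Subgroup.centralizer (D : Set H) = V :=
          Subgroup.eq_of_le_of_card_ge hV₁V (not_lt.1 hge)
        apply hDnot
        have h8 : V ≤ Subgroup.centralizer (D : Set H) := by
          rw [← heq]; exact inf_le_right
        exact Subgroup.le_centralizer_iff.1 h8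
      obtain ⟨U, hUV₁, hUred, hUc⟩ := ih _ (hcard ▸ hlt) _ rfl hV₁red hKV₁
      exact ⟨U, hUV₁.trans hV₁V, hUred, (le_inf inf_le_left hUc).trans hNc⟩

/-- transport of `PRedIn` along an automorphism of the ambient group -/
theorem PRedIn.map_equiv (φ : H ≃* H) {K V : Subgroup H} (hV : PRedIn p K V) :
    PRedIn p (K.map φ.toMonoidHom) (V.map φ.toMonoidHom) := by
  obtain ⟨hVK, hKV, hcomm, hpowV, hD⟩ := hV
  refine ⟨Subgroup.map_mono hVK, ?_, ?_, ?_, ?_⟩
  · apply le_normalizer_of_conj_mem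
    rintro _ ⟨k, hk, rfl⟩ _ ⟨v, hv, rfl⟩
    exact ⟨k * v * k⁻¹, conj_mem_of_mem_normalizer (hKV hk) hv, by simp⟩
  · rintro _ ⟨a, ha, rfl⟩ _ ⟨b, hb, rfl⟩
    rw [← map_mul, ← map_mul, hcomm a ha b hb]
  · rintro _ ⟨a, ha, rfl⟩
    rw [← map_pow, hpowV a ha, map_one]
  · intro D hDK hKD hpow
    have h1 := hD (D.comap φ.toMonoidHom) (by
        intro d hd
        obtain ⟨k, hk, hkd⟩ := hDK (Subgroup.mem_comap.1 hd)
        have : k = d := φ.injective hkd
        rw [← this]; exact hk) (by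
        apply le_normalizer_of_conj_mem
        intro k hk d hd
        rw [Subgroup.mem_comap] at hd ⊢
        have h2 := conj_mem_of_mem_normalizer (hKD ⟨k, hk, rfl⟩) hd
        simpa using h2) (by
        intro d hd
        obtain ⟨k, hk⟩ := hpow _ (Subgroup.mem_comap.1 hd)
        refine ⟨k, ?_⟩
        rw [Subgroup.mem_centralizer_iff] at hk ⊢
        intro v hv
        apply φ.injective
        have h3 := hk _ ⟨v, hv, rfl⟩
        simpa using h3)
    intro d hd
    have hd' : φ.symm d ∈ D.comap φ.toMonoidHom := by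
      rw [Subgroup.mem_comap]; simpa using hd
    have h4 := h1 hd'
    rw [Subgroup.mem_centralizer_iff] at h4 ⊢
    rintro _ ⟨v, hv, rfl⟩
    have h5 := congrArg φ (h4 v hv)
    simpa using h5

/-- anything normalizing `L` normalizes `Y_L` -/
theorem le_normalizer_largestPReducedOf_of_le_normalizer {L K : Subgroup H}
    (hKL : K ≤ Subgroup.normalizer (L : Set H)) :
    K ≤ Subgroup.normalizer ((Cfsg.largestPReducedOf p L : Subgroup H) : Set H) := by
  apply le_normalizer_of_conj_mem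
  intro k hk y hy
  have h1 := PRedIn.map_equiv (MulAut.conj k) (pRedIn_largestPReducedOf (p := p) L)
  rw [map_conj_eq_of_mem_normalizer (hKL hk)] at h1
  exact h1.le_largestPReducedOf ⟨y, hy, rfl⟩

/-- a normal `p`-subgroup conjugates the `p'`-elements of a subnormal subgroup into it -/
theorem conj_mem_of_subnormal_of_coprime {K V : Subgroup H} (hK : K.IsSubnormal)
    (hVn : V.Normal) (hVp : IsPGroup p V) :
    ∀ x ∈ K, (orderOf x).Coprime p → ∀ v ∈ V, v * x * v⁻¹ ∈ K := by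
  induction hK with
  | top => intro x _ _ v _; trivial
  | step K K₁ hKK₁ hK₁ hN ih =>
    intro x hx hxo v hv
    have hy : v * x * v⁻¹ ∈ K₁ := ih x (hKK₁ hx) hxo v hv
    have hcV : v * x * v⁻¹ * x⁻¹ ∈ V := by
      have h1 : x * v⁻¹ * x⁻¹ ∈ V := hVn.conj_mem _ (V.inv_mem hv) x
      have e : v * x * v⁻¹ * x⁻¹ = v * (x * v⁻¹ * x⁻¹) := by group
      rw [e]; exact V.mul_mem hv h1
    have hcK : v * x * v⁻¹ * x⁻¹ ∈ K₁ := K₁.mul_mem hy (K₁.inv_mem (hKK₁ hx))
    have hYp : IsPGroup p ↥((V ⊓ K₁).subgroupOf K₁) :=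
      (hVp.to_le inf_le_left).comap_of_injective K₁.subtype K₁.subtype_injective
    have hg : (⟨v * x * v⁻¹, hy⟩ : ↥K₁) ∈ K.subgroupOf K₁ ⊔ (V ⊓ K₁).subgroupOf K₁ := by
      have e : (⟨v * x * v⁻¹, hy⟩ : ↥K₁) = ⟨v * x * v⁻¹ * x⁻¹, hcK⟩ * ⟨x, hKK₁ hx⟩ :=
        Subtype.ext (by simp)
      rw [e, sup_comm]
      exact Subgroup.mul_mem_sup (Subgroup.mem_subgroupOf.2 (Subgroup.mem_inf.2 ⟨hcV, hcK⟩))
        (Subgroup.mem_subgroupOf.2 hx)
    have hord : (orderOf (⟨v * x * v⁻¹, hy⟩ : ↥K₁)).Coprime p := by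
      rw [← Subgroup.orderOf_coe]
      have : orderOf (v * x * v⁻¹) = orderOf x := (MulAut.conj v).orderOf_eq x
      show (orderOf (v * x * v⁻¹)).Coprime p
      rw [this]; exact hxo
    have h2 := mem_of_coprime_of_mem_sup hYp hord hg
    exact Subgroup.mem_subgroupOf.1 h2

/-- `O^p(K)` in ambient form contains the `p'`-elements of `K` -/
theorem mem_map_pResidual_of_coprime {K : Subgroup H} {x : H} (hx : x ∈ K)
    (hxo : (orderOf x).Coprime p) : x ∈ (Cfsg.pResidual p ↥K).map K.subtype := by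
  refine ⟨⟨x, hx⟩, mem_pResidual_of_coprime ?_, rfl⟩
  rw [← Subgroup.orderOf_coe]; exact hxo

/-- to bound `O^p(K)` (ambient form) it suffices to bound the `p'`-elements of `K` -/
theorem map_pResidual_le {K M : Subgroup H}
    (h : ∀ x ∈ K, (orderOf x).Coprime p → x ∈ M) :
    (Cfsg.pResidual p ↥K).map K.subtype ≤ M := by
  rw [Subgroup.map_le_iff_le_comap]
  unfold Cfsg.pResidual
  rw [Subgroup.closure_le]
  intro g hg
  rw [SetLike.mem_coe, Subgroup.mem_comap]
  apply h _ g.2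
  have hg' : (orderOf g).Coprime p := hg
  rw [← Subgroup.orderOf_coe] at hg'
  exact hg'

/-- `K` normalizes `O^p(K)` (ambient form) -/
theorem le_normalizer_map_pResidual (K : Subgroup H) :
    K ≤ Subgroup.normalizer (((Cfsg.pResidual p ↥K).map K.subtype : Subgroup H) : Set H) := by
  have hRn : (Cfsg.pResidual p ↥K).Normal := pResidual_normal p ↥K
  apply le_normalizer_of_conj_mem
  rintro l hl _ ⟨r, hr, rfl⟩
  exact ⟨⟨l, hl⟩ * r * ⟨l, hl⟩⁻¹, hRn.conj_mem r hr ⟨l, hl⟩, rfl⟩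

/-- S2804 in ambient form: `[V, O^p(K)]` is a `p`-reduced normal subgroup of the subnormal `K` -/
theorem PRedIn.commutator_pResidual [Finite H] [Fact p.Prime] {V K : Subgroup H}
    (hV : PRedIn p ⊤ V) (hK : K.IsSubnormal) :
    PRedIn p K ⁅V, (Cfsg.pResidual p ↥K).map K.subtype⁆ := by
  obtain ⟨hVK, hKV, hcomm, hpowV, hD⟩ := hV
  have hVn : V.Normal := normal_of_normalizer_eq_top (top_le_iff.1 hKV)
  have hVp : IsPGroup p V := by
    intro v
    exact ⟨1, Subtype.ext (by simpa using hpowV _ v.2)⟩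
  have hRK : (Cfsg.pResidual p ↥K).map K.subtype ≤ K := Subgroup.map_subtype_le _
  have hWV : ⁅V, (Cfsg.pResidual p ↥K).map K.subtype⁆ ≤ V := Subgroup.commutator_le_left _ _
  have hWK : ⁅V, (Cfsg.pResidual p ↥K).map K.subtype⁆ ≤ K := by
    rw [Subgroup.commutator_le]
    intro v hv r hr
    have h1 : (Cfsg.pResidual p ↥K).map K.subtype ≤ K.comap (MulAut.conj v).toMonoidHom :=
      map_pResidual_le (fun x hx hxo => by
        rw [Subgroup.mem_comap]
        exact conj_mem_of_subnormal_of_coprime hK hVn hVp x hx hxo v hv)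
    have h2 : v * r * v⁻¹ ∈ K := h1 hr
    exact K.mul_mem h2 (K.inv_mem (hRK hr))
  refine ⟨hWK, le_normalizer_commutator (le_normalizer_of_normal hVn)
    (le_normalizer_map_pResidual K), fun a ha b hb => hcomm a (hWV ha) b (hWV hb),
    fun a ha => hpowV a (hWV ha), ?_⟩
  intro D hDK hKD hpow
  have hDsub : D.IsSubnormal :=
    Subgroup.IsSubnormal.step D K hDK hK ((Subgroup.normal_subgroupOf_iff_le_normalizer hDK).2 hKD)
  have hDV : D ≤ Subgroup.centralizer (V : Set H) := by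
    apply PRedIn.le_centralizer_of_subnormal ⟨hVK, hKV, hcomm, hpowV, hD⟩ le_top hDsub.subgroupOf
    apply exists_pow_mem_of_coprime hpow
    intro x hxD hxc hxo
    rw [Subgroup.mem_centralizer_iff] at hxc ⊢
    intro v hv
    have hxR : x ∈ (Cfsg.pResidual p ↥K).map K.subtype :=
      mem_map_pResidual_of_coprime (hDK hxD) hxo
    have hu : v⁻¹ * x * v⁻¹⁻¹ * x⁻¹ ∈ ⁅V, (Cfsg.pResidual p ↥K).map K.subtype⁆ :=
      Subgroup.commutator_mem_commutator (V.inv_mem hv) hxR
    have e : v⁻¹ * x * v⁻¹⁻¹ * x⁻¹ = v⁻¹ * (x * v * x⁻¹) := by group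
    rw [e] at hu
    have h2 := hxc _ hu
    have h3 : x * (v⁻¹ * (x * v * x⁻¹)) * x⁻¹ = v⁻¹ * (x * v * x⁻¹) := by rw [← h2]; group
    have h1 : x * v * x⁻¹ = v * (v⁻¹ * (x * v * x⁻¹)) := by group
    have hu1 := eq_one_of_conj_eq_mul h1 h3 (k := 1) (by simpa using hpowV _ (hWV hu)) hxo
    have h4 : x * v * x⁻¹ = v := by rw [h1, hu1, mul_one]
    calc v * x = (x * v * x⁻¹) * x := by rw [h4]
      _ = x * v := by group
  exact hDV.trans (Subgroup.centralizer_le hWV)

end Cfsg.Agent.Lib.Helper4
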