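import Mathlib
import Cfsg.Agent.Lib.Helper4.SL2Torus
import Cfsg.Agent.Lib.Helper4.Dicyclic

set_option autoImplicit false

namespace Cfsg.Agent.Lib.Helper4

theorem card_eq_two_mul_of_inverted {G : Type*} [Group G] [Finite G] (A : Subgroup G) (w : G)
    (hw : w ∉ A) (hcov : ∀ g : G, g ∈ A ∨ w⁻¹ * g ∈ A)
    (hinv : ∀ a ∈ A, w * a * w⁻¹ = a⁻¹) : Nat.card G = 2 * Nat.card A := by
  have hidx : A.index = 2 := by
    rw [Subgroup.index_eq_two_iff]
    refine ⟨w⁻¹, fun b => ?_⟩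
    by_cases hb : b ∈ A
    · right
      refine ⟨hb, fun h => hw ?_⟩
      have h1 := A.mul_mem (A.inv_mem hb) h
      have h2 : b⁻¹ * (b * w⁻¹) = w⁻¹ := by group
      rw [h2] at h1
      exact (A.inv_mem_iff).1 h1
    · left
      refine ⟨?_, hb⟩
      have h1 : w⁻¹ * b ∈ A := (hcov b).resolve_left hb
      have h2 := hinv _ h1
      have h3 : b * w⁻¹ = (w⁻¹ * b)⁻¹ := by
        rw [← h2]
        group
      rw [h3]
      exact A.inv_mem h1
  rw [← Subgroup.card_mul_index A, hidx, mul_comm]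

/-- Order and class number of a group `N` with an abelian subgroup `T` of index two inverted by
`w ∈ N`, `T` having a unique involution. -/
theorem card_conjClasses_dicyclic_sub {G : Type*} [Group G] [Finite G] (T N : Subgroup G)
    (hTN : T ≤ N) (w z : G) (hwN : w ∈ N) (hw : w ∉ T)
    (hcov : ∀ g ∈ N, g ∈ T ∨ w⁻¹ * g ∈ T)
    (hinv : ∀ a ∈ T, w * a * w⁻¹ = a⁻¹)
    (hcomm : ∀ a ∈ T, ∀ b ∈ T, a * b = b * a)
    (hz : z ∈ T) (hz1 : z ≠ 1) (hzz : z * z = 1)
    (hsq : ∀ a ∈ T, a * a = 1 → a = 1 ∨ a = z) :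
    Nat.card N = 2 * Nat.card T ∧ 2 * Nat.card (ConjClasses N) = Nat.card T + 6 := by
  have hcard : Nat.card (T.subgroupOf N) = Nat.card T :=
    Nat.card_congr (Subgroup.subgroupOfEquivOfLe hTN).toEquiv
  have hw' : (⟨w, hwN⟩ : N) ∉ T.subgroupOf N := by
    rw [Subgroup.mem_subgroupOf]
    exact hw
  have hcov' : ∀ g : N, g ∈ T.subgroupOf N ∨ (⟨w, hwN⟩ : N)⁻¹ * g ∈ T.subgroupOf N := by
    intro g
    rw [Subgroup.mem_subgroupOf, Subgroup.mem_subgroupOf]
    exact hcov g.1 g.2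
  have hinv' : ∀ a ∈ T.subgroupOf N, (⟨w, hwN⟩ : N) * a * (⟨w, hwN⟩ : N)⁻¹ = a⁻¹ := by
    intro a ha
    rw [Subgroup.mem_subgroupOf] at ha
    apply Subtype.ext
    exact hinv a.1 ha
  refine ⟨?_, ?_⟩
  · rw [← hcard]
    exact card_eq_two_mul_of_inverted (T.subgroupOf N) ⟨w, hwN⟩ hw' hcov' hinv'
  · rw [← hcard]
    refine card_conjClasses_dicyclic (T.subgroupOf N) ⟨w, hwN⟩ ⟨z, hTN hz⟩ hw' hcov' hinv'
      ?_ ?_ ?_ ?_ ?_
    · intro a ha b hb
      rw [Subgroup.mem_subgroupOf] at ha hb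
      apply Subtype.ext
      exact hcomm a.1 ha b.1 hb
    · rw [Subgroup.mem_subgroupOf]
      exact hz
    · intro h
      exact hz1 (congrArg Subtype.val h)
    · apply Subtype.ext
      exact hzz
    · intro a ha haa
      rw [Subgroup.mem_subgroupOf] at ha
      rcases hsq a.1 ha (congrArg Subtype.val haa) with h | h
      · left
        exact Subtype.ext h
      · right
        exact Subtype.ext h

variable {F : Type*} [Field F]

/-- The centraliser of a non-scalar matrix consists of polynomials in it. -/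
theorem sl2_centralizer_form (x a : Matrix.SpecialLinearGroup (Fin 2) F)
    (hx : ¬ ((x : Matrix (Fin 2) (Fin 2) F) 0 1 = 0 ∧ (x : Matrix (Fin 2) (Fin 2) F) 1 0 = 0 ∧
      (x : Matrix (Fin 2) (Fin 2) F) 0 0 = (x : Matrix (Fin 2) (Fin 2) F) 1 1))
    (hc : a * x = x * a) :
    ∃ α β : F, (a : Matrix (Fin 2) (Fin 2) F) =
      α • (1 : Matrix (Fin 2) (Fin 2) F) + β • (x : Matrix (Fin 2) (Fin 2) F) := by
  obtain ⟨x0, hx0⟩ : ∃ x0, x0 = (x : Matrix (Fin 2) (Fin 2) F) 0 0 := ⟨_, rfl⟩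
  obtain ⟨x1, hx1⟩ : ∃ x1, x1 = (x : Matrix (Fin 2) (Fin 2) F) 0 1 := ⟨_, rfl⟩
  obtain ⟨x2, hx2⟩ : ∃ x2, x2 = (x : Matrix (Fin 2) (Fin 2) F) 1 0 := ⟨_, rfl⟩
  obtain ⟨x3, hx3⟩ : ∃ x3, x3 = (x : Matrix (Fin 2) (Fin 2) F) 1 1 := ⟨_, rfl⟩
  obtain ⟨a0, ha0⟩ : ∃ a0, a0 = (a : Matrix (Fin 2) (Fin 2) F) 0 0 := ⟨_, rfl⟩
  obtain ⟨a1, ha1⟩ : ∃ a1, a1 = (a : Matrix (Fin 2) (Fin 2) F) 0 1 := ⟨_, rfl⟩
  obtain ⟨a2, ha2⟩ : ∃ a2, a2 = (a : Matrix (Fin 2) (Fin 2) F) 1 0 := ⟨_, rfl⟩
  obtain ⟨a3, ha3⟩ : ∃ a3, a3 = (a : Matrix (Fin 2) (Fin 2) F) 1 1 := ⟨_, rfl⟩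
  have hxm : (x : Matrix (Fin 2) (Fin 2) F) = !![x0, x1; x2, x3] := by
    rw [hx0, hx1, hx2, hx3]
    exact Matrix.eta_fin_two _
  have ham : (a : Matrix (Fin 2) (Fin 2) F) = !![a0, a1; a2, a3] := by
    rw [ha0, ha1, ha2, ha3]
    exact Matrix.eta_fin_two _
  rw [← hx0, ← hx1, ← hx2, ← hx3] at hx
  have hm := congrArg (fun M : Matrix.SpecialLinearGroup (Fin 2) F =>
    (M : Matrix (Fin 2) (Fin 2) F)) hc
  simp only [Matrix.SpecialLinearGroup.coe_mul] at hm
  rw [hxm, ham] at hm ⊢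
  have e00 := congrFun (congrFun hm 0) 0
  have e01 := congrFun (congrFun hm 0) 1
  have e10 := congrFun (congrFun hm 1) 0
  simp [Matrix.mul_apply, Fin.sum_univ_two] at e00 e01 e10
  have key : ∀ α β : F, a0 = α + β * x0 → a1 = β * x1 → a2 = β * x2 → a3 = α + β * x3 →
      !![a0, a1; a2, a3] = α • (1 : Matrix (Fin 2) (Fin 2) F) + β • !![x0, x1; x2, x3] := by
    intro α β h0 h1 h2 h3
    ext i j
    fin_cases i <;> fin_cases j <;> simp [h0, h1, h2, h3]
  by_cases h1 : x1 = 0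
  · by_cases h2 : x2 = 0
    · have h03 : x0 - x3 ≠ 0 := fun h => hx ⟨h1, h2, sub_eq_zero.1 h⟩
      have ha1' : a1 = 0 := by
        have : a1 * (x0 - x3) = 0 := by
          rw [h1] at e01
          linear_combination -e01
        rcases mul_eq_zero.1 this with h | h
        · exact h
        · exact absurd h h03
      have ha2' : a2 = 0 := by
        have : a2 * (x0 - x3) = 0 := by
          rw [h2] at e10
          linear_combination e10
        rcases mul_eq_zero.1 this with h | h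
        · exact h
        · exact absurd h h03
      refine ⟨a0 - (a0 - a3) / (x0 - x3) * x0, (a0 - a3) / (x0 - x3), key _ _ ?_ ?_ ?_ ?_⟩
      · ring
      · rw [ha1', h1, mul_zero]
      · rw [ha2', h2, mul_zero]
      · field_simp
        ring
    · refine ⟨a0 - a2 / x2 * x0, a2 / x2, key _ _ ?_ ?_ ?_ ?_⟩
      · ring
      · rw [h1, mul_zero]
        have : a1 * x2 = 0 := by
          rw [h1] at e00
          linear_combination e00
        rcases mul_eq_zero.1 this with h | h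
        · exact h
        · exact absurd h h2
      · field_simp
      · field_simp
        linear_combination e10
  · refine ⟨a0 - a1 / x1 * x0, a1 / x1, key _ _ ?_ ?_ ?_ ?_⟩
    · ring
    · field_simp
    · field_simp
      linear_combination -e00
    · field_simp
      linear_combination -e01

theorem sl2_centralizer_comm (x : Matrix.SpecialLinearGroup (Fin 2) F)
    (hx : ¬ ((x : Matrix (Fin 2) (Fin 2) F) 0 1 = 0 ∧ (x : Matrix (Fin 2) (Fin 2) F) 1 0 = 0 ∧
      (x : Matrix (Fin 2) (Fin 2) F) 0 0 = (x : Matrix (Fin 2) (Fin 2) F) 1 1))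
    (a b : Matrix.SpecialLinearGroup (Fin 2) F) (ha : a * x = x * a) (hb : b * x = x * b) :
    a * b = b * a := by
  obtain ⟨α, β, hab⟩ := sl2_centralizer_form x a hx ha
  obtain ⟨α', β', hab'⟩ := sl2_centralizer_form x b hx hb
  apply Subtype.ext
  rw [Matrix.SpecialLinearGroup.coe_mul, Matrix.SpecialLinearGroup.coe_mul, hab, hab']
  have h1 : Commute (α • (1 : Matrix (Fin 2) (Fin 2) F) + β • (x : Matrix (Fin 2) (Fin 2) F))
      (x : Matrix (Fin 2) (Fin 2) F) :=
    ((Commute.one_left _).smul_left α).add_left ((Commute.refl _).smul_left β)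
  exact (((Commute.one_right _).smul_right α').add_right (h1.smul_right β')).eq

theorem sl2_conj_inv_of_commute (x w a : Matrix.SpecialLinearGroup (Fin 2) F)
    (hx : ¬ ((x : Matrix (Fin 2) (Fin 2) F) 0 1 = 0 ∧ (x : Matrix (Fin 2) (Fin 2) F) 1 0 = 0 ∧
      (x : Matrix (Fin 2) (Fin 2) F) 0 0 = (x : Matrix (Fin 2) (Fin 2) F) 1 1))
    (hw : w * x * w⁻¹ = x⁻¹) (ha : a * x = x * a) : w * a * w⁻¹ = a⁻¹ := by
  obtain ⟨α, β, hab⟩ := sl2_centralizer_form x a hx ha
  rw [mul_inv_eq_iff_eq_mul]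
  have hwx : w * x = x⁻¹ * w := by
    rw [← hw]
    group
  apply Subtype.ext
  rw [Matrix.SpecialLinearGroup.coe_mul, Matrix.SpecialLinearGroup.coe_mul,
    Matrix.SpecialLinearGroup.coe_inv]
  have hadj : Matrix.adjugate (a : Matrix (Fin 2) (Fin 2) F) =
      α • (1 : Matrix (Fin 2) (Fin 2) F) + β • Matrix.adjugate (x : Matrix (Fin 2) (Fin 2) F) := by
    rw [hab, Matrix.adjugate_fin_two, Matrix.adjugate_fin_two]
    ext i j
    fin_cases i <;> fin_cases j <;> simp
  have hwxm : (w : Matrix (Fin 2) (Fin 2) F) * (x : Matrix (Fin 2) (Fin 2) F) =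
      Matrix.adjugate (x : Matrix (Fin 2) (Fin 2) F) * (w : Matrix (Fin 2) (Fin 2) F) := by
    have := congrArg (fun M : Matrix.SpecialLinearGroup (Fin 2) F =>
      (M : Matrix (Fin 2) (Fin 2) F)) hwx
    simp only [Matrix.SpecialLinearGroup.coe_mul, Matrix.SpecialLinearGroup.coe_inv] at this
    exact this
  rw [hadj, hab, Matrix.mul_add, Matrix.add_mul, Matrix.mul_smul, Matrix.smul_mul,
    Matrix.mul_smul, Matrix.smul_mul, Matrix.mul_one, Matrix.one_mul, hwxm]

theorem sl2_eq_or_eq_inv_of_trace (h2 : (2 : F) ≠ 0) (x y : Matrix.SpecialLinearGroup (Fin 2) F)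
    (ht : (Matrix.trace (x : Matrix (Fin 2) (Fin 2) F)) ^ 2 ≠ 4) (hy : y * x = x * y)
    (hty : Matrix.trace (y : Matrix (Fin 2) (Fin 2) F) =
      Matrix.trace (x : Matrix (Fin 2) (Fin 2) F)) : y = x ∨ y = x⁻¹ := by
  obtain ⟨α, β, hab⟩ := sl2_centralizer_form x y (sl2_nonscalar_of_trace x ht) hy
  obtain ⟨x0, hx0⟩ : ∃ x0, x0 = (x : Matrix (Fin 2) (Fin 2) F) 0 0 := ⟨_, rfl⟩
  obtain ⟨x1, hx1⟩ : ∃ x1, x1 = (x : Matrix (Fin 2) (Fin 2) F) 0 1 := ⟨_, rfl⟩
  obtain ⟨x2, hx2⟩ : ∃ x2, x2 = (x : Matrix (Fin 2) (Fin 2) F) 1 0 := ⟨_, rfl⟩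
  obtain ⟨x3, hx3⟩ : ∃ x3, x3 = (x : Matrix (Fin 2) (Fin 2) F) 1 1 := ⟨_, rfl⟩
  have hxm : (x : Matrix (Fin 2) (Fin 2) F) = !![x0, x1; x2, x3] := by
    rw [hx0, hx1, hx2, hx3]
    exact Matrix.eta_fin_two _
  have hdx : x0 * x3 - x1 * x2 = 1 := by
    rw [hx0, hx1, hx2, hx3]
    exact sl2_det x
  have hdy := sl2_det y
  rw [hab, hxm] at hdy
  simp at hdy
  rw [Matrix.trace_fin_two, Matrix.trace_fin_two, hab, hxm] at hty
  simp at hty
  rw [Matrix.trace_fin_two, ← hx0, ← hx3] at ht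
  have hβ : (1 - β) * (1 + β) * ((x0 + x3) ^ 2 - 4) = 0 := by
    linear_combination 4 * hdy - 4 * β ^ 2 * hdx - ((x0 + x3) * (1 - β) + 2 * α + 2 * β * (x0 + x3)) * hty
  have ht' : (x0 + x3) ^ 2 - 4 ≠ 0 := fun h => ht (sub_eq_zero.1 h)
  rcases mul_eq_zero.1 hβ with h | h
  · rcases mul_eq_zero.1 h with h | h
    · left
      have hb1 : β = 1 := (sub_eq_zero.1 h).symm
      have ha0 : α = 0 := by
        have : 2 * α = 0 := by
          rw [hb1] at hty
          linear_combination hty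
        rcases mul_eq_zero.1 this with h | h
        · exact absurd h h2
        · exact h
      apply Subtype.ext
      rw [hab, hb1, ha0, zero_smul, zero_add, one_smul]
    · right
      have hb1 : β = -1 := eq_neg_of_add_eq_zero_right h
      have ha0 : α = x0 + x3 := by
        have : 2 * (α - (x0 + x3)) = 0 := by
          rw [hb1] at hty
          linear_combination hty
        rcases mul_eq_zero.1 this with h | h
        · exact absurd h h2
        · exact sub_eq_zero.1 h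
      apply Subtype.ext
      rw [Matrix.SpecialLinearGroup.coe_inv, hab, hb1, ha0, hxm, Matrix.adjugate_fin_two]
      ext i j
      fin_cases i <;> fin_cases j <;> simp
  · exact absurd h ht'


theorem sl2_mem_centralizer_singleton (x a : Matrix.SpecialLinearGroup (Fin 2) F) :
    a ∈ Subgroup.centralizer ({x} : Set (Matrix.SpecialLinearGroup (Fin 2) F)) ↔
      a * x = x * a := by
  rw [Subgroup.mem_centralizer_iff]
  constructor
  · intro h
    exact (h x (Set.mem_singleton x)).symm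
  · intro h y hy
    rw [Set.mem_singleton_iff] at hy
    rw [hy]
    exact h.symm

theorem sl2_trace_inv (x : Matrix.SpecialLinearGroup (Fin 2) F) :
    Matrix.trace ((x⁻¹ : Matrix.SpecialLinearGroup (Fin 2) F) : Matrix (Fin 2) (Fin 2) F) =
      Matrix.trace (x : Matrix (Fin 2) (Fin 2) F) := by
  rw [Matrix.SpecialLinearGroup.coe_inv, Matrix.adjugate_fin_two, Matrix.trace_fin_two,
    Matrix.trace_fin_two]
  simp
  ring

/-- Structure of the normaliser of the centraliser of a regular semisimple element of `SL₂(q)`,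
`q` odd. -/
theorem sl2_normalizer_centralizer [Fintype F] (h2 : (2 : F) ≠ 0)
    (x : Matrix.SpecialLinearGroup (Fin 2) F)
    (ht : (Matrix.trace (x : Matrix (Fin 2) (Fin 2) F)) ^ 2 ≠ 4) :
    (∀ g ∈ Subgroup.normalizer ((Subgroup.centralizer
        ({x} : Set (Matrix.SpecialLinearGroup (Fin 2) F)) :
        Subgroup (Matrix.SpecialLinearGroup (Fin 2) F)) : Set (Matrix.SpecialLinearGroup (Fin 2) F)),
      g * x * g⁻¹ = x ∨ g * x * g⁻¹ = x⁻¹) ∧
    Nat.card (Subgroup.normalizer ((Subgroup.centralizer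
        ({x} : Set (Matrix.SpecialLinearGroup (Fin 2) F)) :
        Subgroup (Matrix.SpecialLinearGroup (Fin 2) F)) : Set (Matrix.SpecialLinearGroup (Fin 2) F))) =
      2 * Nat.card (Subgroup.centralizer ({x} : Set (Matrix.SpecialLinearGroup (Fin 2) F))) ∧
    2 * Nat.card (ConjClasses (Subgroup.normalizer ((Subgroup.centralizer
        ({x} : Set (Matrix.SpecialLinearGroup (Fin 2) F)) :
        Subgroup (Matrix.SpecialLinearGroup (Fin 2) F)) : Set (Matrix.SpecialLinearGroup (Fin 2) F)))) =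
      Nat.card (Subgroup.centralizer ({x} : Set (Matrix.SpecialLinearGroup (Fin 2) F))) + 6 ∧
    ∀ g ∈ Subgroup.normalizer ((Subgroup.centralizer
        ({x} : Set (Matrix.SpecialLinearGroup (Fin 2) F)) :
        Subgroup (Matrix.SpecialLinearGroup (Fin 2) F)) : Set (Matrix.SpecialLinearGroup (Fin 2) F)),
      g ∉ Subgroup.centralizer ({x} : Set (Matrix.SpecialLinearGroup (Fin 2) F)) →
        g * g = sl2PM false 0 := by
  have hns := sl2_nonscalar_of_trace x ht
  have hmemC := sl2_mem_centralizer_singleton x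
  have hxT : x ∈ Subgroup.centralizer ({x} : Set (Matrix.SpecialLinearGroup (Fin 2) F)) :=
    (hmemC x).2 rfl
  have hconjtr : ∀ g : Matrix.SpecialLinearGroup (Fin 2) F,
      Matrix.trace ((g * x * g⁻¹ : Matrix.SpecialLinearGroup (Fin 2) F) :
        Matrix (Fin 2) (Fin 2) F) = Matrix.trace (x : Matrix (Fin 2) (Fin 2) F) := by
    intro g
    have hc : IsConj x (g * x * g⁻¹) := isConj_iff.2 ⟨g, rfl⟩
    exact (sl2_conj_trace hc).symm
  have hN1 : ∀ g ∈ Subgroup.normalizer ((Subgroup.centralizer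
        ({x} : Set (Matrix.SpecialLinearGroup (Fin 2) F)) :
        Subgroup (Matrix.SpecialLinearGroup (Fin 2) F)) : Set (Matrix.SpecialLinearGroup (Fin 2) F)),
      g * x * g⁻¹ = x ∨ g * x * g⁻¹ = x⁻¹ := by
    intro g hg
    have h1 : g * x * g⁻¹ ∈ Subgroup.centralizer
        ({x} : Set (Matrix.SpecialLinearGroup (Fin 2) F)) :=
      (Subgroup.mem_normalizer_iff.1 hg x).1 hxT
    exact sl2_eq_or_eq_inv_of_trace h2 x _ ht ((hmemC _).1 h1) (hconjtr g)
  obtain ⟨w, hw⟩ : ∃ w : Matrix.SpecialLinearGroup (Fin 2) F, w * x * w⁻¹ = x⁻¹ :=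
    isConj_iff.1 (sl2_isConj_of_trace_eq _ ht (sl2Comp_conj_all _ ht) x x⁻¹ rfl (sl2_trace_inv x))
  have hinvT : ∀ n : Matrix.SpecialLinearGroup (Fin 2) F, n * x * n⁻¹ = x⁻¹ →
      ∀ a ∈ Subgroup.centralizer ({x} : Set (Matrix.SpecialLinearGroup (Fin 2) F)),
        n * a * n⁻¹ = a⁻¹ :=
    fun n hn a ha => sl2_conj_inv_of_commute x n a hns hn ((hmemC a).1 ha)
  have hzT : sl2PM false (0 : F) ∈ Subgroup.centralizer
      ({x} : Set (Matrix.SpecialLinearGroup (Fin 2) F)) :=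
    (hmemC _).2 ((Subgroup.mem_center_iff.1 sl2PM_false_mem_center x).symm)
  have hzz : sl2PM false (0 : F) * sl2PM false (0 : F) = 1 := by
    apply Subtype.ext
    rw [Matrix.SpecialLinearGroup.coe_mul, sl2PM_val, Matrix.SpecialLinearGroup.coe_one]
    ext i j
    fin_cases i <;> fin_cases j <;> simp [Matrix.mul_apply, Fin.sum_univ_two]
  have hx2 : x ≠ x⁻¹ := by
    intro h
    have h1 : x * x = 1 := by
      nth_rewrite 2 [h]
      exact mul_inv_cancel x
    rcases sl2_sq_eq_one_odd h2 x h1 with h | h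
    · apply ht
      rw [h, Matrix.trace_fin_two]
      simp
      norm_num
    · apply ht
      rw [h, sl2PM_val, Matrix.trace_fin_two]
      simp
      norm_num
  have hwT : w ∉ Subgroup.centralizer ({x} : Set (Matrix.SpecialLinearGroup (Fin 2) F)) := by
    intro h
    apply hx2
    rw [← hw, (hmemC w).1 h, mul_inv_cancel_right]
  have hwinv : w⁻¹ * x * w⁻¹⁻¹ = x⁻¹ := by
    rw [inv_inv]
    have h1 : x = w⁻¹ * x⁻¹ * w := by
      rw [← hw]
      group
    calc w⁻¹ * x * w = (w⁻¹ * x⁻¹ * w)⁻¹ := by group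
      _ = x⁻¹ := by rw [← h1]
  have hwN : w ∈ Subgroup.normalizer ((Subgroup.centralizer
        ({x} : Set (Matrix.SpecialLinearGroup (Fin 2) F)) :
        Subgroup (Matrix.SpecialLinearGroup (Fin 2) F)) :
        Set (Matrix.SpecialLinearGroup (Fin 2) F)) := by
    rw [Subgroup.mem_normalizer_iff]
    intro a
    constructor
    · intro ha
      rw [hinvT w hw a ha]
      exact Subgroup.inv_mem _ ha
    · intro ha
      have h1 := hinvT w⁻¹ hwinv _ ha
      have h3 : w⁻¹ * (w * a * w⁻¹) * w⁻¹⁻¹ = a := by group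
      rw [h3] at h1
      rw [h1]
      exact Subgroup.inv_mem _ ha
  have hcov : ∀ g ∈ Subgroup.normalizer ((Subgroup.centralizer
        ({x} : Set (Matrix.SpecialLinearGroup (Fin 2) F)) :
        Subgroup (Matrix.SpecialLinearGroup (Fin 2) F)) : Set (Matrix.SpecialLinearGroup (Fin 2) F)),
      g ∈ Subgroup.centralizer ({x} : Set (Matrix.SpecialLinearGroup (Fin 2) F)) ∨
      w⁻¹ * g ∈ Subgroup.centralizer ({x} : Set (Matrix.SpecialLinearGroup (Fin 2) F)) := by
    intro g hg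
    rcases hN1 g hg with h | h
    · left
      rw [hmemC]
      calc g * x = (g * x * g⁻¹) * g := by group
        _ = x * g := by rw [h]
    · right
      rw [hmemC]
      calc w⁻¹ * g * x = w⁻¹ * (g * x * g⁻¹) * g := by group
        _ = w⁻¹ * (w * x * w⁻¹) * g := by rw [h, hw]
        _ = x * (w⁻¹ * g) := by group
  have hsq : ∀ a ∈ Subgroup.centralizer ({x} : Set (Matrix.SpecialLinearGroup (Fin 2) F)),
      a * a = 1 → a = 1 ∨ a = sl2PM false 0 := fun a _ h => sl2_sq_eq_one_odd h2 a h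
  obtain ⟨hc1, hc2⟩ := card_conjClasses_dicyclic_sub
    (Subgroup.centralizer ({x} : Set (Matrix.SpecialLinearGroup (Fin 2) F)))
    (Subgroup.normalizer ((Subgroup.centralizer
        ({x} : Set (Matrix.SpecialLinearGroup (Fin 2) F)) :
        Subgroup (Matrix.SpecialLinearGroup (Fin 2) F)) : Set (Matrix.SpecialLinearGroup (Fin 2) F)))
    Subgroup.le_normalizer w (sl2PM false 0) hwN hwT hcov (hinvT w hw)
    (fun a ha b hb => sl2_centralizer_comm x hns a b ((hmemC a).1 ha) ((hmemC b).1 hb))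
    hzT (sl2PM_false_ne_one h2) hzz hsq
  refine ⟨hN1, hc1, hc2, ?_⟩
  intro g hg hgT
  have hgx : g * x * g⁻¹ = x⁻¹ := by
    rcases hN1 g hg with h | h
    · exfalso
      apply hgT
      rw [hmemC]
      calc g * x = (g * x * g⁻¹) * g := by group
        _ = x * g := by rw [h]
    · exact h
  have hgg : g * g ∈ Subgroup.centralizer ({x} : Set (Matrix.SpecialLinearGroup (Fin 2) F)) := by
    rw [hmemC]
    calc g * g * x = g * (g * x * g⁻¹) * g := by group
      _ = g * x⁻¹ * g := by rw [hgx]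
      _ = (g * x * g⁻¹)⁻¹ * (g * g) := by group
      _ = x * (g * g) := by rw [hgx, inv_inv]
  have h1 := hinvT g hgx (g * g) hgg
  have h3 : g * (g * g) * g⁻¹ = g * g := by group
  rw [h3] at h1
  have h4 : (g * g) * (g * g) = 1 := by
    nth_rewrite 2 [h1]
    exact mul_inv_cancel _
  rcases sl2_sq_eq_one_odd h2 (g * g) h4 with h | h
  · exfalso
    rcases sl2_sq_eq_one_odd h2 g h with h' | h'
    · apply hgT
      rw [h']
      exact Subgroup.one_mem _
    · apply hgT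
      rw [h']
      exact hzT
  · exact h

/-- Non-scalar elements of the centraliser of a non-scalar element have the same centraliser. -/
theorem sl2_centralizer_eq_of_mem (x g : Matrix.SpecialLinearGroup (Fin 2) F)
    (hx : ¬ ((x : Matrix (Fin 2) (Fin 2) F) 0 1 = 0 ∧ (x : Matrix (Fin 2) (Fin 2) F) 1 0 = 0 ∧
      (x : Matrix (Fin 2) (Fin 2) F) 0 0 = (x : Matrix (Fin 2) (Fin 2) F) 1 1))
    (hg : ¬ ((g : Matrix (Fin 2) (Fin 2) F) 0 1 = 0 ∧ (g : Matrix (Fin 2) (Fin 2) F) 1 0 = 0 ∧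
      (g : Matrix (Fin 2) (Fin 2) F) 0 0 = (g : Matrix (Fin 2) (Fin 2) F) 1 1))
    (hgx : g * x = x * g) :
    Subgroup.centralizer ({g} : Set (Matrix.SpecialLinearGroup (Fin 2) F)) =
      Subgroup.centralizer ({x} : Set (Matrix.SpecialLinearGroup (Fin 2) F)) := by
  ext a
  rw [sl2_mem_centralizer_singleton, sl2_mem_centralizer_singleton]
  constructor
  · intro h
    exact sl2_centralizer_comm g hg a x h hgx.symm
  · intro h
    exact sl2_centralizer_comm x hx a g h hgx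

end Cfsg.Agent.Lib.Helper4
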