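import Mathlib
import Cfsg.Agent.Lib.Helper4.SL2Normalizer

set_option autoImplicit false

namespace Cfsg.Agent.Lib.Helper4

variable {F : Type*} [Field F]

theorem sl2PM_false_coe : ((sl2PM false (0 : F) : Matrix.SpecialLinearGroup (Fin 2) F) :
    Matrix (Fin 2) (Fin 2) F) = -1 := by
  rw [sl2PM_val]
  ext i j
  fin_cases i <;> fin_cases j <;> simp

theorem two_ne_zero_of_odd_card [Fintype F] (hodd : Odd (Fintype.card F)) : (2 : F) ≠ 0 := by
  have hq1 := Nat.odd_iff.1 hodd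
  have hchar : ringChar F ≠ 2 := by
    intro h
    have := FiniteField.even_card_of_char_two h
    omega
  exact Ring.two_ne_zero hchar

/-- Over a finite field of odd order there is a trace with irreducible characteristic
polynomial. -/
theorem exists_trace_no_root_odd [Fintype F] (hodd : Odd (Fintype.card F)) :
    ∃ t : F, ∀ a : F, a ^ 2 - t * a + 1 ≠ 0 := by
  by_cases h4 : 4 ≤ Fintype.card F
  · obtain ⟨t, -, ht⟩ := exists_trace_no_root (F := F) h4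
    exact ⟨t, ht⟩
  · have hq1 := Nat.odd_iff.1 hodd
    have hq2 := Fintype.one_lt_card (α := F)
    have hq3 : Fintype.card F = 3 := by omega
    refine ⟨0, fun a ha => ?_⟩
    have hsq : IsSquare (-1 : F) := ⟨a, by linear_combination -ha⟩
    rw [FiniteField.isSquare_neg_one_iff, hq3] at hsq
    exact hsq rfl

/-- A root of the characteristic polynomial gives an eigenvector. -/
theorem sl2_exists_eigenvector (g : Matrix.SpecialLinearGroup (Fin 2) F) (a : F)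
    (ha : a ^ 2 - Matrix.trace (g : Matrix (Fin 2) (Fin 2) F) * a + 1 = 0) :
    ∃ v : Fin 2 → F, v ≠ 0 ∧ (g : Matrix (Fin 2) (Fin 2) F).mulVec v = a • v := by
  obtain ⟨g0, hg0⟩ : ∃ g0, g0 = (g : Matrix (Fin 2) (Fin 2) F) 0 0 := ⟨_, rfl⟩
  obtain ⟨g1, hg1⟩ : ∃ g1, g1 = (g : Matrix (Fin 2) (Fin 2) F) 0 1 := ⟨_, rfl⟩
  obtain ⟨g2, hg2⟩ : ∃ g2, g2 = (g : Matrix (Fin 2) (Fin 2) F) 1 0 := ⟨_, rfl⟩
  obtain ⟨g3, hg3⟩ : ∃ g3, g3 = (g : Matrix (Fin 2) (Fin 2) F) 1 1 := ⟨_, rfl⟩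
  have hgm : (g : Matrix (Fin 2) (Fin 2) F) = !![g0, g1; g2, g3] := by
    rw [hg0, hg1, hg2, hg3]
    exact Matrix.eta_fin_two _
  have hdet : g0 * g3 - g1 * g2 = 1 := by
    rw [hg0, hg1, hg2, hg3]
    exact sl2_det g
  rw [Matrix.trace_fin_two, ← hg0, ← hg3] at ha
  rw [hgm]
  have hv : ∀ v0 v1 : F, ¬ (v0 = 0 ∧ v1 = 0) → g0 * v0 + g1 * v1 = a * v0 →
      g2 * v0 + g3 * v1 = a * v1 →
      ∃ v : Fin 2 → F, v ≠ 0 ∧ (!![g0, g1; g2, g3] : Matrix (Fin 2) (Fin 2) F).mulVec v = a • v := by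
    intro v0 v1 hne e0 e1
    refine ⟨![v0, v1], ?_, ?_⟩
    · intro h
      apply hne
      constructor
      · have := congrFun h 0
        simpa using this
      · have := congrFun h 1
        simpa using this
    · funext i
      fin_cases i
      · simpa [Matrix.mulVec, dotProduct, Fin.sum_univ_two] using e0
      · simpa [Matrix.mulVec, dotProduct, Fin.sum_univ_two] using e1
  by_cases hA : g1 = 0 ∧ a - g0 = 0
  · obtain ⟨h1, h0⟩ := hA
    have ha0 : a = g0 := sub_eq_zero.1 h0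
    by_cases hB : a - g3 = 0 ∧ g2 = 0
    · obtain ⟨h3, h2⟩ := hB
      refine hv 1 0 (fun h => one_ne_zero h.1) ?_ ?_
      · rw [ha0]
        ring
      · rw [h2]
        ring
    · refine hv (a - g3) g2 hB ?_ ?_
      · rw [h1, ha0]
        ring
      · ring
  · refine hv g1 (a - g0) hA ?_ ?_
    · ring
    · linear_combination -ha - hdet

theorem not_isSquare_of_no_root (h2 : (2 : F) ≠ 0) (t : F)
    (hnr : ∀ a : F, a ^ 2 - t * a + 1 ≠ 0) : ¬ IsSquare (t ^ 2 - 4) := by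
  rintro ⟨s, hs⟩
  apply hnr ((t + s) / 2)
  field_simp
  linear_combination -hs

/-- The centraliser of an element with irreducible characteristic polynomial contains elements
of every trace with irreducible characteristic polynomial. -/
theorem sl2_exists_commute_of_trace [Fintype F] (h2 : (2 : F) ≠ 0)
    (x : Matrix.SpecialLinearGroup (Fin 2) F)
    (hnr : ∀ a : F, a ^ 2 - Matrix.trace (x : Matrix (Fin 2) (Fin 2) F) * a + 1 ≠ 0)
    (τ : F) (hτ : ∀ a : F, a ^ 2 - τ * a + 1 ≠ 0) :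
    ∃ y : Matrix.SpecialLinearGroup (Fin 2) F, y * x = x * y ∧
      Matrix.trace (y : Matrix (Fin 2) (Fin 2) F) = τ := by
  classical
  obtain ⟨x0, hx0⟩ : ∃ x0, x0 = (x : Matrix (Fin 2) (Fin 2) F) 0 0 := ⟨_, rfl⟩
  obtain ⟨x1, hx1⟩ : ∃ x1, x1 = (x : Matrix (Fin 2) (Fin 2) F) 0 1 := ⟨_, rfl⟩
  obtain ⟨x2, hx2⟩ : ∃ x2, x2 = (x : Matrix (Fin 2) (Fin 2) F) 1 0 := ⟨_, rfl⟩
  obtain ⟨x3, hx3⟩ : ∃ x3, x3 = (x : Matrix (Fin 2) (Fin 2) F) 1 1 := ⟨_, rfl⟩
  have hxm : (x : Matrix (Fin 2) (Fin 2) F) = !![x0, x1; x2, x3] := by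
    rw [hx0, hx1, hx2, hx3]
    exact Matrix.eta_fin_two _
  have hdx : x0 * x3 - x1 * x2 = 1 := by
    rw [hx0, hx1, hx2, hx3]
    exact sl2_det x
  rw [Matrix.trace_fin_two, ← hx0, ← hx3] at hnr
  have hD1 := not_isSquare_of_no_root h2 _ hnr
  have hD2 := not_isSquare_of_no_root h2 _ hτ
  have hD1ne : (x0 + x3) ^ 2 - 4 ≠ 0 := fun h => hD1 (h ▸ IsSquare.zero)
  have hD2ne : τ ^ 2 - 4 ≠ 0 := fun h => hD2 (h ▸ IsSquare.zero)
  have hchi : quadraticChar F (((x0 + x3) ^ 2 - 4) * (τ ^ 2 - 4)) = 1 := by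
    rw [map_mul, quadraticChar_neg_one_iff_not_isSquare.2 hD1,
      quadraticChar_neg_one_iff_not_isSquare.2 hD2]
    norm_num
  obtain ⟨s, hs⟩ := (quadraticChar_one_iff_isSquare (mul_ne_zero hD1ne hD2ne)).1 hchi
  obtain ⟨β, hβ⟩ : ∃ β : F, β * ((x0 + x3) ^ 2 - 4) = s := ⟨s / ((x0 + x3) ^ 2 - 4), by field_simp⟩
  have hβ2 : β ^ 2 * ((x0 + x3) ^ 2 - 4) = τ ^ 2 - 4 := by
    apply mul_left_cancel₀ hD1ne
    rw [hs, ← hβ]
    ring
  obtain ⟨α, hα⟩ : ∃ α : F, 2 * α = τ - β * (x0 + x3) := ⟨(τ - β * (x0 + x3)) / 2, by field_simp⟩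
  have h4 : (4 : F) ≠ 0 := by
    have : (4 : F) = 2 * 2 := by norm_num
    rw [this]
    exact mul_ne_zero h2 h2
  have hdet : Matrix.det !![α + β * x0, β * x1; β * x2, α + β * x3] = 1 := by
    rw [Matrix.det_fin_two_of]
    apply mul_left_cancel₀ h4
    linear_combination (2 * α + τ + β * (x0 + x3)) * hα - hβ2 + 4 * β ^ 2 * hdx
  obtain ⟨y, hy⟩ : ∃ y : Matrix.SpecialLinearGroup (Fin 2) F, (y : Matrix (Fin 2) (Fin 2) F) =
      !![α + β * x0, β * x1; β * x2, α + β * x3] := ⟨⟨_, hdet⟩, rfl⟩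
  refine ⟨y, ?_, ?_⟩
  · apply Subtype.ext
    rw [Matrix.SpecialLinearGroup.coe_mul, Matrix.SpecialLinearGroup.coe_mul, hxm, hy]
    ext i j
    fin_cases i <;> fin_cases j <;> simp [Matrix.mul_apply, Fin.sum_univ_two] <;> ring
  · rw [hy, Matrix.trace_fin_two]
    simp
    linear_combination hα

end Cfsg.Agent.Lib.Helper4
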