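import Mathlib
import Cfsg.Agent.Lib.Helper4.GL2Borel
import Cfsg.Agent.Lib.Helper4.SL2Nonsplit

set_option autoImplicit false

namespace Cfsg.Agent.Lib.Helper4

variable {F : Type*} [Field F]

theorem mem_sl2Borel_iff (g : Matrix.SpecialLinearGroup (Fin 2) F) :
    g ∈ (Cfsg.upperTriangularGL 2 F).comap Matrix.SpecialLinearGroup.toGL ↔
      (g : Matrix (Fin 2) (Fin 2) F) 1 0 = 0 := by
  rw [Subgroup.mem_comap, mem_borel2_iff]
  rfl

/-- Upper triangular matrices of determinant one. -/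
def sl2BorelMk (p : Fˣ × F) : Matrix.SpecialLinearGroup (Fin 2) F :=
  ⟨!![(p.1 : F), p.2; 0, ((p.1⁻¹ : Fˣ) : F)], by simp [Matrix.det_fin_two]⟩

theorem sl2BorelMk_val (p : Fˣ × F) :
    ((sl2BorelMk p : Matrix.SpecialLinearGroup (Fin 2) F) : Matrix (Fin 2) (Fin 2) F) =
      !![(p.1 : F), p.2; 0, ((p.1⁻¹ : Fˣ) : F)] := rfl

theorem sl2BorelMk_mem (p : Fˣ × F) :
    sl2BorelMk p ∈ (Cfsg.upperTriangularGL 2 F).comap Matrix.SpecialLinearGroup.toGL := by
  rw [mem_sl2Borel_iff, sl2BorelMk_val]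
  simp

theorem sl2BorelMk_injective : Function.Injective (sl2BorelMk (F := F)) := by
  intro p p' h
  have h1 := congrArg (fun M : Matrix.SpecialLinearGroup (Fin 2) F =>
    (M : Matrix (Fin 2) (Fin 2) F)) h
  simp only [sl2BorelMk_val] at h1
  have e00 := congrFun (congrFun h1 0) 0
  have e01 := congrFun (congrFun h1 0) 1
  simp at e00 e01
  exact Prod.ext (Units.ext e00) e01

theorem exists_sl2BorelMk_eq (g : Matrix.SpecialLinearGroup (Fin 2) F)
    (hg : (g : Matrix (Fin 2) (Fin 2) F) 1 0 = 0) : ∃ p : Fˣ × F, sl2BorelMk p = g := by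
  have hdet := sl2_det g
  rw [hg] at hdet
  obtain ⟨u, hu⟩ : ∃ u, u = (g : Matrix (Fin 2) (Fin 2) F) 0 0 := ⟨_, rfl⟩
  rw [← hu] at hdet
  have hu0 : u ≠ 0 := by
    intro h
    rw [h] at hdet
    simp at hdet
  have h3 : (g : Matrix (Fin 2) (Fin 2) F) 1 1 = u⁻¹ := by
    apply eq_inv_of_mul_eq_one_right
    linear_combination hdet
  have h := Matrix.eta_fin_two (g : Matrix (Fin 2) (Fin 2) F)
  rw [hg, h3, ← hu] at h
  refine ⟨(Units.mk0 u hu0, (g : Matrix (Fin 2) (Fin 2) F) 0 1), ?_⟩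
  apply Subtype.ext
  rw [sl2BorelMk_val, h]
  simp

/-- The parametrisation of the Borel subgroup of `SL₂`. -/
noncomputable def sl2BorelEquiv : Fˣ × F ≃
    ((Cfsg.upperTriangularGL 2 F).comap Matrix.SpecialLinearGroup.toGL :
      Subgroup (Matrix.SpecialLinearGroup (Fin 2) F)) :=
  Equiv.ofBijective (fun p => ⟨sl2BorelMk p, sl2BorelMk_mem p⟩) (by
    constructor
    · intro p p' h
      exact sl2BorelMk_injective (congrArg Subtype.val h)
    · rintro ⟨g, hg⟩
      obtain ⟨p, hp⟩ := exists_sl2BorelMk_eq g ((mem_sl2Borel_iff g).1 hg)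
      exact ⟨p, Subtype.ext hp⟩)

theorem sl2BorelEquiv_val (p : Fˣ × F) :
    ((sl2BorelEquiv p : ((Cfsg.upperTriangularGL 2 F).comap Matrix.SpecialLinearGroup.toGL :
      Subgroup (Matrix.SpecialLinearGroup (Fin 2) F))) : Matrix.SpecialLinearGroup (Fin 2) F) =
      sl2BorelMk p := rfl

theorem sl2BorelMk_commute_iff (p p' : Fˣ × F) :
    sl2BorelMk p * sl2BorelMk p' = sl2BorelMk p' * sl2BorelMk p ↔
      p'.2 * ((p.1 : F) - (p.1 : F)⁻¹) = p.2 * ((p'.1 : F) - (p'.1 : F)⁻¹) := by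
  have ha : (p.1 : F) ≠ 0 := p.1.ne_zero
  have hc : (p'.1 : F) ≠ 0 := p'.1.ne_zero
  constructor
  · intro h
    have h1 := congrArg (fun M : Matrix.SpecialLinearGroup (Fin 2) F =>
      (M : Matrix (Fin 2) (Fin 2) F)) h
    simp only [Matrix.SpecialLinearGroup.coe_mul, sl2BorelMk_val] at h1
    have e01 := congrFun (congrFun h1 0) 1
    simp [Matrix.mul_apply, Fin.sum_univ_two] at e01
    linear_combination e01
  · intro h
    apply Subtype.ext
    rw [Matrix.SpecialLinearGroup.coe_mul, Matrix.SpecialLinearGroup.coe_mul, sl2BorelMk_val,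
      sl2BorelMk_val]
    ext i j
    fin_cases i <;> fin_cases j
    · simp [Matrix.mul_apply, Fin.sum_univ_two, mul_comm]
    · simp [Matrix.mul_apply, Fin.sum_univ_two]
      linear_combination h
    · simp [Matrix.mul_apply, Fin.sum_univ_two]
    · simp [Matrix.mul_apply, Fin.sum_univ_two, mul_comm]

theorem card_line_solutions [Fintype F] [DecidableEq F] (u v : F) :
    Nat.card {bd : F × F // bd.2 * u = bd.1 * v} =
      if u = 0 ∧ v = 0 then Fintype.card F ^ 2 else Fintype.card F := by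
  by_cases hu : u = 0
  · by_cases hv : v = 0
    · rw [if_pos ⟨hu, hv⟩]
      have hall : ∀ bd : F × F, bd.2 * u = bd.1 * v := by
        intro bd
        rw [hu, hv, mul_zero, mul_zero]
      rw [Nat.card_congr (Equiv.subtypeUnivEquiv hall), Nat.card_prod, Nat.card_eq_fintype_card,
        pow_two]
    · rw [if_neg (fun h => hv h.2)]
      rw [← Nat.card_eq_fintype_card (α := F)]
      refine Nat.card_congr ⟨fun bd => bd.1.2, fun d => ⟨(0, d), by simp [hu]⟩, ?_, ?_⟩
      · rintro ⟨⟨b, d⟩, h⟩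
        simp only [hu, mul_zero] at h
        have hb : b = 0 := by
          rcases mul_eq_zero.1 h.symm with h' | h'
          · exact h'
          · exact absurd h' hv
        simp [hb]
      · intro d
        rfl
  · rw [if_neg (fun h => hu h.1)]
    rw [← Nat.card_eq_fintype_card (α := F)]
    refine Nat.card_congr ⟨fun bd => bd.1.1, fun b => ⟨(b, b * v / u), by field_simp⟩, ?_, ?_⟩
    · rintro ⟨⟨b, d⟩, h⟩
      simp only at h
      apply Subtype.ext
      simp only [Prod.mk.injEq, true_and]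
      field_simp
      linear_combination -h
    · intro b
      rfl


theorem units_sub_inv_eq_zero_iff (h2 : (2 : F) ≠ 0) (a : Fˣ) :
    (a : F) - (a : F)⁻¹ = 0 ↔ a = 1 ∨ a = -1 := by
  have ha : (a : F) ≠ 0 := a.ne_zero
  constructor
  · intro h
    have h1 : ((a : F) - 1) * ((a : F) + 1) = 0 := by
      have : (a : F) * ((a : F) - (a : F)⁻¹) = 0 := by rw [h, mul_zero]
      rw [mul_sub, mul_inv_cancel₀ ha] at this
      linear_combination this
    rcases mul_eq_zero.1 h1 with h | h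
    · left
      apply Units.ext
      rw [Units.val_one]
      exact sub_eq_zero.1 h
    · right
      apply Units.ext
      rw [Units.val_neg, Units.val_one]
      exact eq_neg_of_add_eq_zero_left h
  · rintro (rfl | rfl)
    · simp
    · simp

/-- The Borel subgroup of `SL₂(q)`, `q` odd, has `q + 3` conjugacy classes. -/
theorem card_conjClasses_sl2Borel [Fintype F] (hodd : Odd (Fintype.card F)) :
    Nat.card (ConjClasses ((Cfsg.upperTriangularGL 2 F).comap Matrix.SpecialLinearGroup.toGL :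
      Subgroup (Matrix.SpecialLinearGroup (Fin 2) F))) = Fintype.card F + 3 := by
  classical
  have h2 : (2 : F) ≠ 0 := two_ne_zero_of_odd_card hodd
  have key := card_comm_eq_card_conjClasses_mul_card
    ((Cfsg.upperTriangularGL 2 F).comap Matrix.SpecialLinearGroup.toGL :
      Subgroup (Matrix.SpecialLinearGroup (Fin 2) F))
  have hB : Nat.card ((Cfsg.upperTriangularGL 2 F).comap Matrix.SpecialLinearGroup.toGL :
      Subgroup (Matrix.SpecialLinearGroup (Fin 2) F)) = (Fintype.card F - 1) * Fintype.card F := by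
    rw [← Nat.card_congr (sl2BorelEquiv (F := F)), Nat.card_prod, Nat.card_eq_fintype_card,
      Nat.card_eq_fintype_card, Fintype.card_units]
  have hE1 : Nat.card {pp : (Fˣ × F) × (Fˣ × F) //
      pp.2.2 * ((pp.1.1 : F) - (pp.1.1 : F)⁻¹) = pp.1.2 * ((pp.2.1 : F) - (pp.2.1 : F)⁻¹)} =
      Nat.card {p : ((Cfsg.upperTriangularGL 2 F).comap Matrix.SpecialLinearGroup.toGL :
      Subgroup (Matrix.SpecialLinearGroup (Fin 2) F)) × ((Cfsg.upperTriangularGL 2 F).comap
      Matrix.SpecialLinearGroup.toGL : Subgroup (Matrix.SpecialLinearGroup (Fin 2) F)) //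
      Commute p.1 p.2} := by
    refine Nat.card_congr (Equiv.subtypeEquiv (Equiv.prodCongr sl2BorelEquiv sl2BorelEquiv) ?_)
    intro pp
    rw [← sl2BorelMk_commute_iff, commute_iff_eq, Subtype.ext_iff]
    rfl
  have hE2 : Nat.card {qq : (Fˣ × Fˣ) × (F × F) //
      qq.2.2 * ((qq.1.1 : F) - (qq.1.1 : F)⁻¹) = qq.2.1 * ((qq.1.2 : F) - (qq.1.2 : F)⁻¹)} =
      Nat.card {pp : (Fˣ × F) × (Fˣ × F) //
      pp.2.2 * ((pp.1.1 : F) - (pp.1.1 : F)⁻¹) = pp.1.2 * ((pp.2.1 : F) - (pp.2.1 : F)⁻¹)} := by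
    refine Nat.card_congr (Equiv.subtypeEquiv (Equiv.prodProdProdComm Fˣ Fˣ F F) ?_)
    intro qq
    rfl
  rw [← hE1, ← hE2, Nat.card_congr (Equiv.subtypeProdEquivSigmaSubtype
    (fun (ac : Fˣ × Fˣ) (bd : F × F) =>
      bd.2 * ((ac.1 : F) - (ac.1 : F)⁻¹) = bd.1 * ((ac.2 : F) - (ac.2 : F)⁻¹))),
    Nat.card_sigma, hB] at key
  have hc : ∀ ac : Fˣ × Fˣ, Nat.card {bd : F × F //
      bd.2 * ((ac.1 : F) - (ac.1 : F)⁻¹) = bd.1 * ((ac.2 : F) - (ac.2 : F)⁻¹)} =
      if ac ∈ (({1, -1} : Finset Fˣ) ×ˢ ({1, -1} : Finset Fˣ)) then Fintype.card F ^ 2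
        else Fintype.card F := by
    intro ac
    rw [card_line_solutions]
    have hiff : (((ac.1 : F) - (ac.1 : F)⁻¹ = 0) ∧ ((ac.2 : F) - (ac.2 : F)⁻¹ = 0)) ↔
        ac ∈ (({1, -1} : Finset Fˣ) ×ˢ ({1, -1} : Finset Fˣ)) := by
      rw [Finset.mem_product, Finset.mem_insert, Finset.mem_singleton, Finset.mem_insert,
        Finset.mem_singleton, units_sub_inv_eq_zero_iff h2, units_sub_inv_eq_zero_iff h2]
    by_cases h : ac ∈ (({1, -1} : Finset Fˣ) ×ˢ ({1, -1} : Finset Fˣ))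
    · rw [if_pos h, if_pos (hiff.2 h)]
    · rw [if_neg h, if_neg (fun h' => h (hiff.1 h'))]
  have hne : (1 : Fˣ) ≠ -1 := by
    intro h
    have h1 := congrArg (fun u : Fˣ => (u : F)) h
    simp only [Units.val_one, Units.val_neg] at h1
    apply h2
    linear_combination h1
  rw [Finset.sum_congr rfl (fun x _ => hc x), Finset.sum_ite, Finset.sum_const, Finset.sum_const,
    smul_eq_mul, smul_eq_mul, Finset.filter_mem_eq_inter, Finset.univ_inter, Finset.card_product,
    Finset.card_pair hne] at key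
  have hm := Finset.card_filter_add_card_filter_not (s := (Finset.univ : Finset (Fˣ × Fˣ)))
    (fun ac => ac ∈ (({1, -1} : Finset Fˣ) ×ˢ ({1, -1} : Finset Fˣ)))
  rw [Finset.filter_mem_eq_inter, Finset.univ_inter, Finset.card_product, Finset.card_pair hne,
    Finset.card_univ, Fintype.card_prod, Fintype.card_units] at hm
  obtain ⟨m, hmdef⟩ : ∃ m, m = (Finset.univ.filter (fun ac : Fˣ × Fˣ =>
      ¬ ac ∈ (({1, -1} : Finset Fˣ) ×ˢ ({1, -1} : Finset Fˣ)))).card := ⟨_, rfl⟩
  rw [← hmdef] at hm key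
  have hq1 := Nat.odd_iff.1 hodd
  have hq2 := Fintype.one_lt_card (α := F)
  obtain ⟨r, hr⟩ : ∃ r, Fintype.card F = r + 3 := ⟨Fintype.card F - 3, by omega⟩
  rw [hr] at hm key ⊢
  have h3 : r + 3 - 1 = r + 2 := by omega
  rw [h3] at hm key
  have hm' : m = r * r + 4 * r := by
    have : (r + 2) * (r + 2) = r * r + 4 * r + 4 := by ring
    omega
  rw [hm'] at key
  have h5 : Nat.card (ConjClasses ((Cfsg.upperTriangularGL 2 F).comap
      Matrix.SpecialLinearGroup.toGL : Subgroup (Matrix.SpecialLinearGroup (Fin 2) F))) *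
      ((r + 2) * (r + 3)) = (r + 3 + 3) * ((r + 2) * (r + 3)) := by
    rw [← key]
    ring
  exact Nat.eq_of_mul_eq_mul_right (by positivity) h5

end Cfsg.Agent.Lib.Helper4
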