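import Mathlib
import Cfsg.Prelude.Def_Characters
import Cfsg.Agent.Lib.Lead.CharRing
import Cfsg.Agent.Lib.Lead.CharFrob
import Cfsg.Agent.Lib.Lead.CharCentral
import Cfsg.Agent.Lib.Lead.CharExtraspecial2

set_option autoImplicit false

namespace Cfsg.Agent.Lib.Helper4

open scoped ComplexConjugate
open Cfsg.Agent.Lib.Lead

section general

variable {G : Type*} [Group G]

/-- A homomorphism to `ℂˣ` is a character. -/
theorem isCharacter_of_monoidHom (lam : G →* ℂˣ) :
    Cfsg.IsCharacter G (fun g => ((lam g : ℂˣ) : ℂ)) := by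
  refine ⟨1, ?_, ?_⟩
  · exact
      { toFun := fun g => ((lam g : ℂˣ) : ℂ) • LinearMap.id
        map_one' := by simp [Module.End.one_eq_id]
        map_mul' := fun a b => by
          ext v i
          simp [mul_smul]
          ring }
  · funext g
    show LinearMap.trace ℂ (Fin 1 → ℂ) (((lam g : ℂˣ) : ℂ) • LinearMap.id) = _
    rw [map_smul, LinearMap.trace_id, Module.finrank_fin_fun]
    simp

theorem isIrrCharacter_of_monoidHom (lam : G →* ℂˣ) :
    Cfsg.IsIrrCharacter G (fun g => ((lam g : ℂˣ) : ℂ)) :=
  isIrrCharacter_of_linear (isCharacter_of_monoidHom lam) (by simp)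

/-- Positive definiteness of the inner product. -/
theorem classInner_self_eq_zero [Fintype G] (f : G → ℂ) (h : Cfsg.classInner f f = 0) :
    f = 0 := by
  unfold Cfsg.classInner at h
  have hc : (Nat.card G : ℂ)⁻¹ ≠ 0 := by
    apply inv_ne_zero
    exact_mod_cast Nat.card_pos.ne'
  have h1 : ∑ g : G, f g * conj (f g) = 0 := by
    rcases mul_eq_zero.mp h with h | h
    · exact absurd h hc
    · exact h
  have h2 : ∀ g : G, f g * conj (f g) = ((Complex.normSq (f g) : ℝ) : ℂ) := fun g =>
    Complex.mul_conj (f g)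
  simp_rw [h2] at h1
  have h3 : ∑ g : G, Complex.normSq (f g) = 0 := by exact_mod_cast h1
  have h4 := (Finset.sum_eq_zero_iff_of_nonneg (fun g _ => Complex.normSq_nonneg (f g))).mp h3
  funext g
  exact Complex.normSq_eq_zero.mp (h4 g (Finset.mem_univ g))

/-- The regular character. -/
noncomputable def regFun (G : Type*) [Group G] [DecidableEq G] : G → ℂ :=
  fun g => if g = 1 then (Nat.card G : ℂ) else 0

theorem classInner_regFun_right [Fintype G] [DecidableEq G] (f : G → ℂ) :
    Cfsg.classInner f (regFun G) = f 1 := by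
  unfold Cfsg.classInner regFun
  rw [Finset.sum_eq_single (1 : G)]
  · rw [if_pos rfl, Complex.conj_natCast, mul_comm (f 1), ← mul_assoc, inv_mul_cancel₀, one_mul]
    exact_mod_cast Nat.card_pos.ne'
  · intro g _ hg
    rw [if_neg hg, map_zero, mul_zero]
  · intro h
    exact absurd (Finset.mem_univ _) h

theorem classInner_regFun_left [Fintype G] [DecidableEq G] (f : G → ℂ) :
    Cfsg.classInner (regFun G) f = conj (f 1) := by
  unfold Cfsg.classInner regFun
  rw [Finset.sum_eq_single (1 : G)]
  · rw [if_pos rfl, ← mul_assoc, inv_mul_cancel₀, one_mul]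
    exact_mod_cast Nat.card_pos.ne'
  · intro g _ hg
    rw [if_neg hg, zero_mul]
  · intro h
    exact absurd (Finset.mem_univ _) h

/-- If `Φ` has the same value at one, the same norm as the regular character, it is the
regular character. -/
theorem eq_regFun_of_norm [Fintype G] [DecidableEq G] (Φ : G → ℂ)
    (h1 : Φ 1 = (Nat.card G : ℂ)) (hn : Cfsg.classInner Φ Φ = (Nat.card G : ℂ)) :
    Φ = regFun G := by
  apply eq_of_sub_eq_zero
  apply classInner_self_eq_zero
  rw [classInner_sub_left, classInner_sub_right, classInner_sub_right, hn,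
    classInner_regFun_right, classInner_regFun_left, classInner_regFun_left, h1]
  simp [regFun]

/-- Composition with an automorphism preserves the inner product. -/
theorem classInner_comp_equiv [Fintype G] (σ : G ≃* G) (f h : G → ℂ) :
    Cfsg.classInner (f ∘ σ) (h ∘ σ) = Cfsg.classInner f h := by
  unfold Cfsg.classInner
  congr 1
  exact Equiv.sum_comp σ.toEquiv (fun g => f g * conj (h g))

theorem isIrrCharacter_comp_equiv (σ : G ≃* G) {χ : G → ℂ} (h : Cfsg.IsIrrCharacter G χ) :
    Cfsg.IsIrrCharacter G (χ ∘ σ) :=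
  isIrrCharacter_comp_surj σ.toMonoidHom σ.surjective h

/-- Functions of opposite parity under a central involution are orthogonal. -/
theorem classInner_eq_zero_of_parity [Fintype G] (z : G) (f h : G → ℂ) (a b : ℂ)
    (hf : ∀ g, f (z * g) = a * f g) (hh : ∀ g, h (z * g) = b * h g)
    (hab : a * conj b ≠ 1) : Cfsg.classInner f h = 0 := by
  have h0 : ∑ g : G, f g * conj (h g) = a * conj b * ∑ g : G, f g * conj (h g) := by
    calc ∑ g : G, f g * conj (h g) = ∑ g : G, f (z * g) * conj (h (z * g)) :=
          (Equiv.sum_comp (Equiv.mulLeft z) (fun g => f g * conj (h g))).symm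
      _ = ∑ g : G, a * conj b * (f g * conj (h g)) := by
          apply Finset.sum_congr rfl
          intro g _
          rw [hf, hh, map_mul]
          ring
      _ = a * conj b * ∑ g : G, f g * conj (h g) := by rw [Finset.mul_sum]
  have h1 : Cfsg.classInner f h = a * conj b * Cfsg.classInner f h := by
    unfold Cfsg.classInner
    rw [mul_left_comm, ← h0]
  by_contra hne
  apply hab
  have h2 : (a * conj b - 1) * Cfsg.classInner f h = 0 := by
    rw [sub_mul, one_mul, ← h1, sub_self]
  rcases mul_eq_zero.mp h2 with h3 | h3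
  · exact sub_eq_zero.mp h3
  · exact absurd h3 hne

/-- An irreducible character transforms by a sign under a central involution. -/
theorem irr_central_sign {χ : G → ℂ} (hχ : Cfsg.IsIrrCharacter G χ) (z : G)
    (hz : z ∈ Subgroup.center G) (hzz : z * z = 1) :
    ∃ ω : ℂ, (ω = 1 ∨ ω = -1) ∧ ∀ g, χ (z * g) = ω * χ g := by
  obtain ⟨n, ρ, hρ, rfl⟩ := hχ
  haveI := hρ
  have hmul : ∀ g : G, ρ.character (z * g) =
      ρ.character z / (Module.finrank ℂ (Fin n → ℂ) : ℂ) * ρ.character g := by
    intro g
    rw [← char_mul_central ρ g z hz, Subgroup.mem_center_iff.mp hz g]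
  set ω := ρ.character z / (Module.finrank ℂ (Fin n → ℂ) : ℂ) with hω
  have h1 : ρ.character 1 ≠ 0 := by
    obtain ⟨m, hm0, hm⟩ := irr_one (⟨n, ρ, hρ, rfl⟩ : Cfsg.IsIrrCharacter G ρ.character)
    rw [hm]
    exact_mod_cast hm0
  have h2 : ω * ω = 1 := by
    have h3 := hmul z
    rw [hzz] at h3
    have h4 := hmul 1
    rw [mul_one] at h4
    rw [h4, ← mul_assoc] at h3
    have h5 : (ω * ω - 1) * ρ.character 1 = 0 := by
      rw [sub_mul, one_mul, ← h3, sub_self]
    rcases mul_eq_zero.mp h5 with h6 | h6
    · exact sub_eq_zero.mp h6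
    · exact absurd h6 h1
  refine ⟨ω, ?_, hmul⟩
  have h3 : (ω - 1) * (ω + 1) = 0 := by linear_combination h2
  rcases mul_eq_zero.mp h3 with h4 | h4
  · left; exact sub_eq_zero.mp h4
  · right; exact eq_neg_of_add_eq_zero_left h4

end general

end Cfsg.Agent.Lib.Helper4
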