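import Mathlib
import Cfsg.Prelude.Def_Characters
import Cfsg.Agent.Lib.Helper4.SL2Borel

set_option autoImplicit false

namespace Cfsg.Agent.Lib.Helper4

theorem extendByZero_mem {G : Type*} [Group G] (H : Subgroup G) (θ : H → ℂ) (y : G)
    (hy : y ∈ H) : Cfsg.extendByZero H θ y = θ ⟨y, hy⟩ :=
  Function.Injective.extend_apply Subtype.val_injective θ 0 ⟨y, hy⟩

theorem extendByZero_not_mem {G : Type*} [Group G] (H : Subgroup G) (θ : H → ℂ) (y : G)
    (hy : y ∉ H) : Cfsg.extendByZero H θ y = 0 := by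
  unfold Cfsg.extendByZero
  rw [Function.extend_apply']
  · rfl
  · rintro ⟨a, rfl⟩
    exact hy a.2

variable {F : Type*} [Field F]

/-- Entries of a conjugate in `SL₂`. -/
theorem sl2_conj_entries (g x : Matrix.SpecialLinearGroup (Fin 2) F) :
    ((x⁻¹ * g * x : Matrix.SpecialLinearGroup (Fin 2) F) : Matrix (Fin 2) (Fin 2) F) 1 0 =
      (x : Matrix (Fin 2) (Fin 2) F) 0 0 * ((g : Matrix (Fin 2) (Fin 2) F) 1 0 *
        (x : Matrix (Fin 2) (Fin 2) F) 0 0 + (g : Matrix (Fin 2) (Fin 2) F) 1 1 *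
        (x : Matrix (Fin 2) (Fin 2) F) 1 0) -
      (x : Matrix (Fin 2) (Fin 2) F) 1 0 * ((g : Matrix (Fin 2) (Fin 2) F) 0 0 *
        (x : Matrix (Fin 2) (Fin 2) F) 0 0 + (g : Matrix (Fin 2) (Fin 2) F) 0 1 *
        (x : Matrix (Fin 2) (Fin 2) F) 1 0) ∧
    ((x⁻¹ * g * x : Matrix.SpecialLinearGroup (Fin 2) F) : Matrix (Fin 2) (Fin 2) F) 0 0 =
      (x : Matrix (Fin 2) (Fin 2) F) 1 1 * ((g : Matrix (Fin 2) (Fin 2) F) 0 0 *
        (x : Matrix (Fin 2) (Fin 2) F) 0 0 + (g : Matrix (Fin 2) (Fin 2) F) 0 1 *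
        (x : Matrix (Fin 2) (Fin 2) F) 1 0) -
      (x : Matrix (Fin 2) (Fin 2) F) 0 1 * ((g : Matrix (Fin 2) (Fin 2) F) 1 0 *
        (x : Matrix (Fin 2) (Fin 2) F) 0 0 + (g : Matrix (Fin 2) (Fin 2) F) 1 1 *
        (x : Matrix (Fin 2) (Fin 2) F) 1 0) := by
  rw [Matrix.SpecialLinearGroup.coe_mul, Matrix.SpecialLinearGroup.coe_mul,
    Matrix.SpecialLinearGroup.coe_inv, Matrix.adjugate_fin_two]
  constructor
  · simp [Matrix.mul_apply, Fin.sum_univ_two, Matrix.vecMul, dotProduct]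
    ring
  · simp [Matrix.mul_apply, Fin.sum_univ_two, Matrix.vecMul, dotProduct]
    ring

theorem card_sl2_lower_zero [Fintype F] [DecidableEq F] :
    (Finset.univ.filter (fun x : Matrix.SpecialLinearGroup (Fin 2) F =>
      (x : Matrix (Fin 2) (Fin 2) F) 1 0 = 0)).card = (Fintype.card F - 1) * Fintype.card F := by
  rw [← Fintype.card_subtype, ← Nat.card_eq_fintype_card,
    ← Nat.card_congr (Equiv.subtypeEquivRight (mem_sl2Borel_iff (F := F))),
    ← Nat.card_congr (sl2BorelEquiv (F := F)), Nat.card_prod, Nat.card_eq_fintype_card,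
    Nat.card_eq_fintype_card, Fintype.card_units]

theorem card_sl2_upper_zero [Fintype F] [DecidableEq F] :
    (Finset.univ.filter (fun x : Matrix.SpecialLinearGroup (Fin 2) F =>
      (x : Matrix (Fin 2) (Fin 2) F) 0 0 = 0)).card = (Fintype.card F - 1) * Fintype.card F := by
  rw [← card_sl2_lower_zero, ← Fintype.card_subtype, ← Fintype.card_subtype]
  refine Fintype.card_congr (Equiv.subtypeEquiv (Equiv.mulLeft (sl2Comp (0 : F) 1)) ?_)
  intro x
  rw [Equiv.coe_mulLeft, Matrix.SpecialLinearGroup.coe_mul, sl2Comp_val]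
  simp [Matrix.mul_apply, Fin.sum_univ_two]


theorem card_sl2Borel [Fintype F] :
    Nat.card ((Cfsg.upperTriangularGL 2 F).comap Matrix.SpecialLinearGroup.toGL :
      Subgroup (Matrix.SpecialLinearGroup (Fin 2) F)) = (Fintype.card F - 1) * Fintype.card F := by
  classical
  rw [← Nat.card_congr (sl2BorelEquiv (F := F)), Nat.card_prod, Nat.card_eq_fintype_card,
    Nat.card_eq_fintype_card, Fintype.card_units]

theorem card_sl2Borel_ne_zero [Fintype F] :
    (((Fintype.card F - 1) * Fintype.card F : ℕ) : ℂ) ≠ 0 := by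
  have hq2 := Fintype.one_lt_card (α := F)
  have h1 : 0 < (Fintype.card F - 1) * Fintype.card F := by
    apply Nat.mul_pos <;> omega
  exact_mod_cast h1.ne'

/-- The summand in the induced function from the Borel subgroup. -/
theorem sl2R_term [DecidableEq F] (α : MulChar F ℂ) (g x : Matrix.SpecialLinearGroup (Fin 2) F) :
    Cfsg.extendByZero ((Cfsg.upperTriangularGL 2 F).comap Matrix.SpecialLinearGroup.toGL)
      (fun b => α (((b : Matrix.SpecialLinearGroup (Fin 2) F) : Matrix (Fin 2) (Fin 2) F) 0 0))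
      (x⁻¹ * g * x) =
    if ((x⁻¹ * g * x : Matrix.SpecialLinearGroup (Fin 2) F) : Matrix (Fin 2) (Fin 2) F) 1 0 = 0
      then α (((x⁻¹ * g * x : Matrix.SpecialLinearGroup (Fin 2) F) :
        Matrix (Fin 2) (Fin 2) F) 0 0) else 0 := by
  by_cases h : ((x⁻¹ * g * x : Matrix.SpecialLinearGroup (Fin 2) F) :
      Matrix (Fin 2) (Fin 2) F) 1 0 = 0
  · rw [if_pos h, extendByZero_mem _ _ _ ((mem_sl2Borel_iff _).2 h)]
  · rw [if_neg h, extendByZero_not_mem _ _ _ (fun hh => h ((mem_sl2Borel_iff _).1 hh))]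

/-- Value of the principal series function at a regular diagonal element. -/
theorem sl2R_diag [Fintype F] [DecidableEq F] (α : MulChar F ℂ)
    (g : Matrix.SpecialLinearGroup (Fin 2) F)
    (hg01 : (g : Matrix (Fin 2) (Fin 2) F) 0 1 = 0) (hg10 : (g : Matrix (Fin 2) (Fin 2) F) 1 0 = 0)
    (hg : (g : Matrix (Fin 2) (Fin 2) F) 0 0 ^ 2 ≠ 1) :
    (Cfsg.indFun ((Cfsg.upperTriangularGL 2 F).comap Matrix.SpecialLinearGroup.toGL)
      (fun b => α (((b : Matrix.SpecialLinearGroup (Fin 2) F) : Matrix (Fin 2) (Fin 2) F) 0 0))) g =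
      α ((g : Matrix (Fin 2) (Fin 2) F) 0 0) + α ((g : Matrix (Fin 2) (Fin 2) F) 1 1) := by
  have hdg := sl2_det g
  rw [hg01, hg10] at hdg
  obtain ⟨a, ha⟩ : ∃ a, a = (g : Matrix (Fin 2) (Fin 2) F) 0 0 := ⟨_, rfl⟩
  obtain ⟨b, hb⟩ : ∃ b, b = (g : Matrix (Fin 2) (Fin 2) F) 1 1 := ⟨_, rfl⟩
  rw [← ha, ← hb] at hdg
  rw [← ha] at hg
  have hne : b - a ≠ 0 := by
    intro h
    apply hg
    have h1 : b = a := sub_eq_zero.1 h
    rw [h1] at hdg
    linear_combination hdg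
  have hterm : ∀ x : Matrix.SpecialLinearGroup (Fin 2) F,
      Cfsg.extendByZero ((Cfsg.upperTriangularGL 2 F).comap Matrix.SpecialLinearGroup.toGL)
      (fun b => α (((b : Matrix.SpecialLinearGroup (Fin 2) F) : Matrix (Fin 2) (Fin 2) F) 0 0))
      (x⁻¹ * g * x) =
      (if (x : Matrix (Fin 2) (Fin 2) F) 1 0 = 0 then α a else 0) +
      (if (x : Matrix (Fin 2) (Fin 2) F) 0 0 = 0 then α b else 0) := by
    intro x
    rw [sl2R_term]
    obtain ⟨h10, h00⟩ := sl2_conj_entries g x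
    rw [h10, h00, hg01, hg10, ← ha, ← hb]
    have hdx := sl2_det x
    obtain ⟨p, hp⟩ : ∃ p, p = (x : Matrix (Fin 2) (Fin 2) F) 0 0 := ⟨_, rfl⟩
    obtain ⟨r, hr⟩ : ∃ r, r = (x : Matrix (Fin 2) (Fin 2) F) 0 1 := ⟨_, rfl⟩
    obtain ⟨s, hs⟩ : ∃ s, s = (x : Matrix (Fin 2) (Fin 2) F) 1 0 := ⟨_, rfl⟩
    obtain ⟨u, hu⟩ : ∃ u, u = (x : Matrix (Fin 2) (Fin 2) F) 1 1 := ⟨_, rfl⟩
    rw [← hp, ← hr, ← hs, ← hu] at hdx ⊢
    by_cases hs0 : s = 0
    · have hp0 : p ≠ 0 := by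
        intro hp0
        rw [hp0, hs0] at hdx
        simp at hdx
      rw [if_pos (by rw [hs0]; ring), if_pos hs0, if_neg hp0, add_zero]
      congr 1
      rw [hs0] at hdx ⊢
      linear_combination a * hdx
    · by_cases hp0 : p = 0
      · rw [if_pos (by rw [hp0]; ring), if_neg hs0, if_pos hp0, zero_add]
        congr 1
        rw [hp0] at hdx ⊢
        linear_combination b * hdx
      · rw [if_neg, if_neg hs0, if_neg hp0, add_zero]
        intro h
        have h1 : p * s * (b - a) = 0 := by linear_combination h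
        rcases mul_eq_zero.1 h1 with h' | h'
        · rcases mul_eq_zero.1 h' with h'' | h''
          · exact hp0 h''
          · exact hs0 h''
        · exact hne h'
  unfold Cfsg.indFun
  rw [Finset.sum_congr rfl (fun x _ => hterm x), Finset.sum_add_distrib, Finset.sum_ite,
    Finset.sum_ite, Finset.sum_const, Finset.sum_const_zero, Finset.sum_const,
    Finset.sum_const_zero, add_zero, add_zero, card_sl2_lower_zero, card_sl2_upper_zero,
    card_sl2Borel, nsmul_eq_mul, nsmul_eq_mul]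
  have h0 := card_sl2Borel_ne_zero (F := F)
  field_simp
  rw [ha, hb]

/-- Value of the principal series function at `±` a non-trivial unipotent element. -/
theorem sl2R_unip [Fintype F] [DecidableEq F] (α : MulChar F ℂ)
    (g : Matrix.SpecialLinearGroup (Fin 2) F)
    (hg10 : (g : Matrix (Fin 2) (Fin 2) F) 1 0 = 0)
    (hg00 : (g : Matrix (Fin 2) (Fin 2) F) 0 0 = (g : Matrix (Fin 2) (Fin 2) F) 1 1)
    (hg01 : (g : Matrix (Fin 2) (Fin 2) F) 0 1 ≠ 0) :
    (Cfsg.indFun ((Cfsg.upperTriangularGL 2 F).comap Matrix.SpecialLinearGroup.toGL)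
      (fun b => α (((b : Matrix.SpecialLinearGroup (Fin 2) F) : Matrix (Fin 2) (Fin 2) F) 0 0))) g =
      α ((g : Matrix (Fin 2) (Fin 2) F) 0 0) := by
  obtain ⟨a, ha⟩ : ∃ a, a = (g : Matrix (Fin 2) (Fin 2) F) 0 0 := ⟨_, rfl⟩
  obtain ⟨b, hb⟩ : ∃ b, b = (g : Matrix (Fin 2) (Fin 2) F) 0 1 := ⟨_, rfl⟩
  rw [← ha] at hg00
  rw [← hb] at hg01
  have hterm : ∀ x : Matrix.SpecialLinearGroup (Fin 2) F,
      Cfsg.extendByZero ((Cfsg.upperTriangularGL 2 F).comap Matrix.SpecialLinearGroup.toGL)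
      (fun b => α (((b : Matrix.SpecialLinearGroup (Fin 2) F) : Matrix (Fin 2) (Fin 2) F) 0 0))
      (x⁻¹ * g * x) =
      (if (x : Matrix (Fin 2) (Fin 2) F) 1 0 = 0 then α a else 0) := by
    intro x
    rw [sl2R_term]
    obtain ⟨h10, h00⟩ := sl2_conj_entries g x
    rw [h10, h00, hg10, ← hg00, ← ha, ← hb]
    have hdx := sl2_det x
    obtain ⟨p, hp⟩ : ∃ p, p = (x : Matrix (Fin 2) (Fin 2) F) 0 0 := ⟨_, rfl⟩
    obtain ⟨r, hr⟩ : ∃ r, r = (x : Matrix (Fin 2) (Fin 2) F) 0 1 := ⟨_, rfl⟩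
    obtain ⟨s, hs⟩ : ∃ s, s = (x : Matrix (Fin 2) (Fin 2) F) 1 0 := ⟨_, rfl⟩
    obtain ⟨u, hu⟩ : ∃ u, u = (x : Matrix (Fin 2) (Fin 2) F) 1 1 := ⟨_, rfl⟩
    rw [← hp, ← hr, ← hs, ← hu] at hdx ⊢
    by_cases hs0 : s = 0
    · rw [if_pos (by rw [hs0]; ring), if_pos hs0]
      congr 1
      rw [hs0] at hdx ⊢
      linear_combination a * hdx
    · rw [if_neg, if_neg hs0]
      intro h
      have h1 : b * (s * s) = 0 := by linear_combination -h
      rcases mul_eq_zero.1 h1 with h' | h'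
      · exact hg01 h'
      · rcases mul_eq_zero.1 h' with h'' | h'' <;> exact hs0 h''
  unfold Cfsg.indFun
  rw [Finset.sum_congr rfl (fun x _ => hterm x), Finset.sum_ite, Finset.sum_const,
    Finset.sum_const_zero, add_zero, card_sl2_lower_zero, card_sl2Borel, nsmul_eq_mul]
  have h0 := card_sl2Borel_ne_zero (F := F)
  field_simp
  rw [ha]

/-- The principal series function vanishes at elements without eigenvectors. -/
theorem sl2R_nonsplit [Fintype F] [DecidableEq F] (α : MulChar F ℂ)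
    (g : Matrix.SpecialLinearGroup (Fin 2) F)
    (hg : ∀ (c : F) (v : Fin 2 → F), v ≠ 0 → (g : Matrix (Fin 2) (Fin 2) F).mulVec v ≠ c • v) :
    (Cfsg.indFun ((Cfsg.upperTriangularGL 2 F).comap Matrix.SpecialLinearGroup.toGL)
      (fun b => α (((b : Matrix.SpecialLinearGroup (Fin 2) F) : Matrix (Fin 2) (Fin 2) F) 0 0))) g =
      0 := by
  have hterm : ∀ x : Matrix.SpecialLinearGroup (Fin 2) F,
      Cfsg.extendByZero ((Cfsg.upperTriangularGL 2 F).comap Matrix.SpecialLinearGroup.toGL)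
      (fun b => α (((b : Matrix.SpecialLinearGroup (Fin 2) F) : Matrix (Fin 2) (Fin 2) F) 0 0))
      (x⁻¹ * g * x) = 0 := by
    intro x
    rw [sl2R_term, if_neg]
    intro h
    obtain ⟨h10, h00⟩ := sl2_conj_entries g x
    rw [h10] at h
    have hdx := sl2_det x
    obtain ⟨p, hp⟩ : ∃ p, p = (x : Matrix (Fin 2) (Fin 2) F) 0 0 := ⟨_, rfl⟩
    obtain ⟨r, hr⟩ : ∃ r, r = (x : Matrix (Fin 2) (Fin 2) F) 0 1 := ⟨_, rfl⟩
    obtain ⟨s, hs⟩ : ∃ s, s = (x : Matrix (Fin 2) (Fin 2) F) 1 0 := ⟨_, rfl⟩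
    obtain ⟨u, hu⟩ : ∃ u, u = (x : Matrix (Fin 2) (Fin 2) F) 1 1 := ⟨_, rfl⟩
    obtain ⟨g0, hg0⟩ : ∃ g0, g0 = (g : Matrix (Fin 2) (Fin 2) F) 0 0 := ⟨_, rfl⟩
    obtain ⟨g1, hg1⟩ : ∃ g1, g1 = (g : Matrix (Fin 2) (Fin 2) F) 0 1 := ⟨_, rfl⟩
    obtain ⟨g2, hg2⟩ : ∃ g2, g2 = (g : Matrix (Fin 2) (Fin 2) F) 1 0 := ⟨_, rfl⟩
    obtain ⟨g3, hg3⟩ : ∃ g3, g3 = (g : Matrix (Fin 2) (Fin 2) F) 1 1 := ⟨_, rfl⟩
    have hgm : (g : Matrix (Fin 2) (Fin 2) F) = !![g0, g1; g2, g3] := by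
      rw [hg0, hg1, hg2, hg3]
      exact Matrix.eta_fin_two _
    rw [← hp, ← hr, ← hs, ← hu] at hdx
    rw [← hp, ← hs, ← hg0, ← hg1, ← hg2, ← hg3] at h
    apply hg (u * (g0 * p + g1 * s) - r * (g2 * p + g3 * s)) ![p, s]
    · intro hv
      have e0 := congrFun hv 0
      have e1 := congrFun hv 1
      simp at e0 e1
      rw [e0, e1] at hdx
      simp at hdx
    · rw [hgm]
      funext i
      fin_cases i
      · simp [Matrix.mulVec, dotProduct, Fin.sum_univ_two]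
        linear_combination -(g0 * p + g1 * s) * hdx + r * h
      · simp [Matrix.mulVec, dotProduct, Fin.sum_univ_two]
        linear_combination -(g2 * p + g3 * s) * hdx + u * h
  unfold Cfsg.indFun
  rw [Finset.sum_congr rfl (fun x _ => hterm x), Finset.sum_const_zero, mul_zero]

/-- Value of the principal series function at a central element. -/
theorem sl2R_central [Fintype F] [DecidableEq F] (α : MulChar F ℂ)
    (g : Matrix.SpecialLinearGroup (Fin 2) F)
    (hg01 : (g : Matrix (Fin 2) (Fin 2) F) 0 1 = 0) (hg10 : (g : Matrix (Fin 2) (Fin 2) F) 1 0 = 0)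
    (hg00 : (g : Matrix (Fin 2) (Fin 2) F) 0 0 = (g : Matrix (Fin 2) (Fin 2) F) 1 1) :
    (Cfsg.indFun ((Cfsg.upperTriangularGL 2 F).comap Matrix.SpecialLinearGroup.toGL)
      (fun b => α (((b : Matrix.SpecialLinearGroup (Fin 2) F) : Matrix (Fin 2) (Fin 2) F) 0 0))) g =
      ((Fintype.card F : ℂ) + 1) * α ((g : Matrix (Fin 2) (Fin 2) F) 0 0) := by
  have hterm : ∀ x : Matrix.SpecialLinearGroup (Fin 2) F,
      Cfsg.extendByZero ((Cfsg.upperTriangularGL 2 F).comap Matrix.SpecialLinearGroup.toGL)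
      (fun b => α (((b : Matrix.SpecialLinearGroup (Fin 2) F) : Matrix (Fin 2) (Fin 2) F) 0 0))
      (x⁻¹ * g * x) = α ((g : Matrix (Fin 2) (Fin 2) F) 0 0) := by
    intro x
    rw [sl2R_term]
    obtain ⟨h10, h00⟩ := sl2_conj_entries g x
    have hdx := sl2_det x
    rw [h10, h00, hg01, hg10, ← hg00, if_pos (by ring)]
    congr 1
    linear_combination (g : Matrix (Fin 2) (Fin 2) F) 0 0 * hdx
  unfold Cfsg.indFun
  rw [Finset.sum_congr rfl (fun x _ => hterm x), Finset.sum_const, Finset.card_univ,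
    ← Nat.card_eq_fintype_card, card_sl2, card_sl2Borel, nsmul_eq_mul]
  have h0 := card_sl2Borel_ne_zero (F := F)
  have hq2 := Fintype.one_lt_card (α := F)
  obtain ⟨r, hr⟩ : ∃ r, Fintype.card F = r + 2 := ⟨Fintype.card F - 2, by omega⟩
  rw [hr] at h0 ⊢
  have h3 : (r + 2) ^ 2 - 1 = (r + 1) * (r + 3) := by
    have : (r + 2) ^ 2 = (r + 1) * (r + 3) + 1 := by ring
    omega
  have h4 : r + 2 - 1 = r + 1 := by omega
  rw [h3, h4]
  have h1 : (r : ℂ) + 1 ≠ 0 := by exact_mod_cast Nat.succ_ne_zero r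
  have h2 : (r : ℂ) + 2 ≠ 0 := by exact_mod_cast Nat.succ_ne_zero (r + 1)
  push_cast
  field_simp
  ring

end Cfsg.Agent.Lib.Helper4
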