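import Mathlib
import Cfsg.Prelude.Def_Characters
import Cfsg.Agent.Lib.Helper4.SL2Induced

set_option autoImplicit false

namespace Cfsg.Agent.Lib.Helper4

/-- A Mackey-type rearrangement of the inner product of two induced functions. -/
theorem sum_conj_sum_mul {G : Type*} [Group G] [Fintype G] (A B : G → ℂ) :
    ∑ g : G, (∑ x : G, A (x⁻¹ * g * x)) * (starRingEnd ℂ) (∑ y : G, B (y⁻¹ * g * y)) =
      (Fintype.card G : ℂ) * ∑ z : G, ∑ h : G, A h * (starRingEnd ℂ) (B (z⁻¹ * h * z)) := by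
  have h1 : ∀ g : G, (∑ x : G, A (x⁻¹ * g * x)) * (starRingEnd ℂ) (∑ y : G, B (y⁻¹ * g * y)) =
      ∑ x : G, ∑ y : G, A (x⁻¹ * g * x) * (starRingEnd ℂ) (B (y⁻¹ * g * y)) := by
    intro g
    rw [map_sum, Finset.sum_mul_sum]
  rw [Finset.sum_congr rfl (fun g _ => h1 g), Finset.sum_comm]
  have h2 : ∀ x : G, ∑ g : G, ∑ y : G, A (x⁻¹ * g * x) * (starRingEnd ℂ) (B (y⁻¹ * g * y)) =
      ∑ z : G, ∑ h : G, A h * (starRingEnd ℂ) (B (z⁻¹ * h * z)) := by
    intro x
    rw [Finset.sum_comm]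
    refine Fintype.sum_equiv (Equiv.mulLeft x⁻¹) _ _ (fun y => ?_)
    refine Fintype.sum_equiv (MulAut.conj x⁻¹).toEquiv _ _ (fun g => ?_)
    simp only [MulEquiv.toEquiv_eq_coe, MulEquiv.coe_toEquiv, MulAut.conj_apply, inv_inv,
      Equiv.coe_mulLeft]
    congr 3
    group
  rw [Finset.sum_congr rfl (fun x _ => h2 x), Finset.sum_const, Finset.card_univ, nsmul_eq_mul]

variable {F : Type*} [Field F]

theorem sl2E_apply [DecidableEq F] (α : MulChar F ℂ) (y : Matrix.SpecialLinearGroup (Fin 2) F) :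
    Cfsg.extendByZero ((Cfsg.upperTriangularGL 2 F).comap Matrix.SpecialLinearGroup.toGL)
      (fun b => α (((b : Matrix.SpecialLinearGroup (Fin 2) F) : Matrix (Fin 2) (Fin 2) F) 0 0)) y =
    if (y : Matrix (Fin 2) (Fin 2) F) 1 0 = 0 then α ((y : Matrix (Fin 2) (Fin 2) F) 0 0) else 0 := by
  by_cases h : (y : Matrix (Fin 2) (Fin 2) F) 1 0 = 0
  · rw [if_pos h, extendByZero_mem _ _ _ ((mem_sl2Borel_iff _).2 h)]
  · rw [if_neg h, extendByZero_not_mem _ _ _ (fun hh => h ((mem_sl2Borel_iff _).1 hh))]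

theorem sum_sl2_lower_zero [Fintype F] [DecidableEq F]
    (f : Matrix.SpecialLinearGroup (Fin 2) F → ℂ) :
    ∑ h : Matrix.SpecialLinearGroup (Fin 2) F,
      (if (h : Matrix (Fin 2) (Fin 2) F) 1 0 = 0 then f h else 0) =
      ∑ p : Fˣ × F, f (sl2BorelMk p) := by
  rw [← Finset.sum_filter,
    Finset.sum_subtype (Finset.univ.filter (fun h : Matrix.SpecialLinearGroup (Fin 2) F =>
      (h : Matrix (Fin 2) (Fin 2) F) 1 0 = 0))
      (p := fun h : Matrix.SpecialLinearGroup (Fin 2) F => (h : Matrix (Fin 2) (Fin 2) F) 1 0 = 0)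
      (by intro x; simp) f]
  symm
  exact Fintype.sum_equiv
    (sl2BorelEquiv.trans (Equiv.subtypeEquivRight (mem_sl2Borel_iff (F := F)))) _ _ (fun p => rfl)

theorem mulChar_sum_units [Fintype F] [DecidableEq F] (χ : MulChar F ℂ) [Decidable (χ = 1)] :
    ∑ a : Fˣ, χ (a : F) = if χ = 1 then ((Fintype.card F : ℂ) - 1) else 0 := by
  by_cases h : χ = 1
  · rw [if_pos h, h]
    have h1 : ∀ a : Fˣ, (1 : MulChar F ℂ) (a : F) = 1 := fun a => MulChar.one_apply_coe a
    rw [Finset.sum_congr rfl (fun a _ => h1 a), Finset.sum_const, Finset.card_univ,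
      Fintype.card_units, nsmul_eq_mul, mul_one, Nat.cast_sub Fintype.card_pos, Nat.cast_one]
  · rw [if_neg h]
    obtain ⟨b, hb⟩ := MulChar.ne_one_iff.mp h
    refine eq_zero_of_mul_eq_self_left hb ?_
    rw [Finset.mul_sum]
    have h1 : ∀ a : Fˣ, χ (b : F) * χ (a : F) = χ ((b * a : Fˣ) : F) := by
      intro a
      rw [Units.val_mul, map_mul]
    rw [Finset.sum_congr rfl (fun a _ => h1 a)]
    exact (Group.mulLeft_bijective b).sum_comp (fun a : Fˣ => χ (a : F))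


/-- The inner sum in the Mackey formula for the Borel subgroup of `SL₂`. -/
theorem sl2_mackey_inner [Fintype F] [DecidableEq F] (α β : MulChar F ℂ)
    (z : Matrix.SpecialLinearGroup (Fin 2) F) :
    ∑ h : Matrix.SpecialLinearGroup (Fin 2) F,
      Cfsg.extendByZero ((Cfsg.upperTriangularGL 2 F).comap Matrix.SpecialLinearGroup.toGL)
        (fun b => α (((b : Matrix.SpecialLinearGroup (Fin 2) F) : Matrix (Fin 2) (Fin 2) F) 0 0)) h *
      (starRingEnd ℂ) (Cfsg.extendByZero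
        ((Cfsg.upperTriangularGL 2 F).comap Matrix.SpecialLinearGroup.toGL)
        (fun b => β (((b : Matrix.SpecialLinearGroup (Fin 2) F) : Matrix (Fin 2) (Fin 2) F) 0 0))
        (z⁻¹ * h * z)) =
    if (z : Matrix (Fin 2) (Fin 2) F) 1 0 = 0
      then (Fintype.card F : ℂ) * ∑ a : Fˣ, α (a : F) * (starRingEnd ℂ) (β (a : F))
      else ∑ a : Fˣ, α (a : F) * (starRingEnd ℂ) (β ((a⁻¹ : Fˣ) : F)) := by
  obtain ⟨f, hf⟩ : ∃ f : Matrix.SpecialLinearGroup (Fin 2) F → ℂ,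
      f = fun h : Matrix.SpecialLinearGroup (Fin 2) F =>
      α ((h : Matrix (Fin 2) (Fin 2) F) 0 0) * (starRingEnd ℂ) (if
          ((z⁻¹ * h * z : Matrix.SpecialLinearGroup (Fin 2) F) : Matrix (Fin 2) (Fin 2) F) 1 0 = 0
          then β (((z⁻¹ * h * z : Matrix.SpecialLinearGroup (Fin 2) F) :
            Matrix (Fin 2) (Fin 2) F) 0 0) else 0) := ⟨_, rfl⟩
  have h1 : ∀ h : Matrix.SpecialLinearGroup (Fin 2) F,
      Cfsg.extendByZero ((Cfsg.upperTriangularGL 2 F).comap Matrix.SpecialLinearGroup.toGL)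
        (fun b => α (((b : Matrix.SpecialLinearGroup (Fin 2) F) : Matrix (Fin 2) (Fin 2) F) 0 0)) h *
      (starRingEnd ℂ) (Cfsg.extendByZero
        ((Cfsg.upperTriangularGL 2 F).comap Matrix.SpecialLinearGroup.toGL)
        (fun b => β (((b : Matrix.SpecialLinearGroup (Fin 2) F) : Matrix (Fin 2) (Fin 2) F) 0 0))
        (z⁻¹ * h * z)) =
      if (h : Matrix (Fin 2) (Fin 2) F) 1 0 = 0 then f h else 0 := by
    intro h
    rw [sl2E_apply, sl2E_apply, hf]
    by_cases hh : (h : Matrix (Fin 2) (Fin 2) F) 1 0 = 0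
    · rw [if_pos hh, if_pos hh]
    · rw [if_neg hh, if_neg hh, zero_mul]
  rw [Finset.sum_congr rfl (fun h _ => h1 h), sum_sl2_lower_zero f, Fintype.sum_prod_type, hf]
  simp only []
  have hdz := sl2_det z
  obtain ⟨p, hp⟩ : ∃ p, p = (z : Matrix (Fin 2) (Fin 2) F) 0 0 := ⟨_, rfl⟩
  obtain ⟨r, hr⟩ : ∃ r, r = (z : Matrix (Fin 2) (Fin 2) F) 0 1 := ⟨_, rfl⟩
  obtain ⟨s, hs⟩ : ∃ s, s = (z : Matrix (Fin 2) (Fin 2) F) 1 0 := ⟨_, rfl⟩
  obtain ⟨u, hu⟩ : ∃ u, u = (z : Matrix (Fin 2) (Fin 2) F) 1 1 := ⟨_, rfl⟩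
  rw [← hp, ← hr, ← hs, ← hu] at hdz
  have hent : ∀ (a : Fˣ) (b : F),
      ((z⁻¹ * sl2BorelMk (a, b) * z : Matrix.SpecialLinearGroup (Fin 2) F) :
        Matrix (Fin 2) (Fin 2) F) 1 0 = p * (((a⁻¹ : Fˣ) : F) * s) - s * ((a : F) * p + b * s) ∧
      ((z⁻¹ * sl2BorelMk (a, b) * z : Matrix.SpecialLinearGroup (Fin 2) F) :
        Matrix (Fin 2) (Fin 2) F) 0 0 = u * ((a : F) * p + b * s) - r * (((a⁻¹ : Fˣ) : F) * s) := by
    intro a b
    obtain ⟨h10, h00⟩ := sl2_conj_entries (sl2BorelMk (a, b)) z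
    rw [h10, h00, sl2BorelMk_val, ← hp, ← hr, ← hs, ← hu]
    constructor
    · simp
    · simp
  have hval : ∀ (a : Fˣ) (b : F),
      ((sl2BorelMk (a, b) : Matrix.SpecialLinearGroup (Fin 2) F) :
        Matrix (Fin 2) (Fin 2) F) 0 0 = (a : F) := by
    intro a b
    rw [sl2BorelMk_val]
    simp
  rw [← hs]
  by_cases hs0 : s = 0
  · rw [if_pos hs0, Finset.mul_sum]
    refine Finset.sum_congr rfl (fun a _ => ?_)
    have h3 : ∀ b : F, α (((sl2BorelMk (a, b) : Matrix.SpecialLinearGroup (Fin 2) F) :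
        Matrix (Fin 2) (Fin 2) F) 0 0) * (starRingEnd ℂ) (if
          ((z⁻¹ * sl2BorelMk (a, b) * z : Matrix.SpecialLinearGroup (Fin 2) F) :
            Matrix (Fin 2) (Fin 2) F) 1 0 = 0
          then β (((z⁻¹ * sl2BorelMk (a, b) * z : Matrix.SpecialLinearGroup (Fin 2) F) :
            Matrix (Fin 2) (Fin 2) F) 0 0) else 0) =
        α (a : F) * (starRingEnd ℂ) (β (a : F)) := by
      intro b
      rw [hval, (hent a b).1, (hent a b).2, if_pos (by rw [hs0]; ring)]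
      congr 3
      rw [hs0] at hdz ⊢
      linear_combination (a : F) * hdz
    rw [Finset.sum_congr rfl (fun b _ => h3 b), Finset.sum_const, Finset.card_univ, nsmul_eq_mul]
  · rw [if_neg hs0]
    refine Finset.sum_congr rfl (fun a _ => ?_)
    have ha0 : (a : F) ≠ 0 := a.ne_zero
    have h3 : ∀ b : F, α (((sl2BorelMk (a, b) : Matrix.SpecialLinearGroup (Fin 2) F) :
        Matrix (Fin 2) (Fin 2) F) 0 0) * (starRingEnd ℂ) (if
          ((z⁻¹ * sl2BorelMk (a, b) * z : Matrix.SpecialLinearGroup (Fin 2) F) :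
            Matrix (Fin 2) (Fin 2) F) 1 0 = 0
          then β (((z⁻¹ * sl2BorelMk (a, b) * z : Matrix.SpecialLinearGroup (Fin 2) F) :
            Matrix (Fin 2) (Fin 2) F) 0 0) else 0) =
        if b = p * (((a⁻¹ : Fˣ) : F) - (a : F)) / s then
          α (a : F) * (starRingEnd ℂ) (β ((a⁻¹ : Fˣ) : F)) else 0 := by
      intro b
      rw [hval, (hent a b).1, (hent a b).2]
      by_cases hb : b = p * (((a⁻¹ : Fˣ) : F) - (a : F)) / s
      · have hbs : b * s = p * (((a⁻¹ : Fˣ) : F) - (a : F)) := by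
          rw [hb]
          field_simp
        rw [if_pos hb, if_pos (by linear_combination -s * hbs)]
        congr 3
        linear_combination u * hbs + ((a⁻¹ : Fˣ) : F) * hdz
      · rw [if_neg hb, if_neg, map_zero, mul_zero]
        intro h
        apply hb
        rw [eq_div_iff hs0]
        apply mul_left_cancel₀ hs0
        linear_combination -h
    rw [Finset.sum_congr rfl (fun b _ => h3 b), Finset.sum_ite_eq', if_pos (Finset.mem_univ _)]


theorem mulChar_sum_mul_conj [Fintype F] [DecidableEq F] (α β : MulChar F ℂ)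
    [Decidable (α = β)] :
    ∑ a : Fˣ, α (a : F) * (starRingEnd ℂ) (β (a : F)) =
      if α = β then ((Fintype.card F : ℂ) - 1) else 0 := by
  classical
  have h1 : ∀ a : Fˣ, α (a : F) * (starRingEnd ℂ) (β (a : F)) = (α * β⁻¹) (a : F) := by
    intro a
    rw [MulChar.coeToFun_mul, Pi.mul_apply, ← MulChar.star_apply']
    rfl
  rw [Finset.sum_congr rfl (fun a _ => h1 a), mulChar_sum_units]
  by_cases h : α = β
  · rw [if_pos h, if_pos (mul_inv_eq_one.2 h)]
  · rw [if_neg h, if_neg (fun h' => h (mul_inv_eq_one.1 h'))]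

theorem mulChar_sum_mul_conj_inv [Fintype F] [DecidableEq F] (α β : MulChar F ℂ)
    [Decidable (α = β⁻¹)] :
    ∑ a : Fˣ, α (a : F) * (starRingEnd ℂ) (β ((a⁻¹ : Fˣ) : F)) =
      if α = β⁻¹ then ((Fintype.card F : ℂ) - 1) else 0 := by
  classical
  have h1 : ∀ a : Fˣ, α (a : F) * (starRingEnd ℂ) (β ((a⁻¹ : Fˣ) : F)) = (α * β) (a : F) := by
    intro a
    rw [MulChar.coeToFun_mul, Pi.mul_apply]
    congr 1
    have h3 : (starRingEnd ℂ) (β ((a⁻¹ : Fˣ) : F)) = β⁻¹ ((a⁻¹ : Fˣ) : F) :=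
      MulChar.star_apply' β _
    rw [h3, MulChar.inv_apply', Units.val_inv_eq_inv_val, inv_inv]
  rw [Finset.sum_congr rfl (fun a _ => h1 a), mulChar_sum_units]
  by_cases h : α = β⁻¹
  · rw [if_pos h, if_pos (mul_eq_one_iff_eq_inv.2 h)]
  · rw [if_neg h, if_neg (fun h' => h (mul_eq_one_iff_eq_inv.1 h'))]

/-- The inner product of two principal series functions of `SL₂(q)`. -/
theorem sl2R_inner [Fintype F] [DecidableEq F] (α β : MulChar F ℂ)
    [Decidable (α = β)] [Decidable (α = β⁻¹)] :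
    Cfsg.classInner
      (Cfsg.indFun ((Cfsg.upperTriangularGL 2 F).comap Matrix.SpecialLinearGroup.toGL)
        (fun b => α (((b : Matrix.SpecialLinearGroup (Fin 2) F) : Matrix (Fin 2) (Fin 2) F) 0 0)))
      (Cfsg.indFun ((Cfsg.upperTriangularGL 2 F).comap Matrix.SpecialLinearGroup.toGL)
        (fun b => β (((b : Matrix.SpecialLinearGroup (Fin 2) F) : Matrix (Fin 2) (Fin 2) F) 0 0))) =
      (if α = β then 1 else 0) + (if α = β⁻¹ then 1 else 0) := by
  unfold Cfsg.classInner Cfsg.indFun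
  have hc : (starRingEnd ℂ) ((Nat.card ((Cfsg.upperTriangularGL 2 F).comap
      Matrix.SpecialLinearGroup.toGL : Subgroup (Matrix.SpecialLinearGroup (Fin 2) F)) : ℂ)⁻¹) =
      (Nat.card ((Cfsg.upperTriangularGL 2 F).comap
      Matrix.SpecialLinearGroup.toGL : Subgroup (Matrix.SpecialLinearGroup (Fin 2) F)) : ℂ)⁻¹ := by
    rw [map_inv₀, Complex.conj_natCast]
  have h1 : ∀ g : Matrix.SpecialLinearGroup (Fin 2) F,
      ((Nat.card ((Cfsg.upperTriangularGL 2 F).comap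
        Matrix.SpecialLinearGroup.toGL : Subgroup (Matrix.SpecialLinearGroup (Fin 2) F)) : ℂ)⁻¹ *
        ∑ x : Matrix.SpecialLinearGroup (Fin 2) F,
          Cfsg.extendByZero ((Cfsg.upperTriangularGL 2 F).comap Matrix.SpecialLinearGroup.toGL)
          (fun b => α (((b : Matrix.SpecialLinearGroup (Fin 2) F) :
            Matrix (Fin 2) (Fin 2) F) 0 0)) (x⁻¹ * g * x)) *
      (starRingEnd ℂ) ((Nat.card ((Cfsg.upperTriangularGL 2 F).comap
        Matrix.SpecialLinearGroup.toGL : Subgroup (Matrix.SpecialLinearGroup (Fin 2) F)) : ℂ)⁻¹ *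
        ∑ y : Matrix.SpecialLinearGroup (Fin 2) F,
          Cfsg.extendByZero ((Cfsg.upperTriangularGL 2 F).comap Matrix.SpecialLinearGroup.toGL)
          (fun b => β (((b : Matrix.SpecialLinearGroup (Fin 2) F) :
            Matrix (Fin 2) (Fin 2) F) 0 0)) (y⁻¹ * g * y)) =
      ((Nat.card ((Cfsg.upperTriangularGL 2 F).comap
        Matrix.SpecialLinearGroup.toGL : Subgroup (Matrix.SpecialLinearGroup (Fin 2) F)) : ℂ)⁻¹ *
       (Nat.card ((Cfsg.upperTriangularGL 2 F).comap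
        Matrix.SpecialLinearGroup.toGL : Subgroup (Matrix.SpecialLinearGroup (Fin 2) F)) : ℂ)⁻¹) *
      ((∑ x : Matrix.SpecialLinearGroup (Fin 2) F,
          Cfsg.extendByZero ((Cfsg.upperTriangularGL 2 F).comap Matrix.SpecialLinearGroup.toGL)
          (fun b => α (((b : Matrix.SpecialLinearGroup (Fin 2) F) :
            Matrix (Fin 2) (Fin 2) F) 0 0)) (x⁻¹ * g * x)) *
       (starRingEnd ℂ) (∑ y : Matrix.SpecialLinearGroup (Fin 2) F,
          Cfsg.extendByZero ((Cfsg.upperTriangularGL 2 F).comap Matrix.SpecialLinearGroup.toGL)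
          (fun b => β (((b : Matrix.SpecialLinearGroup (Fin 2) F) :
            Matrix (Fin 2) (Fin 2) F) 0 0)) (y⁻¹ * g * y))) := by
    intro g
    rw [map_mul, hc]
    ring
  rw [Finset.sum_congr rfl (fun g _ => h1 g), ← Finset.mul_sum, sum_conj_sum_mul,
    Finset.sum_congr rfl (fun z _ => sl2_mackey_inner α β z), Finset.sum_ite, Finset.sum_const,
    Finset.sum_const, card_sl2_lower_zero, nsmul_eq_mul, nsmul_eq_mul, mulChar_sum_mul_conj,
    mulChar_sum_mul_conj_inv, card_sl2Borel,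
    ← Nat.card_eq_fintype_card (α := Matrix.SpecialLinearGroup (Fin 2) F), card_sl2]
  have hm := Finset.card_filter_add_card_filter_not
    (s := (Finset.univ : Finset (Matrix.SpecialLinearGroup (Fin 2) F)))
    (fun z : Matrix.SpecialLinearGroup (Fin 2) F => (z : Matrix (Fin 2) (Fin 2) F) 1 0 = 0)
  rw [card_sl2_lower_zero, Finset.card_univ,
    ← Nat.card_eq_fintype_card (α := Matrix.SpecialLinearGroup (Fin 2) F), card_sl2] at hm
  obtain ⟨m, hmdef⟩ : ∃ m, m = (Finset.univ.filter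
      (fun z : Matrix.SpecialLinearGroup (Fin 2) F =>
        ¬ (z : Matrix (Fin 2) (Fin 2) F) 1 0 = 0)).card := ⟨_, rfl⟩
  rw [← hmdef] at hm ⊢
  have hq2 := Fintype.one_lt_card (α := F)
  obtain ⟨r, hr⟩ : ∃ r, Fintype.card F = r + 2 := ⟨Fintype.card F - 2, by omega⟩
  rw [hr] at hm ⊢
  have h3 : (r + 2) ^ 2 - 1 = (r + 1) * (r + 3) := by
    have : (r + 2) ^ 2 = (r + 1) * (r + 3) + 1 := by ring
    omega
  have h4 : r + 2 - 1 = r + 1 := by omega
  rw [h3, h4] at hm ⊢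
  have hm' : m = (r + 1) * (r + 2) * (r + 2) := by
    have : (r + 2) * ((r + 1) * (r + 3)) = (r + 1) * (r + 2) + (r + 1) * (r + 2) * (r + 2) := by
      ring
    omega
  rw [hm']
  have hr1 : (r : ℂ) + 1 ≠ 0 := by exact_mod_cast Nat.succ_ne_zero r
  have hr2 : (r : ℂ) + 2 ≠ 0 := by exact_mod_cast Nat.succ_ne_zero (r + 1)
  have hr3 : (r : ℂ) + 3 ≠ 0 := by exact_mod_cast Nat.succ_ne_zero (r + 2)
  push_cast
  by_cases hαβ : α = β
  · by_cases hαβ' : α = β⁻¹
    · rw [if_pos hαβ, if_pos hαβ', if_pos hαβ, if_pos hαβ']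
      field_simp
      ring
    · rw [if_pos hαβ, if_neg hαβ', if_pos hαβ, if_neg hαβ']
      field_simp
      ring
  · by_cases hαβ' : α = β⁻¹
    · rw [if_neg hαβ, if_pos hαβ', if_neg hαβ, if_pos hαβ']
      field_simp
      ring
    · rw [if_neg hαβ, if_neg hαβ', if_neg hαβ, if_neg hαβ']
      simp

end Cfsg.Agent.Lib.Helper4
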