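import Mathlib
import Cfsg.Prelude.Def_Characters
import Cfsg.Agent.Lib.Helper4.SL2CharA
import Cfsg.Agent.Lib.Helper4.SL2InducedInner
import Cfsg.Agent.Lib.Lead.CharInd3

set_option autoImplicit false

namespace Cfsg.Agent.Lib.Helper4

open scoped ComplexConjugate

variable {F : Type*} [Field F]

/-- The `(0,0)` entry of an upper triangular element of `SL₂` is nonzero. -/
theorem sl2Borel_entry_ne_zero [DecidableEq F]
    (b : ((Cfsg.upperTriangularGL 2 F).comap Matrix.SpecialLinearGroup.toGL :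
      Subgroup (Matrix.SpecialLinearGroup (Fin 2) F))) :
    ((b : Matrix.SpecialLinearGroup (Fin 2) F) : Matrix (Fin 2) (Fin 2) F) 0 0 ≠ 0 := by
  intro h
  have h1 := sl2_det (b : Matrix.SpecialLinearGroup (Fin 2) F)
  have h2 := (mem_sl2Borel_iff _).1 b.2
  rw [h, h2] at h1
  simp at h1

/-- The linear character `b ↦ α (b₀₀)` of the Borel subgroup of `SL₂`. -/
noncomputable def sl2BorelHom [DecidableEq F] (α : MulChar F ℂ) :
    ((Cfsg.upperTriangularGL 2 F).comap Matrix.SpecialLinearGroup.toGL :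
      Subgroup (Matrix.SpecialLinearGroup (Fin 2) F)) →* ℂˣ where
  toFun b := α.toUnitHom (Units.mk0 _ (sl2Borel_entry_ne_zero b))
  map_one' := by
    have : Units.mk0 _ (sl2Borel_entry_ne_zero (1 :
        ((Cfsg.upperTriangularGL 2 F).comap Matrix.SpecialLinearGroup.toGL :
          Subgroup (Matrix.SpecialLinearGroup (Fin 2) F)))) = 1 := by
      apply Units.ext
      simp
    rw [this, map_one]
  map_mul' a b := by
    rw [← map_mul]
    congr 1
    apply Units.ext
    have h2 := (mem_sl2Borel_iff _).1 b.2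
    simp only [Units.val_mk0, Units.val_mul, Subgroup.coe_mul,
      Matrix.SpecialLinearGroup.coe_mul, Matrix.mul_apply, Fin.sum_univ_two, h2, mul_zero,
      add_zero]

theorem sl2BorelHom_apply [DecidableEq F] (α : MulChar F ℂ)
    (b : ((Cfsg.upperTriangularGL 2 F).comap Matrix.SpecialLinearGroup.toGL :
      Subgroup (Matrix.SpecialLinearGroup (Fin 2) F))) :
    ((sl2BorelHom α b : ℂˣ) : ℂ) =
      α (((b : Matrix.SpecialLinearGroup (Fin 2) F) : Matrix (Fin 2) (Fin 2) F) 0 0) := by
  show ((α.toUnitHom (Units.mk0 _ (sl2Borel_entry_ne_zero b)) : ℂˣ) : ℂ) = _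
  rw [MulChar.coe_toUnitHom]
  rfl

/-- The principal series function is a character. -/
theorem isCharacter_sl2R [Fintype F] [DecidableEq F] (α : MulChar F ℂ) :
    Cfsg.IsCharacter (Matrix.SpecialLinearGroup (Fin 2) F)
      (Cfsg.indFun ((Cfsg.upperTriangularGL 2 F).comap Matrix.SpecialLinearGroup.toGL)
        (fun b => α (((b : Matrix.SpecialLinearGroup (Fin 2) F) :
          Matrix (Fin 2) (Fin 2) F) 0 0))) := by
  apply Lead.isCharacter_indFun
  have h := isCharacter_of_monoidHom (sl2BorelHom α)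
  have e : (fun b : ((Cfsg.upperTriangularGL 2 F).comap Matrix.SpecialLinearGroup.toGL :
      Subgroup (Matrix.SpecialLinearGroup (Fin 2) F)) => ((sl2BorelHom α b : ℂˣ) : ℂ)) =
      (fun b : ((Cfsg.upperTriangularGL 2 F).comap Matrix.SpecialLinearGroup.toGL :
      Subgroup (Matrix.SpecialLinearGroup (Fin 2) F)) =>
        α (((b : Matrix.SpecialLinearGroup (Fin 2) F) :
          Matrix (Fin 2) (Fin 2) F) 0 0)) := by
    funext b
    exact sl2BorelHom_apply α b
  rw [← e]
  exact h

theorem sl2R_one [Fintype F] [DecidableEq F] (α : MulChar F ℂ) :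
    (Cfsg.indFun ((Cfsg.upperTriangularGL 2 F).comap Matrix.SpecialLinearGroup.toGL)
      (fun b => α (((b : Matrix.SpecialLinearGroup (Fin 2) F) : Matrix (Fin 2) (Fin 2) F) 0 0)))
        1 = (Fintype.card F : ℂ) + 1 := by
  rw [sl2R_central α 1 (by simp) (by simp) (by simp)]
  simp

theorem mulChar_sq_eq_one_iff {R : Type*} [CommMonoid R] (α : MulChar R ℂ) :
    α ^ 2 = 1 ↔ α = α⁻¹ := by
  rw [pow_two]
  constructor
  · intro h
    exact eq_inv_of_mul_eq_one_left h
  · intro h
    nth_rewrite 1 [h]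
    exact inv_mul_cancel α

/-- `R(α)` is irreducible iff `α² ≠ 1`. -/
theorem sl2R_irr_iff [Fintype F] [DecidableEq F] (α : MulChar F ℂ) :
    Cfsg.IsIrrCharacter (Matrix.SpecialLinearGroup (Fin 2) F)
      (Cfsg.indFun ((Cfsg.upperTriangularGL 2 F).comap Matrix.SpecialLinearGroup.toGL)
        (fun b => α (((b : Matrix.SpecialLinearGroup (Fin 2) F) :
          Matrix (Fin 2) (Fin 2) F) 0 0))) ↔ α ^ 2 ≠ 1 := by
  classical
  have hin := sl2R_inner α α
  rw [if_pos rfl] at hin
  constructor
  · intro h hα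
    have h1 := Lead.classInner_irr_self h
    rw [h1, if_pos ((mulChar_sq_eq_one_iff α).1 hα)] at hin
    norm_num at hin
  · intro hα
    apply Lead.isIrrCharacter_of_norm_one (isCharacter_sl2R α)
    rw [hin, if_neg (fun h => hα ((mulChar_sq_eq_one_iff α).2 h)), add_zero]

end Cfsg.Agent.Lib.Helper4
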