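import Mathlib
import Cfsg.Agent.Lib.Helper4.SL2Nonsplit
import Cfsg.Agent.Lib.Helper4.Normalizer

set_option autoImplicit false

namespace Cfsg.Agent.Lib.Helper4

/-- A Sylow subgroup whose order divides the order of an element is cyclic. -/
theorem sylow_isCyclic_of_card_dvd_orderOf {G : Type*} [Group G] [Finite G] {p : ℕ}
    [Fact p.Prime] (P : Sylow p G) (y : G) (hy : Nat.card P ∣ orderOf y) : IsCyclic P := by
  have hy0 : orderOf y ≠ 0 := (orderOf_pos y).ne'
  obtain ⟨y', hy'⟩ : ∃ y' : G, orderOf y' = Nat.card P := ⟨_, orderOf_pow_orderOf_div hy0 hy⟩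
  have hcard : Nat.card (Subgroup.zpowers y') = Nat.card P := by
    rw [Nat.card_zpowers, hy']
  have hpg : IsPGroup p (Subgroup.zpowers y') := by
    obtain ⟨n, hn⟩ := IsPGroup.iff_card.1 P.isPGroup'
    exact IsPGroup.of_card (n := n) (by rw [hcard, hn])
  obtain ⟨Q, hQ⟩ := hpg.exists_le_sylow
  have hQcard : Nat.card Q = Nat.card P := by
    rw [Sylow.card_eq_multiplicity, Sylow.card_eq_multiplicity]
  have hQeq : Subgroup.zpowers y' = (Q : Subgroup G) :=
    Subgroup.eq_of_le_of_card_ge hQ (by rw [hcard, hQcard])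
  have hQc : IsCyclic (Q : Subgroup G) := by
    rw [← hQeq]
    infer_instance
  exact (Sylow.equiv Q P).isCyclic.1 hQc

/-- A generator of a cyclic subgroup. -/
theorem exists_zpowers_eq_of_isCyclic {G : Type*} [Group G] (P : Subgroup G) [Finite P]
    (hP : IsCyclic P) : ∃ x : G, P = Subgroup.zpowers x ∧ orderOf x = Nat.card P := by
  obtain ⟨g, hg⟩ := IsCyclic.exists_generator (α := P)
  refine ⟨g.1, ?_, ?_⟩
  · ext h
    constructor
    · intro hh
      obtain ⟨n, hn⟩ := Subgroup.mem_zpowers_iff.1 (hg ⟨h, hh⟩)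
      rw [Subgroup.mem_zpowers_iff]
      refine ⟨n, ?_⟩
      have := congrArg Subtype.val hn
      simpa using this
    · intro hh
      obtain ⟨n, hn⟩ := Subgroup.mem_zpowers_iff.1 hh
      rw [← hn]
      exact P.zpow_mem g.2 n
  · rw [Subgroup.orderOf_coe, orderOf_eq_card_of_forall_mem_zpowers hg]

theorem centralizer_zpowers_eq {G : Type*} [Group G] (x : G) :
    Subgroup.centralizer ((Subgroup.zpowers x : Subgroup G) : Set G) =
      Subgroup.centralizer ({x} : Set G) := by
  ext a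
  rw [Subgroup.mem_centralizer_iff, Subgroup.mem_centralizer_iff]
  constructor
  · intro h y hy
    rw [Set.mem_singleton_iff] at hy
    rw [hy]
    exact h x (Subgroup.mem_zpowers x)
  · intro h y hy
    obtain ⟨n, rfl⟩ := Subgroup.mem_zpowers_iff.1 hy
    have hc : Commute x a := h x (Set.mem_singleton x)
    exact (hc.zpow_left n).eq

theorem isCyclic_centralizer_of_isConj {G : Type*} [Group G] {x y : G} (h : IsConj x y)
    (hx : IsCyclic (Subgroup.centralizer ({x} : Set G))) :
    IsCyclic (Subgroup.centralizer ({y} : Set G)) := by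
  obtain ⟨c, hc⟩ := isConj_iff.1 h
  have hmap : (Subgroup.centralizer ({x} : Set G)).map (MulAut.conj c).toMonoidHom =
      Subgroup.centralizer ({y} : Set G) := by
    ext a
    rw [Subgroup.mem_map, Subgroup.mem_centralizer_iff]
    constructor
    · rintro ⟨b, hb, rfl⟩ z hz
      rw [Set.mem_singleton_iff] at hz
      rw [Subgroup.mem_centralizer_iff] at hb
      have hb' := hb x (Set.mem_singleton x)
      rw [hz, ← hc]
      show c * x * c⁻¹ * (c * b * c⁻¹) = c * b * c⁻¹ * (c * x * c⁻¹)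
      calc c * x * c⁻¹ * (c * b * c⁻¹) = c * (x * b) * c⁻¹ := by group
        _ = c * (b * x) * c⁻¹ := by rw [hb']
        _ = _ := by group
    · intro ha
      have ha' := ha y (Set.mem_singleton y)
      refine ⟨c⁻¹ * a * c, ?_, ?_⟩
      · rw [Subgroup.mem_centralizer_iff]
        intro z hz
        rw [Set.mem_singleton_iff] at hz
        rw [hz]
        have hx' : x = c⁻¹ * y * c := by
          rw [← hc]
          group
        rw [hx']
        calc c⁻¹ * y * c * (c⁻¹ * a * c) = c⁻¹ * (y * a) * c := by group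
          _ = c⁻¹ * (a * y) * c := by rw [ha']
          _ = _ := by group
      · show c * (c⁻¹ * a * c) * c⁻¹ = a
        group
  rw [← hmap]
  exact isCyclic_of_surjective ((MulAut.conj c).toMonoidHom.subgroupMap _)
    (MonoidHom.subgroupMap_surjective _ _)

theorem mem_normalizer_zpowers_of_conj {G : Type*} [Group G] (x n : G)
    (h : n * x * n⁻¹ = x ∨ n * x * n⁻¹ = x⁻¹) :
    n ∈ Subgroup.normalizer ((Subgroup.zpowers x : Subgroup G) : Set G) := by
  have h' : n⁻¹ * x * n⁻¹⁻¹ = x ∨ n⁻¹ * x * n⁻¹⁻¹ = x⁻¹ := by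
    rw [inv_inv]
    rcases h with h | h
    · left
      calc n⁻¹ * x * n = n⁻¹ * (n * x * n⁻¹) * n := by rw [h]
        _ = x := by group
    · right
      calc n⁻¹ * x * n = (n⁻¹ * (n * x * n⁻¹) * n)⁻¹ := by rw [h]; group
        _ = x⁻¹ := by group
  have key : ∀ m : G, (m * x * m⁻¹ = x ∨ m * x * m⁻¹ = x⁻¹) → ∀ y ∈ Subgroup.zpowers x,
      m * y * m⁻¹ ∈ Subgroup.zpowers x := by
    intro m hm y hy
    obtain ⟨j, rfl⟩ := Subgroup.mem_zpowers_iff.1 hy
    rw [← conj_zpow]
    rcases hm with hm | hm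
    · rw [hm]
      exact Subgroup.zpow_mem _ (Subgroup.mem_zpowers x) j
    · rw [hm]
      exact Subgroup.zpow_mem _ (Subgroup.inv_mem _ (Subgroup.mem_zpowers x)) j
  rw [Subgroup.mem_normalizer_iff]
  intro y
  constructor
  · exact key n h y
  · intro hy
    have h1 := key n⁻¹ h' _ hy
    have h2 : n⁻¹ * (n * y * n⁻¹) * n⁻¹⁻¹ = y := by group
    rw [h2] at h1
    exact h1

variable {F : Type*} [Field F]

theorem sl2PM_false_mul_self : sl2PM false (0 : F) * sl2PM false (0 : F) = 1 := by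
  apply Subtype.ext
  rw [Matrix.SpecialLinearGroup.coe_mul, sl2PM_val, Matrix.SpecialLinearGroup.coe_one]
  ext i j
  fin_cases i <;> fin_cases j <;> simp [Matrix.mul_apply, Fin.sum_univ_two]

/-- Elements of `SL₂` with trace `±2` have order dividing `2p`. -/
theorem sl2_pow_two_mul_char (p : ℕ) [Fact p.Prime] [CharP F p]
    (x : Matrix.SpecialLinearGroup (Fin 2) F)
    (ht : (Matrix.trace (x : Matrix (Fin 2) (Fin 2) F)) ^ 2 = 4) : x ^ (2 * p) = 1 := by
  have key : ∀ y : Matrix.SpecialLinearGroup (Fin 2) F,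
      Matrix.trace (y : Matrix (Fin 2) (Fin 2) F) = 2 → y ^ (2 * p) = 1 := by
    intro y hy
    by_cases hy1 : y = 1
    · rw [hy1, one_pow]
    · have ho := (sl2_orderOf_eq_char_iff p y).2 ⟨hy, hy1⟩
      have hp : y ^ p = 1 := by
        rw [← ho]
        exact pow_orderOf_eq_one y
      rw [pow_mul', hp, one_pow]
  have h : (Matrix.trace (x : Matrix (Fin 2) (Fin 2) F) - 2) *
      (Matrix.trace (x : Matrix (Fin 2) (Fin 2) F) + 2) = 0 := by linear_combination ht
  rcases mul_eq_zero.1 h with h | h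
  · exact key x (sub_eq_zero.1 h)
  · have ht2 : Matrix.trace (x : Matrix (Fin 2) (Fin 2) F) = -2 := eq_neg_of_add_eq_zero_left h
    have hzx := key (sl2PM false 0 * x) (by rw [sl2_trace_neg, ht2, neg_neg])
    have hcomm : Commute (sl2PM false (0 : F)) x :=
      (Subgroup.mem_center_iff.1 sl2PM_false_mem_center x).symm
    have hz2 : sl2PM false (0 : F) ^ 2 = 1 := by
      rw [pow_two]
      exact sl2PM_false_mul_self
    rw [hcomm.mul_pow, pow_mul, hz2, one_pow, one_mul] at hzx
    exact hzx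

/-- The centraliser of a diagonal element with distinct eigenvalues is the diagonal torus. -/
theorem sl2_mem_centralizer_diag (d g : Matrix.SpecialLinearGroup (Fin 2) F)
    (hd01 : (d : Matrix (Fin 2) (Fin 2) F) 0 1 = 0) (hd10 : (d : Matrix (Fin 2) (Fin 2) F) 1 0 = 0)
    (hne : (d : Matrix (Fin 2) (Fin 2) F) 0 0 ≠ (d : Matrix (Fin 2) (Fin 2) F) 1 1) :
    g ∈ Subgroup.centralizer ({d} : Set (Matrix.SpecialLinearGroup (Fin 2) F)) ↔
      ((g : Matrix (Fin 2) (Fin 2) F) 0 1 = 0 ∧ (g : Matrix (Fin 2) (Fin 2) F) 1 0 = 0) := by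
  obtain ⟨a, ha⟩ : ∃ a, a = (d : Matrix (Fin 2) (Fin 2) F) 0 0 := ⟨_, rfl⟩
  obtain ⟨b, hb⟩ : ∃ b, b = (d : Matrix (Fin 2) (Fin 2) F) 1 1 := ⟨_, rfl⟩
  have hdm : (d : Matrix (Fin 2) (Fin 2) F) = !![a, 0; 0, b] := by
    have h := Matrix.eta_fin_two (d : Matrix (Fin 2) (Fin 2) F)
    rw [hd01, hd10, ← ha, ← hb] at h
    exact h
  rw [← ha, ← hb] at hne
  have hne' : a - b ≠ 0 := fun h => hne (sub_eq_zero.1 h)
  rw [sl2_mem_centralizer_singleton]
  obtain ⟨g0, hg0⟩ : ∃ g0, g0 = (g : Matrix (Fin 2) (Fin 2) F) 0 0 := ⟨_, rfl⟩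
  obtain ⟨g1, hg1⟩ : ∃ g1, g1 = (g : Matrix (Fin 2) (Fin 2) F) 0 1 := ⟨_, rfl⟩
  obtain ⟨g2, hg2⟩ : ∃ g2, g2 = (g : Matrix (Fin 2) (Fin 2) F) 1 0 := ⟨_, rfl⟩
  obtain ⟨g3, hg3⟩ : ∃ g3, g3 = (g : Matrix (Fin 2) (Fin 2) F) 1 1 := ⟨_, rfl⟩
  have hgm : (g : Matrix (Fin 2) (Fin 2) F) = !![g0, g1; g2, g3] := by
    rw [hg0, hg1, hg2, hg3]
    exact Matrix.eta_fin_two _
  rw [← hg1, ← hg2]
  constructor
  · intro hc
    have hm := congrArg (fun M : Matrix.SpecialLinearGroup (Fin 2) F =>
      (M : Matrix (Fin 2) (Fin 2) F)) hc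
    simp only [Matrix.SpecialLinearGroup.coe_mul] at hm
    rw [hdm, hgm] at hm
    have e01 := congrFun (congrFun hm 0) 1
    have e10 := congrFun (congrFun hm 1) 0
    simp [Matrix.mul_apply, Fin.sum_univ_two] at e01 e10
    constructor
    · have : g1 * (a - b) = 0 := by linear_combination -e01
      rcases mul_eq_zero.1 this with h | h
      · exact h
      · exact absurd h hne'
    · have : g2 * (a - b) = 0 := by linear_combination e10
      rcases mul_eq_zero.1 this with h | h
      · exact h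
      · exact absurd h hne'
  · rintro ⟨h1, h2'⟩
    apply Subtype.ext
    rw [Matrix.SpecialLinearGroup.coe_mul, Matrix.SpecialLinearGroup.coe_mul, hdm, hgm, h1, h2']
    ext i j
    fin_cases i <;> fin_cases j <;> simp [Matrix.mul_apply, Fin.sum_univ_two, mul_comm]

/-- The centraliser of a diagonal element with distinct eigenvalues is cyclic. -/
theorem isCyclic_centralizer_sl2Diag [Finite F] (a : Fˣ) (ha : (a : F) ^ 2 ≠ 1) :
    IsCyclic (Subgroup.centralizer
      ({sl2DiagHom a} : Set (Matrix.SpecialLinearGroup (Fin 2) F))) := by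
  have hne : ((sl2DiagHom a : Matrix.SpecialLinearGroup (Fin 2) F) : Matrix (Fin 2) (Fin 2) F) 0 0 ≠
      ((sl2DiagHom a : Matrix.SpecialLinearGroup (Fin 2) F) : Matrix (Fin 2) (Fin 2) F) 1 1 := by
    rw [sl2DiagHom_val]
    simp only [Matrix.of_apply, Matrix.cons_val_zero, Matrix.cons_val_one]
    intro h
    apply ha
    have h0 : (a : F) ≠ 0 := a.ne_zero
    rw [Units.val_inv_eq_inv_val] at h
    rw [pow_two]
    nth_rewrite 2 [h]
    exact mul_inv_cancel₀ h0
  have hrange : Subgroup.centralizer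
      ({sl2DiagHom a} : Set (Matrix.SpecialLinearGroup (Fin 2) F)) = (sl2DiagHom (F := F)).range := by
    ext g
    rw [sl2_mem_centralizer_diag _ g (by rw [sl2DiagHom_val]; simp) (by rw [sl2DiagHom_val]; simp)
      hne, MonoidHom.mem_range]
    constructor
    · rintro ⟨h1, h2⟩
      have hdet := sl2_det g
      rw [h1, h2] at hdet
      obtain ⟨u, hu⟩ : ∃ u, u = (g : Matrix (Fin 2) (Fin 2) F) 0 0 := ⟨_, rfl⟩
      rw [← hu] at hdet
      have hu0 : u ≠ 0 := by
        intro h
        rw [h] at hdet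
        simp at hdet
      have h3 : (g : Matrix (Fin 2) (Fin 2) F) 1 1 = u⁻¹ := by
        apply eq_inv_of_mul_eq_one_right
        linear_combination hdet
      have h := Matrix.eta_fin_two (g : Matrix (Fin 2) (Fin 2) F)
      rw [h1, h2, h3, ← hu] at h
      refine ⟨Units.mk0 u hu0, ?_⟩
      apply Subtype.ext
      rw [sl2DiagHom_val, h]
      simp
    · rintro ⟨b, rfl⟩
      rw [sl2DiagHom_val]
      simp
  rw [hrange]
  exact isCyclic_of_surjective (sl2DiagHom (F := F)).rangeRestrict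
    (sl2DiagHom (F := F)).rangeRestrict_surjective


/-- Sylow `ℓ`-subgroups of `SL₂(q)` for odd `ℓ` dividing `q ∓ 1`: the centraliser is a cyclic
torus of order `q ∓ 1` and the normaliser has twice that order. -/
theorem sl2_sylow_odd [Fintype F] (hodd : Odd (Fintype.card F)) (ℓ : ℕ) [Fact ℓ.Prime]
    (hℓ : ℓ ≠ 2) (P : Sylow ℓ (Matrix.SpecialLinearGroup (Fin 2) F)) (m : ℕ)
    (hm : m = Fintype.card F - 1 ∨ m = Fintype.card F + 1) (hℓm : ℓ ∣ m) :
    Nat.card (Subgroup.centralizer ((P : Subgroup (Matrix.SpecialLinearGroup (Fin 2) F)) :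
      Set (Matrix.SpecialLinearGroup (Fin 2) F))) = m ∧
    IsCyclic (Subgroup.centralizer ((P : Subgroup (Matrix.SpecialLinearGroup (Fin 2) F)) :
      Set (Matrix.SpecialLinearGroup (Fin 2) F))) ∧
    Nat.card (Subgroup.normalizer ((P : Subgroup (Matrix.SpecialLinearGroup (Fin 2) F)) :
      Set (Matrix.SpecialLinearGroup (Fin 2) F))) = 2 * m := by
  classical
  have hℓp := (Fact.out : ℓ.Prime)
  have h2 : (2 : F) ≠ 0 := two_ne_zero_of_odd_card hodd
  obtain ⟨p, hp⟩ := CharP.exists F
  have : Fact p.Prime := ⟨CharP.char_is_prime F p⟩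
  obtain ⟨n, -, hn⟩ := FiniteField.card F p
  have hq2 := Fintype.one_lt_card (α := F)
  have hq1 := Nat.odd_iff.1 hodd
  obtain ⟨r, hr⟩ : ∃ r, Fintype.card F = r + 2 := ⟨Fintype.card F - 2, by omega⟩
  have hm' : m = r + 1 ∨ m = r + 3 := by
    rcases hm with hm | hm
    · left
      omega
    · right
      omega
  have hℓ2 : ¬ ℓ ∣ 2 := fun h => hℓ ((Nat.prime_dvd_prime_iff_eq hℓp Nat.prime_two).1 h)
  have hℓ1 : ¬ ℓ ∣ 1 := fun h => hℓp.one_lt.ne' (Nat.dvd_one.1 h)
  have hℓq : ¬ ℓ ∣ r + 2 := by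
    intro h
    rcases hm' with hm' | hm'
    · rw [hm'] at hℓm
      exact hℓ1 ((Nat.dvd_add_right hℓm).1 h)
    · rw [hm'] at hℓm
      exact hℓ1 ((Nat.dvd_add_right h).1 hℓm)
  have hℓp' : ℓ ≠ p := by
    rintro rfl
    apply hℓq
    rw [← hr, hn]
    exact dvd_pow_self _ n.ne_zero
  have hcardG : Nat.card (Matrix.SpecialLinearGroup (Fin 2) F) = (r + 2) * ((r + 1) * (r + 3)) := by
    rw [card_sl2, hr]
    have h3 : (r + 2) ^ 2 - 1 = (r + 1) * (r + 3) := by
      have : (r + 2) ^ 2 = (r + 1) * (r + 3) + 1 := by ring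
      omega
    rw [h3]
  obtain ⟨m', hm'ndvd, hGm⟩ : ∃ m', ¬ ℓ ∣ m' ∧
      Nat.card (Matrix.SpecialLinearGroup (Fin 2) F) = m * m' := by
    rcases hm' with hm' | hm'
    · refine ⟨(r + 2) * (r + 3), ?_, ?_⟩
      · intro h
        rcases (Nat.Prime.dvd_mul hℓp).1 h with h | h
        · exact hℓq h
        · rw [hm'] at hℓm
          exact hℓ2 ((Nat.dvd_add_right hℓm).1 h)
      · rw [hcardG, hm']
        ring
    · refine ⟨(r + 2) * (r + 1), ?_, ?_⟩
      · intro h
        rcases (Nat.Prime.dvd_mul hℓp).1 h with h | h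
        · exact hℓq h
        · rw [hm'] at hℓm
          exact hℓ2 ((Nat.dvd_add_right h).1 hℓm)
      · rw [hcardG, hm']
        ring
  have hPdvd : Nat.card P ∣ m := by
    have h1 : Nat.card P ∣ m * m' := by
      rw [← hGm]
      exact (P : Subgroup (Matrix.SpecialLinearGroup (Fin 2) F)).card_subgroup_dvd_card
    obtain ⟨k, hk⟩ := IsPGroup.iff_card.1 P.isPGroup'
    have hcop : Nat.Coprime (Nat.card P) m' := by
      rw [hk]
      exact Nat.Coprime.pow_left k ((Nat.Prime.coprime_iff_not_dvd hℓp).2 hm'ndvd)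
    exact hcop.dvd_of_dvd_mul_right h1
  obtain ⟨y, hy⟩ : ∃ y : Matrix.SpecialLinearGroup (Fin 2) F, orderOf y = m := by
    rcases hm with hm | hm
    · rw [hm]
      exact exists_orderOf_eq_card_sub_one
    · rw [hm]
      refine exists_orderOf_eq_card_add_one ?_
      by_contra h4
      have hr0 : r = 1 := by omega
      rcases hm' with hm' | hm'
      · omega
      · rw [hm', hr0] at hℓm
        have h22 : (1 + 3 : ℕ) = 2 * 2 := rfl
        rw [h22] at hℓm
        rcases (Nat.Prime.dvd_mul hℓp).1 hℓm with h | h <;> exact hℓ2 h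
  have hPc : IsCyclic P := sylow_isCyclic_of_card_dvd_orderOf P y (hy ▸ hPdvd)
  obtain ⟨x, hPx, hox⟩ :=
    exists_zpowers_eq_of_isCyclic (P : Subgroup (Matrix.SpecialLinearGroup (Fin 2) F)) hPc
  have hℓG : ℓ ∣ Nat.card (Matrix.SpecialLinearGroup (Fin 2) F) := by
    rw [hGm]
    exact Dvd.dvd.mul_right hℓm m'
  have hℓx : ℓ ∣ orderOf x := by
    rw [hox]
    exact P.dvd_card_of_dvd_card hℓG
  have ht : (Matrix.trace (x : Matrix (Fin 2) (Fin 2) F)) ^ 2 ≠ 4 := by
    intro ht
    have h1 := sl2_pow_two_mul_char p x ht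
    have h2' : ℓ ∣ 2 * p := hℓx.trans (orderOf_dvd_of_pow_eq_one h1)
    rcases (Nat.Prime.dvd_mul hℓp).1 h2' with h | h
    · exact hℓ2 h
    · exact hℓp' ((Nat.prime_dvd_prime_iff_eq hℓp (Fact.out : p.Prime)).1 h)
  have hCP : Subgroup.centralizer ((P : Subgroup (Matrix.SpecialLinearGroup (Fin 2) F)) :
      Set (Matrix.SpecialLinearGroup (Fin 2) F)) =
      Subgroup.centralizer ({x} : Set (Matrix.SpecialLinearGroup (Fin 2) F)) := by
    rw [hPx]
    exact centralizer_zpowers_eq x
  obtain ⟨hN1, hc1, hc2, hsq⟩ := sl2_normalizer_centralizer h2 x ht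
  have hℓC : ℓ ∣ Nat.card (Subgroup.centralizer
      ({x} : Set (Matrix.SpecialLinearGroup (Fin 2) F))) :=
    hℓx.trans (orderOf_dvd_of_pow_eq_one (sl2_pow_card_centralizer x))
  have hcardC : Nat.card (Subgroup.centralizer
      ({x} : Set (Matrix.SpecialLinearGroup (Fin 2) F))) = m ∧
      IsCyclic (Subgroup.centralizer ({x} : Set (Matrix.SpecialLinearGroup (Fin 2) F))) := by
    by_cases hroot : ∃ a : F, a ^ 2 - Matrix.trace (x : Matrix (Fin 2) (Fin 2) F) * a + 1 = 0
    · obtain ⟨a, ha⟩ := hroot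
      have hc := sl2_card_centralizer_of_split x ht a ha
      have hc' : Nat.card (Subgroup.centralizer
          ({x} : Set (Matrix.SpecialLinearGroup (Fin 2) F))) = r + 1 := by
        rw [hc]
        omega
      have hmq : m = r + 1 := by
        rcases hm' with hm' | hm'
        · exact hm'
        · exfalso
          rw [hc'] at hℓC
          rw [hm'] at hℓm
          have : r + 3 = r + 1 + 2 := by omega
          rw [this] at hℓm
          exact hℓ2 ((Nat.dvd_add_right hℓC).1 hℓm)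
      refine ⟨by rw [hc', hmq], ?_⟩
      have ha0 : a ≠ 0 := by
        rintro rfl
        simp at ha
      have hau : ((Units.mk0 a ha0 : Fˣ) : F) ^ 2 ≠ 1 := by
        rw [Units.val_mk0]
        intro h
        apply ht
        have h3 : Matrix.trace (x : Matrix (Fin 2) (Fin 2) F) * a = 2 := by
          linear_combination h - ha
        have h4 : (Matrix.trace (x : Matrix (Fin 2) (Fin 2) F) * a) ^ 2 = 4 := by
          rw [h3]
          norm_num
        rw [mul_pow, h, mul_one] at h4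
        exact h4
      have htr : Matrix.trace ((sl2DiagHom (Units.mk0 a ha0) :
          Matrix.SpecialLinearGroup (Fin 2) F) : Matrix (Fin 2) (Fin 2) F) =
          Matrix.trace (x : Matrix (Fin 2) (Fin 2) F) := by
        rw [sl2DiagHom_val, Matrix.trace_fin_two]
        simp only [Matrix.of_apply, Matrix.cons_val_zero, Matrix.cons_val_one,
          Units.val_inv_eq_inv_val, Units.val_mk0]
        field_simp
        linear_combination ha
      have hconj : IsConj (sl2DiagHom (Units.mk0 a ha0)) x :=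
        sl2_isConj_of_trace_eq _ ht (sl2Comp_conj_all _ ht) _ x htr rfl
      exact isCyclic_centralizer_of_isConj hconj (isCyclic_centralizer_sl2Diag _ hau)
    · push Not at hroot
      have hc := sl2_card_centralizer_of_no_root x hroot
      have hc' : Nat.card (Subgroup.centralizer
          ({x} : Set (Matrix.SpecialLinearGroup (Fin 2) F))) = r + 3 := by
        rw [hc]
        omega
      have hmq : m = r + 3 := by
        rcases hm' with hm' | hm'
        · exfalso
          rw [hc'] at hℓC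
          rw [hm'] at hℓm
          have : r + 3 = r + 1 + 2 := by omega
          rw [this] at hℓC
          exact hℓ2 ((Nat.dvd_add_right hℓm).1 hℓC)
        · exact hm'
      refine ⟨by rw [hc', hmq], ?_⟩
      have htr : Matrix.trace ((sl2Comp (Matrix.trace (x : Matrix (Fin 2) (Fin 2) F)) 1 :
          Matrix.SpecialLinearGroup (Fin 2) F) : Matrix (Fin 2) (Fin 2) F) =
          Matrix.trace (x : Matrix (Fin 2) (Fin 2) F) := by
        rw [sl2Comp_val, Matrix.trace_fin_two]
        simp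
      have hconj : IsConj (sl2Comp (Matrix.trace (x : Matrix (Fin 2) (Fin 2) F)) 1) x :=
        sl2_isConj_of_trace_eq _ ht (sl2Comp_conj_all _ ht) _ x htr rfl
      exact isCyclic_centralizer_of_isConj hconj
        (isCyclic_centralizer_sl2Comp_of_no_root _ hroot)
  have hNP : Subgroup.normalizer ((P : Subgroup (Matrix.SpecialLinearGroup (Fin 2) F)) :
      Set (Matrix.SpecialLinearGroup (Fin 2) F)) =
      Subgroup.normalizer ((Subgroup.centralizer
        ({x} : Set (Matrix.SpecialLinearGroup (Fin 2) F)) :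
        Subgroup (Matrix.SpecialLinearGroup (Fin 2) F)) :
        Set (Matrix.SpecialLinearGroup (Fin 2) F)) := by
    apply le_antisymm
    · have h := le_normalizer_centralizer
        (A := (P : Subgroup (Matrix.SpecialLinearGroup (Fin 2) F)))
        (S := Subgroup.normalizer ((P : Subgroup (Matrix.SpecialLinearGroup (Fin 2) F)) :
          Set (Matrix.SpecialLinearGroup (Fin 2) F))) le_rfl
      rw [hCP] at h
      exact h
    · intro g hg
      rw [hPx]
      exact mem_normalizer_zpowers_of_conj x g (hN1 g hg)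
  refine ⟨?_, ?_, ?_⟩
  · rw [hCP]
    exact hcardC.1
  · rw [hCP]
    exact hcardC.2
  · rw [hNP, hc1, hcardC.1]

end Cfsg.Agent.Lib.Helper4
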