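import Mathlib
import Cfsg.Prelude.Def_Characters
import Cfsg.Agent.Lib.Helper4.SL2CharB
import Cfsg.Agent.Lib.Helper4.SL2Sylow
import Cfsg.Agent.Lib.Helper4.SL2Nonsplit
import Cfsg.Agent.Lib.Lead.CharInd

set_option autoImplicit false

namespace Cfsg.Agent.Lib.Helper4

open scoped ComplexConjugate

section general

variable {G : Type*} [Group G]

/-- Induced functions and multiplication by a central element of the subgroup. -/
theorem indFun_central_mul [Fintype G] (H : Subgroup G) (θ : H → ℂ) (z : G)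
    (hz : z ∈ Subgroup.center G) (hzH : z ∈ H) (c : ℂ)
    (hθ : ∀ h : H, θ (⟨z, hzH⟩ * h) = c * θ h) (g : G) :
    Cfsg.indFun H θ (z * g) = c * Cfsg.indFun H θ g := by
  unfold Cfsg.indFun
  have key : ∀ x : G, Cfsg.extendByZero H θ (x⁻¹ * (z * g) * x) =
      c * Cfsg.extendByZero H θ (x⁻¹ * g * x) := by
    intro x
    have e : x⁻¹ * (z * g) * x = z * (x⁻¹ * g * x) := by
      have := Subgroup.mem_center_iff.mp hz x⁻¹
      rw [← mul_assoc, this]
      group
    rw [e]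
    by_cases hy : x⁻¹ * g * x ∈ H
    · rw [extendByZero_mem H θ _ hy, extendByZero_mem H θ _ (H.mul_mem hzH hy)]
      exact hθ ⟨_, hy⟩
    · have hy' : z * (x⁻¹ * g * x) ∉ H := by
        intro h
        apply hy
        have := H.mul_mem (H.inv_mem hzH) h
        rwa [inv_mul_cancel_left] at this
      rw [extendByZero_not_mem H θ _ hy, extendByZero_not_mem H θ _ hy', mul_zero]
  simp_rw [key]
  rw [← Finset.mul_sum]
  ring

theorem indFun_isConj [Fintype G] (H : Subgroup G) (θ : H → ℂ) {g g' : G} (h : IsConj g g') :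
    Cfsg.indFun H θ g = Cfsg.indFun H θ g' := by
  obtain ⟨c, rfl⟩ := isConj_iff.mp h
  exact ((Lead.indFun_classFun H θ) g c).symm

end general

variable {F : Type*} [Field F]

theorem sl2_mem_center_iff_scalar (g : Matrix.SpecialLinearGroup (Fin 2) F) :
    g ∈ Subgroup.center (Matrix.SpecialLinearGroup (Fin 2) F) ↔
      ((g : Matrix (Fin 2) (Fin 2) F) 0 1 = 0 ∧ (g : Matrix (Fin 2) (Fin 2) F) 1 0 = 0 ∧
        (g : Matrix (Fin 2) (Fin 2) F) 0 0 = (g : Matrix (Fin 2) (Fin 2) F) 1 1) := by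
  rw [sl2_mem_center_iff]
  constructor
  · rintro (rfl | rfl)
    · simp
    · rw [sl2PM_val]
      simp
  · rintro ⟨h1, h2, h3⟩
    obtain ⟨s, hs⟩ := sl2_scalar_eq_pm g h1 h2 h3
    cases s
    · right; exact hs
    · left; rw [hs, sl2PM_true_zero]

/-- An eigenvalue is a root of the characteristic polynomial. -/
theorem sl2_root_of_eigenvector (g : Matrix.SpecialLinearGroup (Fin 2) F) (c : F)
    (v : Fin 2 → F) (hv : v ≠ 0) (h : (g : Matrix (Fin 2) (Fin 2) F).mulVec v = c • v) :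
    c ^ 2 - Matrix.trace (g : Matrix (Fin 2) (Fin 2) F) * c + 1 = 0 := by
  have hdet := sl2_det g
  have h0 := congrFun h 0
  have h1 := congrFun h 1
  simp [Matrix.mulVec, dotProduct, Fin.sum_univ_two] at h0 h1
  rw [Matrix.trace_fin_two]
  have e0 : (c ^ 2 - ((g : Matrix (Fin 2) (Fin 2) F) 0 0 + (g : Matrix (Fin 2) (Fin 2) F) 1 1) * c
      + 1) * v 0 = 0 := by
    linear_combination ((g : Matrix (Fin 2) (Fin 2) F) 1 1 - c) * h0 -
      (g : Matrix (Fin 2) (Fin 2) F) 0 1 * h1 - v 0 * hdet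
  have e1 : (c ^ 2 - ((g : Matrix (Fin 2) (Fin 2) F) 0 0 + (g : Matrix (Fin 2) (Fin 2) F) 1 1) * c
      + 1) * v 1 = 0 := by
    linear_combination ((g : Matrix (Fin 2) (Fin 2) F) 0 0 - c) * h1 -
      (g : Matrix (Fin 2) (Fin 2) F) 1 0 * h0 - v 1 * hdet
  by_contra hne
  apply hv
  funext i
  fin_cases i
  · rcases mul_eq_zero.mp e0 with h | h
    · exact absurd h hne
    · exact h
  · rcases mul_eq_zero.mp e1 with h | h
    · exact absurd h hne
    · exact h

/-- The norm form of a nonsplit torus is anisotropic. -/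
theorem sl2_norm_form_anisotropic (t : F) (hnr : ∀ a : F, a ^ 2 - t * a + 1 ≠ 0) (α β : F)
    (h : α ^ 2 + α * β * t + β ^ 2 = 0) : α = 0 ∧ β = 0 := by
  by_cases hβ : β = 0
  · rw [hβ] at h
    simp at h
    exact ⟨h, hβ⟩
  · exfalso
    apply hnr (-α / β)
    field_simp
    linear_combination h

/-- Two commuting elements of `SL₂` with the same trace, one of them without eigenvalues, are
equal or inverse to each other. -/
theorem sl2_eq_or_eq_inv_of_trace_nonsplit (x y : Matrix.SpecialLinearGroup (Fin 2) F)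
    (hnr : ∀ a : F, a ^ 2 - Matrix.trace (x : Matrix (Fin 2) (Fin 2) F) * a + 1 ≠ 0)
    (hy : y * x = x * y)
    (hty : Matrix.trace (y : Matrix (Fin 2) (Fin 2) F) =
      Matrix.trace (x : Matrix (Fin 2) (Fin 2) F)) : y = x ∨ y = x⁻¹ := by
  have ht := sq_ne_four_of_no_root _ hnr
  obtain ⟨α, β, hab⟩ := sl2_centralizer_form x y (sl2_nonscalar_of_trace x ht) hy
  obtain ⟨x0, hx0⟩ : ∃ x0, x0 = (x : Matrix (Fin 2) (Fin 2) F) 0 0 := ⟨_, rfl⟩
  obtain ⟨x1, hx1⟩ : ∃ x1, x1 = (x : Matrix (Fin 2) (Fin 2) F) 0 1 := ⟨_, rfl⟩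
  obtain ⟨x2, hx2⟩ : ∃ x2, x2 = (x : Matrix (Fin 2) (Fin 2) F) 1 0 := ⟨_, rfl⟩
  obtain ⟨x3, hx3⟩ : ∃ x3, x3 = (x : Matrix (Fin 2) (Fin 2) F) 1 1 := ⟨_, rfl⟩
  have hxm : (x : Matrix (Fin 2) (Fin 2) F) = !![x0, x1; x2, x3] := by
    rw [hx0, hx1, hx2, hx3]
    exact Matrix.eta_fin_two _
  have hdx : x0 * x3 - x1 * x2 = 1 := by
    rw [hx0, hx1, hx2, hx3]
    exact sl2_det x
  have hdy := sl2_det y
  rw [hab, hxm] at hdy
  simp at hdy
  rw [Matrix.trace_fin_two, Matrix.trace_fin_two, hab, hxm] at hty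
  simp at hty
  rw [Matrix.trace_fin_two, ← hx0, ← hx3] at hnr
  set t := x0 + x3 with htdef
  have he1 : 2 * α + β * t - t = 0 := by rw [htdef]; linear_combination hty
  have he2 : α ^ 2 + α * β * t + β ^ 2 - 1 = 0 := by
    rw [htdef]; linear_combination hdy - β ^ 2 * hdx
  have hc0 : α * (α - t) - (β - 1) * (β + 1) = 0 := by linear_combination α * he1 - he2
  have hc1 : α * (β + 1) + (α - t) * (β - 1) + t * ((β - 1) * (β + 1)) = 0 := by
    linear_combination β * he1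
  have hprod : (α ^ 2 + α * (β - 1) * t + (β - 1) ^ 2) *
      ((α - t) ^ 2 + (α - t) * (β + 1) * t + (β + 1) ^ 2) = 0 := by
    have e : (α ^ 2 + α * (β - 1) * t + (β - 1) ^ 2) *
      ((α - t) ^ 2 + (α - t) * (β + 1) * t + (β + 1) ^ 2) =
      (α * (α - t) - (β - 1) * (β + 1)) ^ 2 + (α * (α - t) - (β - 1) * (β + 1)) *
        (α * (β + 1) + (α - t) * (β - 1) + t * ((β - 1) * (β + 1))) * t +
        (α * (β + 1) + (α - t) * (β - 1) + t * ((β - 1) * (β + 1))) ^ 2 := by ring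
    rw [e, hc0, hc1]
    ring
  rcases mul_eq_zero.1 hprod with h | h
  · left
    obtain ⟨ha0, hb1⟩ := sl2_norm_form_anisotropic t hnr α (β - 1) h
    have hb1' : β = 1 := sub_eq_zero.1 hb1
    apply Subtype.ext
    rw [hab, hb1', ha0, zero_smul, zero_add, one_smul]
  · right
    obtain ⟨ha0, hb1⟩ := sl2_norm_form_anisotropic t hnr (α - t) (β + 1) h
    have hb1' : β = -1 := eq_neg_of_add_eq_zero_left hb1
    have ha0' : α = x0 + x3 := sub_eq_zero.1 ha0
    apply Subtype.ext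
    rw [Matrix.SpecialLinearGroup.coe_inv, hab, hb1', ha0', hxm, Matrix.adjugate_fin_two]
    ext i j
    fin_cases i <;> fin_cases j <;> simp

/-- An element of `SL₂` without eigenvalues is not its own inverse. -/
theorem sl2_ne_inv_of_no_root (x : Matrix.SpecialLinearGroup (Fin 2) F)
    (hnr : ∀ a : F, a ^ 2 - Matrix.trace (x : Matrix (Fin 2) (Fin 2) F) * a + 1 ≠ 0) :
    x ≠ x⁻¹ := by
  intro h
  have h1 := congrArg (fun M : Matrix.SpecialLinearGroup (Fin 2) F =>
    (M : Matrix (Fin 2) (Fin 2) F)) h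
  simp only [Matrix.SpecialLinearGroup.coe_inv, Matrix.adjugate_fin_two] at h1
  have e00 : (x : Matrix (Fin 2) (Fin 2) F) 0 0 = (x : Matrix (Fin 2) (Fin 2) F) 1 1 := by
    have := congrFun (congrFun h1 0) 0
    simpa using this
  have e01 : (x : Matrix (Fin 2) (Fin 2) F) 0 1 = -(x : Matrix (Fin 2) (Fin 2) F) 0 1 := by
    have := congrFun (congrFun h1 0) 1
    simpa using this
  have hdet := sl2_det x
  by_cases h2 : (2 : F) = 0
  · apply hnr 1
    rw [Matrix.trace_fin_two]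
    linear_combination (1 - (x : Matrix (Fin 2) (Fin 2) F) 0 0) * h2 + e00
  · have hg01 : (x : Matrix (Fin 2) (Fin 2) F) 0 1 = 0 := by
      have : 2 * (x : Matrix (Fin 2) (Fin 2) F) 0 1 = 0 := by linear_combination e01
      rcases mul_eq_zero.mp this with h | h
      · exact absurd h h2
      · exact h
    apply hnr ((x : Matrix (Fin 2) (Fin 2) F) 0 0)
    rw [Matrix.trace_fin_two]
    linear_combination (-1 : F) * hdet - (x : Matrix (Fin 2) (Fin 2) F) 1 0 * hg01

section R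

variable [Fintype F] [DecidableEq F]

/-- The principal series function `R(α)` of `SL₂`. -/
noncomputable def sl2R (α : MulChar F ℂ) : Matrix.SpecialLinearGroup (Fin 2) F → ℂ :=
  Cfsg.indFun ((Cfsg.upperTriangularGL 2 F).comap Matrix.SpecialLinearGroup.toGL)
    (fun b => α (((b : Matrix.SpecialLinearGroup (Fin 2) F) : Matrix (Fin 2) (Fin 2) F) 0 0))

theorem sl2R_isCharacter (α : MulChar F ℂ) :
    Cfsg.IsCharacter (Matrix.SpecialLinearGroup (Fin 2) F) (sl2R α) := isCharacter_sl2R α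

theorem sl2R_apply_one (α : MulChar F ℂ) : sl2R α 1 = (Fintype.card F : ℂ) + 1 := sl2R_one α

theorem sl2R_classInner (α β : MulChar F ℂ) [Decidable (α = β)] [Decidable (α = β⁻¹)] :
    Cfsg.classInner (sl2R α) (sl2R β) = (if α = β then 1 else 0) + (if α = β⁻¹ then 1 else 0) :=
  sl2R_inner α β

theorem sl2R_isConj (α : MulChar F ℂ) {g g' : Matrix.SpecialLinearGroup (Fin 2) F}
    (h : IsConj g g') : sl2R α g = sl2R α g' := indFun_isConj _ _ h

theorem sl2R_classFun (α : MulChar F ℂ) :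
    Cfsg.IsClassFunction (Matrix.SpecialLinearGroup (Fin 2) F) (sl2R α) :=
  Lead.indFun_classFun _ _

theorem sl2PM_false_mem_borel : sl2PM false (0 : F) ∈
    (Cfsg.upperTriangularGL 2 F).comap Matrix.SpecialLinearGroup.toGL := by
  rw [mem_sl2Borel_iff, sl2PM_val]
  simp

theorem sl2R_central_mul (α : MulChar F ℂ) (g : Matrix.SpecialLinearGroup (Fin 2) F) :
    sl2R α (sl2PM false 0 * g) = α (-1) * sl2R α g := by
  unfold sl2R
  apply indFun_central_mul _ _ _ sl2PM_false_mem_center sl2PM_false_mem_borel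
  intro b
  rw [← map_mul]
  congr 1
  simp [sl2PM_false_coe]

theorem sl2R_at_scalar (α : MulChar F ℂ) (g : Matrix.SpecialLinearGroup (Fin 2) F)
    (hg01 : (g : Matrix (Fin 2) (Fin 2) F) 0 1 = 0) (hg10 : (g : Matrix (Fin 2) (Fin 2) F) 1 0 = 0)
    (hg00 : (g : Matrix (Fin 2) (Fin 2) F) 0 0 = (g : Matrix (Fin 2) (Fin 2) F) 1 1) :
    sl2R α g = ((Fintype.card F : ℂ) + 1) * α ((g : Matrix (Fin 2) (Fin 2) F) 0 0) :=
  sl2R_central α g hg01 hg10 hg00

theorem sl2R_at_neg_one (α : MulChar F ℂ) :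
    sl2R α (sl2PM false 0) = ((Fintype.card F : ℂ) + 1) * α (-1) := by
  rw [sl2R_at_scalar α _ (by rw [sl2PM_val]; simp) (by rw [sl2PM_val]; simp)
    (by rw [sl2PM_val]; simp)]
  rw [sl2PM_val]
  simp

theorem sl2R_trace_two (α : MulChar F ℂ) (g : Matrix.SpecialLinearGroup (Fin 2) F)
    (hns : ¬ ((g : Matrix (Fin 2) (Fin 2) F) 0 1 = 0 ∧ (g : Matrix (Fin 2) (Fin 2) F) 1 0 = 0 ∧
      (g : Matrix (Fin 2) (Fin 2) F) 0 0 = (g : Matrix (Fin 2) (Fin 2) F) 1 1))
    (ht : Matrix.trace (g : Matrix (Fin 2) (Fin 2) F) = 2) : sl2R α g = 1 := by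
  obtain ⟨u, hu⟩ := sl2_isConj_comp g hns
  rw [ht] at hu
  have h1 := sl2Unip_conj_comp (-u)
  rw [neg_neg] at h1
  have h2 : IsConj g (sl2Unip ((-u : Fˣ) : F)) := hu.trans h1.symm
  rw [sl2R_isConj α h2]
  unfold sl2R
  rw [sl2R_unip α _ (by rw [sl2Unip_val]; simp) (by rw [sl2Unip_val]; simp)
    (by rw [sl2Unip_val]; simp)]
  rw [sl2Unip_val]
  simp

theorem sl2R_trace_neg_two (α : MulChar F ℂ) (g : Matrix.SpecialLinearGroup (Fin 2) F)
    (hns : ¬ ((g : Matrix (Fin 2) (Fin 2) F) 0 1 = 0 ∧ (g : Matrix (Fin 2) (Fin 2) F) 1 0 = 0 ∧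
      (g : Matrix (Fin 2) (Fin 2) F) 0 0 = (g : Matrix (Fin 2) (Fin 2) F) 1 1))
    (ht : Matrix.trace (g : Matrix (Fin 2) (Fin 2) F) = -2) : sl2R α g = α (-1) := by
  have e : g = sl2PM false 0 * (sl2PM false 0 * g) := by
    rw [← mul_assoc, sl2PM_false_mul_self, one_mul]
  have hns' : ¬ (((sl2PM false (0 : F) * g : Matrix.SpecialLinearGroup (Fin 2) F) :
      Matrix (Fin 2) (Fin 2) F) 0 1 = 0 ∧
      ((sl2PM false (0 : F) * g : Matrix.SpecialLinearGroup (Fin 2) F) :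
      Matrix (Fin 2) (Fin 2) F) 1 0 = 0 ∧
      ((sl2PM false (0 : F) * g : Matrix.SpecialLinearGroup (Fin 2) F) :
      Matrix (Fin 2) (Fin 2) F) 0 0 =
      ((sl2PM false (0 : F) * g : Matrix.SpecialLinearGroup (Fin 2) F) :
      Matrix (Fin 2) (Fin 2) F) 1 1) := by
    intro h
    apply hns
    simp only [Matrix.SpecialLinearGroup.coe_mul, sl2PM_false_coe, neg_mul, one_mul,
      Matrix.neg_apply, neg_eq_zero, neg_inj] at h
    exact h
  have ht' : Matrix.trace ((sl2PM false (0 : F) * g : Matrix.SpecialLinearGroup (Fin 2) F) :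
      Matrix (Fin 2) (Fin 2) F) = 2 := by
    rw [sl2_trace_neg, ht, neg_neg]
  rw [e, sl2R_central_mul, sl2R_trace_two α _ hns' ht', mul_one]

theorem sl2R_split (α : MulChar F ℂ) (g : Matrix.SpecialLinearGroup (Fin 2) F)
    (ht : (Matrix.trace (g : Matrix (Fin 2) (Fin 2) F)) ^ 2 ≠ 4) (a : F)
    (ha : a ^ 2 - Matrix.trace (g : Matrix (Fin 2) (Fin 2) F) * a + 1 = 0) :
    sl2R α g = α a + α a⁻¹ := by
  have ha0 : a ≠ 0 := by
    rintro rfl
    simp at ha
  have htr : Matrix.trace ((sl2DiagHom (Units.mk0 a ha0) : Matrix.SpecialLinearGroup (Fin 2) F) :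
      Matrix (Fin 2) (Fin 2) F) = Matrix.trace (g : Matrix (Fin 2) (Fin 2) F) := by
    rw [sl2DiagHom_val, Matrix.trace_fin_two]
    simp
    field_simp
    linear_combination ha
  have hc := sl2_isConj_of_trace_eq _ ht (sl2Comp_conj_all _ ht) g
    (sl2DiagHom (Units.mk0 a ha0)) rfl htr
  rw [sl2R_isConj α hc]
  unfold sl2R
  rw [sl2R_diag α _ (by rw [sl2DiagHom_val]; simp) (by rw [sl2DiagHom_val]; simp)]
  · rw [sl2DiagHom_val]
    simp
  · rw [sl2DiagHom_val]
    simp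
    constructor
    · rintro rfl
      apply ht
      have h3 : Matrix.trace (g : Matrix (Fin 2) (Fin 2) F) = 2 := by linear_combination -ha
      rw [h3]; norm_num
    · rintro rfl
      apply ht
      have h3 : Matrix.trace (g : Matrix (Fin 2) (Fin 2) F) = -2 := by linear_combination ha
      rw [h3]; norm_num

theorem sl2R_no_root (α : MulChar F ℂ) (g : Matrix.SpecialLinearGroup (Fin 2) F)
    (hnr : ∀ a : F, a ^ 2 - Matrix.trace (g : Matrix (Fin 2) (Fin 2) F) * a + 1 ≠ 0) :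
    sl2R α g = 0 := by
  unfold sl2R
  apply sl2R_nonsplit
  intro c v hv h
  exact hnr c (sl2_root_of_eigenvector g c v hv h)

end R

end Cfsg.Agent.Lib.Helper4
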