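import Mathlib
import Cfsg.Prelude.Def_Characters
import Cfsg.Agent.Lib.Helper4.SL2CharB2
import Cfsg.Agent.Lib.Helper4.SL2Normalizer

set_option autoImplicit false

namespace Cfsg.Agent.Lib.Helper4

open scoped ComplexConjugate

variable {F : Type*} [Field F] [Fintype F]

theorem coprime_card_add_one_char (p : ℕ) [Fact p.Prime] [CharP F p] :
    Nat.Coprime (Fintype.card F + 1) p := by
  obtain ⟨n, -, hcard⟩ := FiniteField.card F p
  have hpq : p ∣ Fintype.card F := by
    rw [hcard]
    exact dvd_pow_self p n.ne_zero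
  exact Nat.Coprime.coprime_dvd_right hpq (Nat.coprime_self_add_left.mpr (Nat.coprime_one_left _))

/-- A cyclic subgroup of order `q + 1` of `SL₂(q)` is the centraliser of a generator, which
has no eigenvalue in the field. -/
theorem sl2_torus_gen (C : Subgroup (Matrix.SpecialLinearGroup (Fin 2) F)) (hC : IsCyclic C)
    (hcard : Nat.card C = Fintype.card F + 1) :
    ∃ c₀ : Matrix.SpecialLinearGroup (Fin 2) F, C = Subgroup.zpowers c₀ ∧
      orderOf c₀ = Fintype.card F + 1 ∧
      (∀ a : F, a ^ 2 - Matrix.trace (c₀ : Matrix (Fin 2) (Fin 2) F) * a + 1 ≠ 0) ∧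
      C = Subgroup.centralizer ({c₀} : Set (Matrix.SpecialLinearGroup (Fin 2) F)) := by
  classical
  obtain ⟨c₀, hCz, hord⟩ := exists_zpowers_eq_of_isCyclic C hC
  rw [hcard] at hord
  have hq : 1 < Fintype.card F := Fintype.one_lt_card
  have hnr : ∀ a : F, a ^ 2 - Matrix.trace (c₀ : Matrix (Fin 2) (Fin 2) F) * a + 1 ≠ 0 := by
    by_contra hcon
    push Not at hcon
    obtain ⟨a, ha⟩ := hcon
    haveI : Fact (ringChar F).Prime := ⟨CharP.char_is_prime F (ringChar F)⟩
    by_cases ht : (Matrix.trace (c₀ : Matrix (Fin 2) (Fin 2) F)) ^ 2 = 4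
    · have h1 := sl2_pow_two_mul_char (ringChar F) c₀ ht
      have h2 := orderOf_dvd_of_pow_eq_one h1
      rw [hord] at h2
      have h3 := Nat.Coprime.dvd_of_dvd_mul_right (coprime_card_add_one_char (F := F) (ringChar F)) h2
      have h4 := Nat.le_of_dvd (by norm_num) h3
      omega
    · have h1 := sl2_card_centralizer_of_split c₀ ht a ha
      have h2 := sl2_pow_card_centralizer c₀
      rw [h1] at h2
      have h3 := orderOf_dvd_of_pow_eq_one h2
      rw [hord] at h3
      have h4 := Nat.le_of_dvd (by omega) h3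
      omega
  refine ⟨c₀, hCz, hord, hnr, ?_⟩
  apply Subgroup.eq_of_le_of_card_ge
  · intro x hx
    rw [hCz] at hx
    obtain ⟨k, rfl⟩ := Subgroup.mem_zpowers_iff.mp hx
    rw [sl2_mem_centralizer_singleton]
    exact (Commute.zpow_left (Commute.refl c₀) k).eq
  · rw [sl2_card_centralizer_of_no_root c₀ hnr, hcard]

/-- Non-scalar elements of a cyclic subgroup of order `q + 1` have no eigenvalues, and the
subgroup is their centraliser. -/
theorem sl2_torus_elt (C : Subgroup (Matrix.SpecialLinearGroup (Fin 2) F)) (hC : IsCyclic C)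
    (hcard : Nat.card C = Fintype.card F + 1) (c : Matrix.SpecialLinearGroup (Fin 2) F)
    (hc : c ∈ C)
    (hns : ¬ ((c : Matrix (Fin 2) (Fin 2) F) 0 1 = 0 ∧ (c : Matrix (Fin 2) (Fin 2) F) 1 0 = 0 ∧
      (c : Matrix (Fin 2) (Fin 2) F) 0 0 = (c : Matrix (Fin 2) (Fin 2) F) 1 1)) :
    (∀ a : F, a ^ 2 - Matrix.trace (c : Matrix (Fin 2) (Fin 2) F) * a + 1 ≠ 0) ∧
      Subgroup.centralizer ({c} : Set (Matrix.SpecialLinearGroup (Fin 2) F)) = C := by
  classical
  obtain ⟨c₀, hCz, hord, hnr₀, hcent⟩ := sl2_torus_gen C hC hcard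
  have hq : 1 < Fintype.card F := Fintype.one_lt_card
  have hcomm : c * c₀ = c₀ * c := by
    rw [← sl2_mem_centralizer_singleton, ← hcent]
    exact hc
  have hc₀ns := sl2_nonscalar_of_trace c₀ (sq_ne_four_of_no_root _ hnr₀)
  have hcc : Subgroup.centralizer ({c} : Set (Matrix.SpecialLinearGroup (Fin 2) F)) = C := by
    rw [hcent]
    exact sl2_centralizer_eq_of_mem c₀ c hc₀ns hns hcomm
  refine ⟨?_, hcc⟩
  by_contra hcon
  push Not at hcon
  obtain ⟨a, ha⟩ := hcon
  have hcardc : Nat.card (Subgroup.centralizer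
      ({c} : Set (Matrix.SpecialLinearGroup (Fin 2) F))) = Fintype.card F + 1 := by
    rw [hcc, hcard]
  haveI : Fact (ringChar F).Prime := ⟨CharP.char_is_prime F (ringChar F)⟩
  by_cases ht : (Matrix.trace (c : Matrix (Fin 2) (Fin 2) F)) ^ 2 = 4
  · have h1 := sl2_pow_two_mul_char (ringChar F) c ht
    have h2 := orderOf_dvd_of_pow_eq_one h1
    have h3 : c ^ (Fintype.card F + 1) = 1 := by
      have h := congrArg Subtype.val (pow_card_eq_one' (G := ↥C) (x := ⟨c, hc⟩))
      rw [hcard] at h
      simpa using h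
    have h4 := orderOf_dvd_of_pow_eq_one h3
    have h5 : Nat.Coprime (orderOf c) (ringChar F) :=
      Nat.Coprime.coprime_dvd_left h4 (coprime_card_add_one_char (F := F) (ringChar F))
    have h6 := Nat.Coprime.dvd_of_dvd_mul_right h5 h2
    have h7 : c ^ 2 = 1 := orderOf_dvd_iff_pow_eq_one.mp h6
    rcases Nat.even_or_odd (Fintype.card F) with heven | hodd
    · have h8 : Nat.Coprime 2 (Fintype.card F + 1) := Nat.coprime_two_left.mpr heven.add_one
      have h9 : orderOf c ∣ 1 := by
        have := Nat.dvd_gcd h6 h4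
        rwa [h8] at this
      apply hns
      rw [orderOf_eq_one_iff.mp (Nat.dvd_one.mp h9)]
      simp
    · have h2' := two_ne_zero_of_odd_card hodd
      rw [pow_two] at h7
      rcases sl2_sq_eq_one_odd h2' c h7 with h | h
      · apply hns
        rw [h]
        simp
      · apply hns
        rw [h, sl2PM_val]
        simp
  · have h1 := sl2_card_centralizer_of_split c ht a ha
    omega

theorem sl2_card_cast : (Nat.card (Matrix.SpecialLinearGroup (Fin 2) F) : ℂ) =
    (Fintype.card F : ℂ) * ((Fintype.card F : ℂ) - 1) * ((Fintype.card F : ℂ) + 1) := by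
  rw [card_sl2]
  have h1 : 1 ≤ Fintype.card F ^ 2 := Nat.one_le_pow _ _ Fintype.card_pos
  push_cast [Nat.cast_sub h1]
  ring

theorem sl2_card_add_one_ne_zero : ((Fintype.card F : ℂ) + 1) ≠ 0 := by
  have : ((Fintype.card F + 1 : ℕ) : ℂ) ≠ 0 := by
    exact_mod_cast Nat.succ_ne_zero (Fintype.card F)
  simpa using this

variable [DecidableEq F]

/-- Value of a function induced from the torus at a central element of the torus. -/
theorem sl2IndC_central (C : Subgroup (Matrix.SpecialLinearGroup (Fin 2) F))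
    (hcard : Nat.card C = Fintype.card F + 1) (θ : C → ℂ) (c : C)
    (hc : (c : Matrix.SpecialLinearGroup (Fin 2) F) ∈
      Subgroup.center (Matrix.SpecialLinearGroup (Fin 2) F)) :
    Cfsg.indFun C θ c = (Fintype.card F : ℂ) * ((Fintype.card F : ℂ) - 1) * θ c := by
  classical
  unfold Cfsg.indFun
  have key : ∀ x : Matrix.SpecialLinearGroup (Fin 2) F,
      Cfsg.extendByZero C θ (x⁻¹ * (c : Matrix.SpecialLinearGroup (Fin 2) F) * x) = θ c := by
    intro x
    have e : x⁻¹ * (c : Matrix.SpecialLinearGroup (Fin 2) F) * x = c := by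
      rw [mul_assoc, ← Subgroup.mem_center_iff.mp hc x, inv_mul_cancel_left]
    rw [e, extendByZero_mem C θ _ c.2]
  simp_rw [key]
  rw [Finset.sum_const, Finset.card_univ, nsmul_eq_mul, hcard,
    ← Nat.card_eq_fintype_card (α := Matrix.SpecialLinearGroup (Fin 2) F), sl2_card_cast]
  push_cast
  field_simp [sl2_card_add_one_ne_zero (F := F)]

/-- Value of a function induced from the torus at an element with an eigenvalue. -/
theorem sl2IndC_root (C : Subgroup (Matrix.SpecialLinearGroup (Fin 2) F)) (hC : IsCyclic C)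
    (hcard : Nat.card C = Fintype.card F + 1) (θ : C → ℂ)
    (g : Matrix.SpecialLinearGroup (Fin 2) F)
    (hg : g ∉ Subgroup.center (Matrix.SpecialLinearGroup (Fin 2) F)) (a : F)
    (ha : a ^ 2 - Matrix.trace (g : Matrix (Fin 2) (Fin 2) F) * a + 1 = 0) :
    Cfsg.indFun C θ g = 0 := by
  classical
  unfold Cfsg.indFun
  have key : ∀ x : Matrix.SpecialLinearGroup (Fin 2) F,
      Cfsg.extendByZero C θ (x⁻¹ * g * x) = 0 := by
    intro x
    apply extendByZero_not_mem
    intro hm
    have hns : ¬ (((x⁻¹ * g * x : Matrix.SpecialLinearGroup (Fin 2) F) :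
        Matrix (Fin 2) (Fin 2) F) 0 1 = 0 ∧
        ((x⁻¹ * g * x : Matrix.SpecialLinearGroup (Fin 2) F) : Matrix (Fin 2) (Fin 2) F) 1 0 = 0 ∧
        ((x⁻¹ * g * x : Matrix.SpecialLinearGroup (Fin 2) F) : Matrix (Fin 2) (Fin 2) F) 0 0 =
        ((x⁻¹ * g * x : Matrix.SpecialLinearGroup (Fin 2) F) : Matrix (Fin 2) (Fin 2) F) 1 1) := by
      rw [← sl2_mem_center_iff_scalar]
      intro hcen
      apply hg
      have e : g = x * (x⁻¹ * g * x) * x⁻¹ := by group
      rw [e]
      exact (inferInstance : (Subgroup.center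
        (Matrix.SpecialLinearGroup (Fin 2) F)).Normal).conj_mem _ hcen x
    have hnr := (sl2_torus_elt C hC hcard _ hm hns).1
    have hconj : IsConj g (x⁻¹ * g * x) := isConj_iff.mpr ⟨x⁻¹, by rw [inv_inv]⟩
    rw [← sl2_conj_trace hconj] at hnr
    exact hnr a ha
  simp_rw [key]
  simp

/-- Value of a function induced from the torus at a non-central element of the torus. -/
theorem sl2IndC_noncentral (C : Subgroup (Matrix.SpecialLinearGroup (Fin 2) F)) (hC : IsCyclic C)
    (hcard : Nat.card C = Fintype.card F + 1) (θ : C → ℂ) (c : C)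
    (hc : (c : Matrix.SpecialLinearGroup (Fin 2) F) ∉
      Subgroup.center (Matrix.SpecialLinearGroup (Fin 2) F)) :
    Cfsg.indFun C θ c = θ c + θ c⁻¹ := by
  classical
  obtain ⟨x, hx⟩ : ∃ x : Matrix.SpecialLinearGroup (Fin 2) F, x = c := ⟨_, rfl⟩
  rw [← hx]
  rw [← hx] at hc
  have hxC : x ∈ C := by rw [hx]; exact c.2
  have hns := fun h => hc ((sl2_mem_center_iff_scalar x).2 h)
  obtain ⟨hnr, hcc⟩ := sl2_torus_elt C hC hcard x hxC hns
  have hne := sl2_ne_inv_of_no_root x hnr
  have ht := sq_ne_four_of_no_root _ hnr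
  have hconj : IsConj x x⁻¹ := sl2_isConj_of_trace_eq _ ht (sl2Comp_conj_all _ ht) x x⁻¹ rfl
    (sl2_trace_inv x)
  obtain ⟨w', hw'⟩ := isConj_iff.mp hconj
  have key : ∀ y : Matrix.SpecialLinearGroup (Fin 2) F,
      Cfsg.extendByZero C θ (y⁻¹ * x * y) =
        (if y⁻¹ * x * y = x then θ c else 0) + (if y⁻¹ * x * y = x⁻¹ then θ c⁻¹ else 0) := by
    intro y
    by_cases hm : y⁻¹ * x * y ∈ C
    · have hcom : (y⁻¹ * x * y) * x = x * (y⁻¹ * x * y) := by
        rw [← sl2_mem_centralizer_singleton, hcc]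
        exact hm
      have hconj' : IsConj x (y⁻¹ * x * y) := isConj_iff.mpr ⟨y⁻¹, by rw [inv_inv]⟩
      rcases sl2_eq_or_eq_inv_of_trace_nonsplit x (y⁻¹ * x * y) hnr hcom
        (sl2_conj_trace hconj').symm with h | h
      · rw [extendByZero_mem C θ _ hm, if_pos h, if_neg (by rw [h]; exact hne), add_zero]
        congr 1
        exact Subtype.ext (h.trans hx)
      · rw [extendByZero_mem C θ _ hm, if_pos h, if_neg (by rw [h]; exact fun h' => hne h'.symm),
          zero_add]
        congr 1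
        apply Subtype.ext
        show y⁻¹ * x * y = ((c⁻¹ : C) : Matrix.SpecialLinearGroup (Fin 2) F)
        rw [Subgroup.coe_inv, ← hx]
        exact h
    · rw [extendByZero_not_mem C θ _ hm, if_neg, if_neg, add_zero]
      · intro h
        apply hm
        rw [h]
        exact C.inv_mem hxC
      · intro h
        apply hm
        rw [h]
        exact hxC
  have hcount : (Finset.univ.filter (fun y : Matrix.SpecialLinearGroup (Fin 2) F =>
      y⁻¹ * x * y = x)).card = Fintype.card F + 1 := by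
    rw [← hcard, ← hcc, Nat.card_eq_fintype_card, Fintype.card_subtype]
    congr 1
    ext y
    simp only [Finset.mem_filter, Finset.mem_univ, true_and]
    rw [sl2_mem_centralizer_singleton]
    constructor
    · intro h
      have : x * y = y * x := by
        calc x * y = y * (y⁻¹ * x * y) := by group
          _ = y * x := by rw [h]
      exact this.symm
    · intro h
      rw [mul_assoc, ← h, inv_mul_cancel_left]
  have hS1 : ∑ y : Matrix.SpecialLinearGroup (Fin 2) F, (if y⁻¹ * x * y = x then θ c else 0) =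
      ((Fintype.card F : ℂ) + 1) * θ c := by
    rw [Finset.sum_ite, Finset.sum_const_zero, add_zero, Finset.sum_const, hcount, nsmul_eq_mul]
    push_cast
    ring
  have hS2 : ∑ y : Matrix.SpecialLinearGroup (Fin 2) F,
      (if y⁻¹ * x * y = x⁻¹ then θ c⁻¹ else 0) = ((Fintype.card F : ℂ) + 1) * θ c⁻¹ := by
    rw [← Equiv.sum_comp (Equiv.mulRight w'⁻¹)]
    have e : ∀ y : Matrix.SpecialLinearGroup (Fin 2) F,
        ((Equiv.mulRight w'⁻¹ y)⁻¹ * x * (Equiv.mulRight w'⁻¹ y) = x⁻¹) ↔ (y⁻¹ * x * y = x) := by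
      intro y
      have e1 : (Equiv.mulRight w'⁻¹ y)⁻¹ * x * (Equiv.mulRight w'⁻¹ y) =
          w' * (y⁻¹ * x * y) * w'⁻¹ := by
        show (y * w'⁻¹)⁻¹ * x * (y * w'⁻¹) = _
        group
      rw [e1, ← hw']
      constructor
      · intro h
        have h2 : w'⁻¹ * (w' * (y⁻¹ * x * y) * w'⁻¹) * w' = w'⁻¹ * (w' * x * w'⁻¹) * w' := by
          rw [h]
        have e3 : ∀ m : Matrix.SpecialLinearGroup (Fin 2) F, w'⁻¹ * (w' * m * w'⁻¹) * w' = m := by
          intro m; group
        rwa [e3, e3] at h2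
      · intro h
        rw [h]
    simp_rw [e]
    rw [Finset.sum_ite, Finset.sum_const_zero, add_zero, Finset.sum_const, hcount, nsmul_eq_mul]
    push_cast
    ring
  unfold Cfsg.indFun
  simp_rw [key]
  rw [Finset.sum_add_distrib, hS1, hS2, hcard]
  push_cast
  field_simp [sl2_card_add_one_ne_zero (F := F)]

end Cfsg.Agent.Lib.Helper4
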