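import Mathlib
import Cfsg.Prelude.Def_Characters
import Cfsg.Agent.Lib.Helper4.SL2CharA

set_option autoImplicit false

namespace Cfsg.Agent.Lib.Helper4

open scoped ComplexConjugate
open Cfsg.Agent.Lib.Lead

section normtwo

variable {G : Type*} [Group G]

/-- Integer solutions of `∑ z² = 2`. -/
theorem int_sum_sq_eq_two {ι : Type*} [Fintype ι] [DecidableEq ι] (z : ι → ℤ)
    (h : ∑ i, z i * z i = 2) :
    ∃ i j : ι, i ≠ j ∧ (z i = 1 ∨ z i = -1) ∧ (z j = 1 ∨ z j = -1) ∧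
      ∀ k, k ≠ i → k ≠ j → z k = 0 := by
  have hex : ∃ i, z i ≠ 0 := by
    by_contra hall
    push Not at hall
    simp [hall] at h
  obtain ⟨i, hi⟩ := hex
  rw [← Finset.add_sum_erase Finset.univ _ (Finset.mem_univ i)] at h
  have hnn : 0 ≤ ∑ k ∈ Finset.univ.erase i, z k * z k :=
    Finset.sum_nonneg (fun k _ => mul_self_nonneg _)
  have hi1 : z i * z i = 1 := by
    have h5 : 0 < z i * z i := mul_self_pos.mpr hi
    have h6 : z i * z i ≠ 2 := by
      intro h7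
      have h8 : z i ≤ 1 := by nlinarith
      have h9 : -1 ≤ z i := by nlinarith
      interval_cases (z i) <;> omega
    have h7 : z i * z i ≠ 3 := by
      intro h7
      omega
    have h8 : z i * z i ≤ 2 := by omega
    omega
  have hrest : ∑ k ∈ Finset.univ.erase i, z k * z k = 1 := by omega
  have hex2 : ∃ j ∈ Finset.univ.erase i, z j ≠ 0 := by
    by_contra hall
    push Not at hall
    rw [Finset.sum_eq_zero (fun k hk => by rw [hall k hk, mul_zero])] at hrest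
    omega
  obtain ⟨j, hj, hj0⟩ := hex2
  rw [← Finset.add_sum_erase _ _ hj] at hrest
  have hnn2 : 0 ≤ ∑ k ∈ (Finset.univ.erase i).erase j, z k * z k :=
    Finset.sum_nonneg (fun k _ => mul_self_nonneg _)
  have hj1 : z j * z j = 1 := by
    have h5 : 0 < z j * z j := mul_self_pos.mpr hj0
    omega
  have hrest2 : ∑ k ∈ (Finset.univ.erase i).erase j, z k * z k = 0 := by omega
  refine ⟨i, j, (Finset.ne_of_mem_erase hj).symm, Int.eq_one_or_neg_one_of_mul_eq_one hi1,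
    Int.eq_one_or_neg_one_of_mul_eq_one hj1, ?_⟩
  intro k hki hkj
  have h6 := (Finset.sum_eq_zero_iff_of_nonneg (fun k _ => mul_self_nonneg (z k))).mp hrest2 k
    (Finset.mem_erase.mpr ⟨hkj, Finset.mem_erase.mpr ⟨hki, Finset.mem_univ k⟩⟩)
  exact mul_self_eq_zero.mp h6

/-- A generalized character of norm two is `± χ₁ ± χ₂`. -/
theorem genChar_norm_two [Fintype G] {θ : G → ℂ} (hθ : Cfsg.IsGeneralizedCharacter G θ)
    (h2 : Cfsg.classInner θ θ = 2) :
    ∃ χ₁ χ₂ : Cfsg.IrrCharacter G, χ₁ ≠ χ₂ ∧ ∃ e₁ e₂ : ℤ, (e₁ = 1 ∨ e₁ = -1) ∧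
      (e₂ = 1 ∨ e₂ = -1) ∧ θ = (e₁ : ℂ) • (χ₁ : G → ℂ) + (e₂ : ℂ) • (χ₂ : G → ℂ) := by
  classical
  haveI : Fintype (Cfsg.IrrCharacter G) := Fintype.ofFinite _
  obtain ⟨z, hz⟩ := genChar_expansion hθ
  have h3 : ∑ χ, (z χ : ℂ) * conj (z χ : ℂ) = 2 := by
    rw [← classInner_comb, ← hz]; exact h2
  have h4 : ∑ χ, z χ * z χ = 2 := by
    have h5 : ∑ χ, ((z χ * z χ : ℤ) : ℂ) = 2 := by
      rw [← h3]
      apply Finset.sum_congr rfl
      intro χ _
      rw [map_intCast]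
      push_cast
      rfl
    exact_mod_cast h5
  obtain ⟨χ₁, χ₂, hne, h1, h2', hrest⟩ := int_sum_sq_eq_two z h4
  refine ⟨χ₁, χ₂, hne, z χ₁, z χ₂, h1, h2', ?_⟩
  rw [hz, ← Finset.add_sum_erase Finset.univ _ (Finset.mem_univ χ₁),
    ← Finset.add_sum_erase _ _ (Finset.mem_erase.mpr ⟨hne.symm, Finset.mem_univ χ₂⟩),
    Finset.sum_eq_zero, add_zero]
  intro χ hχ
  have hχ2 := Finset.ne_of_mem_erase hχ
  have hχ1 := Finset.ne_of_mem_erase (Finset.mem_of_mem_erase hχ)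
  rw [hrest χ hχ1 hχ2]
  simp

/-- A character of norm two is the sum of two distinct irreducible characters. -/
theorem char_norm_two [Fintype G] {ψ : G → ℂ} (hψ : Cfsg.IsCharacter G ψ)
    (h2 : Cfsg.classInner ψ ψ = 2) :
    ∃ χ₁ χ₂ : Cfsg.IrrCharacter G, χ₁ ≠ χ₂ ∧ ψ = (χ₁ : G → ℂ) + (χ₂ : G → ℂ) := by
  classical
  obtain ⟨χ₁, χ₂, hne, e₁, e₂, h1, h2', hdec⟩ := genChar_norm_two (isGenChar_of_char hψ) h2
  have hin1 : Cfsg.classInner ψ (χ₁ : G → ℂ) = e₁ := by
    rw [hdec, classInner_add_left, classInner_smul_left, classInner_smul_left,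
      classInner_irr_self χ₁.2, classInner_irr χ₂.2 χ₁.2, if_neg (fun h => hne (Subtype.ext h).symm)]
    ring
  have hin2 : Cfsg.classInner ψ (χ₂ : G → ℂ) = e₂ := by
    rw [hdec, classInner_add_left, classInner_smul_left, classInner_smul_left,
      classInner_irr_self χ₂.2, classInner_irr χ₁.2 χ₂.2, if_neg (fun h => hne (Subtype.ext h))]
    ring
  obtain ⟨n₁, hn₁⟩ := classInner_char_irr_nat hψ χ₁.2
  obtain ⟨n₂, hn₂⟩ := classInner_char_irr_nat hψ χ₂.2
  have he1 : e₁ = 1 := by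
    rcases h1 with h | h
    · exact h
    · rw [hn₁, h] at hin1
      have : (n₁ : ℤ) = -1 := by exact_mod_cast hin1
      omega
  have he2 : e₂ = 1 := by
    rcases h2' with h | h
    · exact h
    · rw [hn₂, h] at hin2
      have : (n₂ : ℤ) = -1 := by exact_mod_cast hin2
      omega
  refine ⟨χ₁, χ₂, hne, ?_⟩
  rw [hdec, he1, he2]
  simp

/-- Orthogonal characters have no common constituent. -/
theorem char_inner_zero_of_orth [Fintype G] {ψ₁ ψ₂ χ : G → ℂ} (h₁ : Cfsg.IsCharacter G ψ₁)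
    (h₂ : Cfsg.IsCharacter G ψ₂) (hχ : Cfsg.IsIrrCharacter G χ)
    (horth : Cfsg.classInner ψ₁ ψ₂ = 0) (hne : Cfsg.classInner ψ₂ χ ≠ 0) :
    Cfsg.classInner ψ₁ χ = 0 := by
  classical
  haveI : Fintype (Cfsg.IrrCharacter G) := Fintype.ofFinite _
  obtain ⟨a, ha, ha'⟩ := isCharacter_expansion h₁
  obtain ⟨b, hb, hb'⟩ := isCharacter_expansion h₂
  have h3 : ∑ ξ, (a ξ : ℂ) * conj (b ξ : ℂ) = 0 := by
    rw [← classInner_comb, ← ha, ← hb]; exact horth
  have h4 : ∑ ξ, a ξ * b ξ = 0 := by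
    have h5 : ∑ ξ, ((a ξ * b ξ : ℕ) : ℂ) = 0 := by
      rw [← h3]
      apply Finset.sum_congr rfl
      intro ξ _
      rw [Complex.conj_natCast]
      push_cast
      rfl
    exact_mod_cast h5
  have h5 := (Finset.sum_eq_zero_iff_of_nonneg (fun ξ _ => Nat.zero_le (a ξ * b ξ))).mp h4
    ⟨χ, hχ⟩ (Finset.mem_univ _)
  have h6 := ha' ⟨χ, hχ⟩
  have h7 := hb' ⟨χ, hχ⟩
  simp only at h6 h7
  rw [h6]
  rw [h7] at hne
  have hb0 : b ⟨χ, hχ⟩ ≠ 0 := by
    intro h
    apply hne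
    rw [h]
    simp
  rcases Nat.mul_eq_zero.mp h5 with h | h
  · rw [h]; simp
  · exact absurd h hb0

end normtwo

section skeleton

open Classical

variable {G : Type*} [Group G] [Fintype G]
variable {A T : Type*} [CommGroup A] [Fintype A] [CommGroup T] [Fintype T]

/-- Abstract Deligne–Lusztig-type data for a group of order `q (q² - 1)`. -/
structure DLData (q : ℕ) (z : G) (R : A → G → ℂ) (P : T → G → ℂ) (a : A → ℂ) (t : T → ℂ) :
    Prop where
  hq : 2 ≤ q
  cardG : Nat.card G = q * (q ^ 2 - 1)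
  cardA : Fintype.card A = q - 1
  cardT : Fintype.card T = q + 1
  hz : z ∈ Subgroup.center G
  hzz : z * z = 1
  Rchar : ∀ α, Cfsg.IsCharacter G (R α)
  Pgen : ∀ θ, Cfsg.IsGeneralizedCharacter G (P θ)
  Rone : ∀ α, R α 1 = (q : ℂ) + 1
  Pone : ∀ θ, P θ 1 = (q : ℂ) - 1
  RR : ∀ α β, Cfsg.classInner (R α) (R β) =
    (if α = β then 1 else 0) + (if α = β⁻¹ then 1 else 0)
  PP : ∀ θ θ', Cfsg.classInner (P θ) (P θ') =
    (if θ = θ' then 1 else 0) + (if θ = θ'⁻¹ then 1 else 0)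
  RP : ∀ α θ, Cfsg.classInner (R α) (P θ) = 0
  Rpar : ∀ α g, R α (z * g) = a α * R α g
  Ppar : ∀ θ g, P θ (z * g) = t θ * P θ g
  apm : ∀ α, a α = 1 ∨ a α = -1
  tpm : ∀ θ, t θ = 1 ∨ t θ = -1
  sign : ∀ α θ, α ^ 2 = 1 → α ≠ 1 → θ ^ 2 = 1 → θ ≠ 1 → a α * t θ = -1
  uniqT : ∀ θ θ' : T, θ ^ 2 = 1 → θ ≠ 1 → θ' ^ 2 = 1 → θ' ≠ 1 → θ = θ'
  R1 : Cfsg.classInner (R 1) (fun _ => (1 : ℂ)) = 1
  P1 : Cfsg.classInner (P 1) (fun _ => (1 : ℂ)) = -1

theorem commGroup_sq_eq_one_iff {M : Type*} [CommGroup M] (x : M) : x ^ 2 = 1 ↔ x = x⁻¹ := by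
  rw [pow_two]
  constructor
  · intro h
    exact eq_inv_of_mul_eq_one_left h
  · intro h
    nth_rewrite 1 [h]
    exact inv_mul_cancel x

theorem sum_delta {M : Type*} [CommGroup M] [Fintype M] (x : M) :
    ∑ y : M, (((if y = x then 1 else 0) + (if y = x⁻¹ then 1 else 0)) : ℂ) = 2 := by
  rw [Finset.sum_add_distrib, Finset.sum_ite_eq', if_pos (Finset.mem_univ x),
    Finset.sum_ite_eq', if_pos (Finset.mem_univ _)]
  norm_num

namespace DLData

variable {q : ℕ} {z : G} {R : A → G → ℂ} {P : T → G → ℂ} {a : A → ℂ} {t : T → ℂ}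

theorem R_irr (D : DLData q z R P a t) (α : A) (hα : α ^ 2 ≠ 1) :
    Cfsg.IsIrrCharacter G (R α) := by
  apply isIrrCharacter_of_norm_one (D.Rchar α)
  rw [D.RR, if_pos rfl, if_neg (fun h => hα ((commGroup_sq_eq_one_iff α).2 h)), add_zero]

theorem q_cast_pos (D : DLData q z R P a t) : (1 : ℝ) < (q : ℝ) := by
  have := D.hq
  exact_mod_cast this

theorem P_irr (D : DLData q z R P a t) (θ : T) (hθ : θ ^ 2 ≠ 1) :
    Cfsg.IsIrrCharacter G (P θ) := by
  apply isIrrCharacter_of_genChar (D.Pgen θ)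
  · rw [D.PP, if_pos rfl, if_neg (fun h => hθ ((commGroup_sq_eq_one_iff θ).2 h)), add_zero]
  · rw [D.Pone]
    have := D.q_cast_pos
    rw [Complex.sub_re, Complex.natCast_re, Complex.one_re]
    linarith

theorem RR_one (D : DLData q z R P a t) : Cfsg.classInner (R 1) (R 1) = 2 := by
  rw [D.RR, if_pos rfl, if_pos (by simp)]
  norm_num

theorem PP_one (D : DLData q z R P a t) : Cfsg.classInner (P 1) (P 1) = 2 := by
  rw [D.PP, if_pos rfl, if_pos (by simp)]
  norm_num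

theorem one_R1 (D : DLData q z R P a t) : Cfsg.classInner (fun _ => (1 : ℂ)) (R 1) = 1 := by
  rw [← classInner_conj_symm, D.R1, map_one]

theorem one_P1 (D : DLData q z R P a t) : Cfsg.classInner (fun _ => (1 : ℂ)) (P 1) = -1 := by
  rw [← classInner_conj_symm, D.P1, map_neg, map_one]

theorem PR (D : DLData q z R P a t) (θ : T) (α : A) : Cfsg.classInner (P θ) (R α) = 0 := by
  rw [← classInner_conj_symm, D.RP, map_zero]

/-- The Steinberg character. -/
theorem St_irr (D : DLData q z R P a t) :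
    Cfsg.IsIrrCharacter G (R 1 - fun _ => (1 : ℂ)) := by
  apply isIrrCharacter_of_genChar ⟨R 1, fun _ => 1, D.Rchar 1, isCharacter_one, rfl⟩
  · rw [classInner_sub_left, classInner_sub_right, classInner_sub_right, D.RR_one, D.R1,
      D.one_R1, classInner_one_one]
    norm_num
  · show 0 < (R 1 1 - 1).re
    rw [D.Rone]
    have := D.q_cast_pos
    rw [add_sub_cancel_right, Complex.natCast_re]
    linarith

theorem P_one_eq (D : DLData q z R P a t) :
    P 1 = R 1 - (2 : ℂ) • (fun _ => (1 : ℂ)) := by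
  apply eq_of_sub_eq_zero
  apply classInner_self_eq_zero
  simp only [classInner_sub_left, classInner_sub_right, classInner_smul_left,
    classInner_smul_right, D.RR_one, D.PP_one, D.R1, D.P1, D.one_R1, D.one_P1, D.RP, D.PR,
    classInner_one_one]
  simp
  norm_num

theorem reg (D : DLData q z R P a t) {χ : G → ℂ} (hχ : Cfsg.IsIrrCharacter G χ) :
    χ 1 = ((q : ℂ) + 1) / 2 * ∑ α, Cfsg.classInner (R α) χ +
      ((q : ℂ) - 1) / 2 * ∑ θ, Cfsg.classInner (P θ) χ := by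
  set Φ : G → ℂ := (((q : ℂ) + 1) / 2) • ∑ α, R α + (((q : ℂ) - 1) / 2) • ∑ θ, P θ with hΦ
  have hq1 : 1 ≤ q := le_trans (by norm_num) D.hq
  have hq2 : 1 ≤ q ^ 2 := Nat.one_le_pow _ _ hq1
  have hcard : (Nat.card G : ℂ) = (q : ℂ) * ((q : ℂ) ^ 2 - 1) := by
    rw [D.cardG]
    push_cast [Nat.cast_sub hq2]
    ring
  have hA : (Fintype.card A : ℂ) = (q : ℂ) - 1 := by
    rw [D.cardA]
    push_cast [Nat.cast_sub hq1]
    ring
  have hT : (Fintype.card T : ℂ) = (q : ℂ) + 1 := by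
    rw [D.cardT]
    push_cast
    ring
  have h1 : Φ 1 = (Nat.card G : ℂ) := by
    rw [hΦ, hcard]
    simp only [Pi.add_apply, Pi.smul_apply, Finset.sum_apply, smul_eq_mul, D.Rone, D.Pone,
      Finset.sum_const, Finset.card_univ, nsmul_eq_mul, hA, hT]
    ring
  have hc1 : conj (((q : ℂ) + 1) / 2) = ((q : ℂ) + 1) / 2 := by
    have : (((q : ℂ) + 1) / 2) = ((((q : ℝ) + 1) / 2 : ℝ) : ℂ) := by push_cast; ring
    rw [this, Complex.conj_ofReal]
  have hc2 : conj (((q : ℂ) - 1) / 2) = ((q : ℂ) - 1) / 2 := by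
    have : (((q : ℂ) - 1) / 2) = ((((q : ℝ) - 1) / 2 : ℝ) : ℂ) := by push_cast; ring
    rw [this, Complex.conj_ofReal]
  have hn : Cfsg.classInner Φ Φ = (Nat.card G : ℂ) := by
    rw [hΦ, hcard]
    simp only [classInner_add_left, classInner_add_right, classInner_smul_left,
      classInner_smul_right, classInner_sum_left, classInner_sum_right, D.RR, D.PP, D.RP, D.PR,
      hc1, hc2, Finset.sum_const_zero, mul_zero, add_zero, zero_add]
    simp only [sum_delta, Finset.sum_const, Finset.card_univ, nsmul_eq_mul, hA, hT]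
    ring
  have hreg := eq_regFun_of_norm Φ h1 hn
  have h2 : Cfsg.classInner Φ χ = conj (χ 1) := by
    rw [hreg, classInner_regFun_left]
  obtain ⟨n, -, hn1⟩ := irr_one hχ
  rw [hn1, Complex.conj_natCast] at h2
  rw [hn1, ← h2, hΦ]
  simp only [classInner_add_left, classInner_smul_left, classInner_sum_left]

theorem inner_R1 (D : DLData q z R P a t) {ξ : G → ℂ} (hξ : Cfsg.IsIrrCharacter G ξ) :
    Cfsg.classInner (R 1) ξ = (if (fun _ : G => (1 : ℂ)) = ξ then 1 else 0) +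
      (if (R 1 - fun _ => (1 : ℂ)) = ξ then 1 else 0) := by
  have e : Cfsg.classInner (R 1) ξ = Cfsg.classInner ((fun _ : G => (1 : ℂ)) +
      (R 1 - fun _ => (1 : ℂ))) ξ := by
    rw [add_sub_cancel]
  rw [e, classInner_add_left, classInner_irr (isIrrCharacter_one G) hξ,
    classInner_irr D.St_irr hξ]

theorem inner_P1 (D : DLData q z R P a t) {ξ : G → ℂ} (hξ : Cfsg.IsIrrCharacter G ξ) :
    Cfsg.classInner (P 1) ξ = (if (R 1 - fun _ => (1 : ℂ)) = ξ then 1 else 0) -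
      (if (fun _ : G => (1 : ℂ)) = ξ then 1 else 0) := by
  rw [D.P_one_eq, classInner_sub_left, classInner_smul_left, D.inner_R1 hξ,
    classInner_irr (isIrrCharacter_one G) hξ]
  ring

/-- Every irreducible character is a constituent of some `R α` or `P θ`. -/
theorem classify (D : DLData q z R P a t) {χ : G → ℂ} (hχ : Cfsg.IsIrrCharacter G χ) :
    χ = (fun _ => (1 : ℂ)) ∨ χ = (R 1 - fun _ => (1 : ℂ)) ∨ (∃ α, α ^ 2 ≠ 1 ∧ χ = R α) ∨
      (∃ θ, θ ^ 2 ≠ 1 ∧ χ = P θ) ∨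
      (∃ α, α ^ 2 = 1 ∧ α ≠ 1 ∧ Cfsg.classInner (R α) χ ≠ 0) ∨
      (∃ θ, θ ^ 2 = 1 ∧ θ ≠ 1 ∧ Cfsg.classInner (P θ) χ ≠ 0) := by
  have hreg := D.reg hχ
  obtain ⟨n, hn0, hn1⟩ := irr_one hχ
  have hex : (∃ α, Cfsg.classInner (R α) χ ≠ 0) ∨ (∃ θ, Cfsg.classInner (P θ) χ ≠ 0) := by
    by_contra hcon
    push Not at hcon
    rw [Finset.sum_eq_zero (fun α _ => hcon.1 α), Finset.sum_eq_zero (fun θ _ => hcon.2 θ),
      hn1] at hreg
    simp at hreg
    exact hn0 hreg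
  rcases hex with ⟨α, hα⟩ | ⟨θ, hθ⟩
  · by_cases h2 : α ^ 2 = 1
    · by_cases h1 : α = 1
      · subst h1
        rw [D.inner_R1 hχ] at hα
        by_cases h3 : (fun _ : G => (1 : ℂ)) = χ
        · left; exact h3.symm
        · by_cases h4 : (R 1 - fun _ => (1 : ℂ)) = χ
          · right; left; exact h4.symm
          · rw [if_neg h3, if_neg h4] at hα
            simp at hα
      · right; right; right; right; left
        exact ⟨α, h2, h1, hα⟩
    · right; right; left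
      refine ⟨α, h2, ?_⟩
      rw [classInner_irr (D.R_irr α h2) hχ] at hα
      by_contra h3
      rw [if_neg (fun h => h3 h.symm)] at hα
      exact hα rfl
  · by_cases h2 : θ ^ 2 = 1
    · by_cases h1 : θ = 1
      · subst h1
        rw [D.inner_P1 hχ] at hθ
        by_cases h3 : (fun _ : G => (1 : ℂ)) = χ
        · left; exact h3.symm
        · by_cases h4 : (R 1 - fun _ => (1 : ℂ)) = χ
          · right; left; exact h4.symm
          · rw [if_neg h3, if_neg h4] at hθ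
            simp at hθ
      · right; right; right; right; right
        exact ⟨θ, h2, h1, hθ⟩
    · right; right; right; left
      refine ⟨θ, h2, ?_⟩
      rw [classInner_irr (D.P_irr θ h2) hχ] at hθ
      by_contra h3
      rw [if_neg (fun h => h3 h.symm)] at hθ
      exact hθ rfl

/-- Sign bookkeeping. -/
theorem sign_aux (x y w : ℂ) (hx : x = 1 ∨ x = -1) (hy : y = 1 ∨ y = -1) (hw : w = 1 ∨ w = -1)
    (hxy : x * y = -1) (hxw : ¬ (x * conj w ≠ 1)) : y * conj w ≠ 1 := by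
  push Not at hxw
  rcases hx with rfl | rfl <;> rcases hy with rfl | rfl <;> rcases hw with rfl | rfl <;>
    first
    | (exfalso; norm_num at hxy; done)
    | (exfalso; simp at hxw; done)
    | (exfalso; simp at hxw; norm_num at hxw; done)
    | (simp; done)
    | (simp; norm_num; done)

theorem half_R_deg (D : DLData q z R P a t) (α : A) (hα : α ^ 2 = 1) (hα1 : α ≠ 1)
    {ξ : G → ℂ} (hξ : Cfsg.IsIrrCharacter G ξ) (h1 : Cfsg.classInner (R α) ξ = 1) :
    ξ 1 = ((q : ℂ) + 1) / 2 := by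
  have hne : Cfsg.classInner (R α) ξ ≠ 0 := by rw [h1]; exact one_ne_zero
  have hαinv : α⁻¹ = α := ((commGroup_sq_eq_one_iff α).1 hα).symm
  have horth : ∀ β, β ≠ α → Cfsg.classInner (R β) ξ = 0 := by
    intro β hβ
    apply char_inner_zero_of_orth (D.Rchar β) (D.Rchar α) hξ _ hne
    rw [D.RR, hαinv, if_neg hβ, add_zero]
  have hsumR : ∑ β, Cfsg.classInner (R β) ξ = 1 := by
    rw [Finset.sum_eq_single α (fun β _ hβ => horth β hβ)
      (fun h => absurd (Finset.mem_univ _) h), h1]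
  have hξ1 : (fun _ : G => (1 : ℂ)) ≠ ξ := by
    intro h
    have h3 := horth 1 (fun h => hα1 h.symm)
    rw [← h, D.R1] at h3
    exact one_ne_zero h3
  obtain ⟨ω, hω, hξpar⟩ := irr_central_sign hξ z D.hz D.hzz
  have hpar : ¬ (a α * conj ω ≠ 1) := by
    intro h
    exact hne (classInner_eq_zero_of_parity z (R α) ξ (a α) ω (D.Rpar α) hξpar h)
  have hsumP : ∑ θ, Cfsg.classInner (P θ) ξ = 0 := by
    apply Finset.sum_eq_zero
    intro θ _
    by_cases hθ2 : θ ^ 2 = 1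
    · by_cases hθ1 : θ = 1
      · subst hθ1
        rw [D.P_one_eq, classInner_sub_left, classInner_smul_left, horth 1 (fun h => hα1 h.symm),
          classInner_irr (isIrrCharacter_one G) hξ, if_neg hξ1]
        ring
      · exact classInner_eq_zero_of_parity z (P θ) ξ (t θ) ω (D.Ppar θ) hξpar
          (sign_aux _ _ _ (D.apm α) (D.tpm θ) hω (D.sign α θ hα hα1 hθ2 hθ1) hpar)
    · rw [classInner_irr (D.P_irr θ hθ2) hξ, if_neg]
      intro h
      rw [← h, D.RP] at h1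
      exact zero_ne_one h1
  rw [D.reg hξ, hsumR, hsumP]
  ring

/-- Constituents of `R α` for `α` of order two. -/
theorem half_R (D : DLData q z R P a t) (α : A) (hα : α ^ 2 = 1) (hα1 : α ≠ 1)
    {χ : G → ℂ} (hχ : Cfsg.IsIrrCharacter G χ) (hne : Cfsg.classInner (R α) χ ≠ 0) :
    χ 1 = ((q : ℂ) + 1) / 2 ∧ ∃ χ' : G → ℂ, Cfsg.IsIrrCharacter G χ' ∧ χ' ≠ χ ∧
      R α = χ + χ' ∧ χ' 1 = ((q : ℂ) + 1) / 2 := by
  have hαinv : α = α⁻¹ := (commGroup_sq_eq_one_iff α).1 hα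
  have h2 : Cfsg.classInner (R α) (R α) = 2 := by
    rw [D.RR, if_pos rfl, if_pos hαinv]
    norm_num
  obtain ⟨χa, χb, hab, hdec⟩ := char_norm_two (D.Rchar α) h2
  have hab' : (χa : G → ℂ) ≠ (χb : G → ℂ) := fun h => hab (Subtype.ext h)
  have ha1 : Cfsg.classInner (R α) (χa : G → ℂ) = 1 := by
    rw [hdec, classInner_add_left, classInner_irr_self χa.2, classInner_irr χb.2 χa.2,
      if_neg (fun h => hab' h.symm), add_zero]
  have hb1 : Cfsg.classInner (R α) (χb : G → ℂ) = 1 := by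
    rw [hdec, classInner_add_left, classInner_irr_self χb.2, classInner_irr χa.2 χb.2,
      if_neg hab', zero_add]
  have hda := D.half_R_deg α hα hα1 χa.2 ha1
  have hdb := D.half_R_deg α hα hα1 χb.2 hb1
  rw [hdec, classInner_add_left, classInner_irr χa.2 hχ, classInner_irr χb.2 hχ] at hne
  by_cases h3 : (χa : G → ℂ) = χ
  · rw [← h3]
    exact ⟨hda, χb, χb.2, fun h => hab' h.symm, hdec, hdb⟩
  · by_cases h4 : (χb : G → ℂ) = χ
    · rw [← h4]
      exact ⟨hdb, χa, χa.2, hab', by rw [hdec, add_comm], hda⟩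
    · rw [if_neg h3, if_neg h4] at hne
      simp at hne

theorem half_P_deg (D : DLData q z R P a t) (θ : T) (hθ : θ ^ 2 = 1) (hθ1 : θ ≠ 1)
    {ξ : G → ℂ} (hξ : Cfsg.IsIrrCharacter G ξ) (hne : Cfsg.classInner (P θ) ξ ≠ 0) :
    ξ 1 = ((q : ℂ) - 1) / 2 * Cfsg.classInner (P θ) ξ := by
  have hθinv : θ⁻¹ = θ := ((commGroup_sq_eq_one_iff θ).1 hθ).symm
  have hP1 : Cfsg.classInner (P θ) (fun _ : G => (1 : ℂ)) = 0 := by
    have h1 := D.PP θ 1
    rw [if_neg hθ1, if_neg (by rw [inv_one]; exact hθ1), add_zero, D.P_one_eq,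
      classInner_sub_right, classInner_smul_right, D.PR] at h1
    have h2 : conj (2 : ℂ) ≠ 0 := by
      rw [Complex.conj_ofNat]; norm_num
    rcases mul_eq_zero.mp (neg_eq_zero.mp (by rw [← h1]; ring :
      -(conj (2 : ℂ) * Cfsg.classInner (P θ) (fun _ : G => (1 : ℂ))) = 0)) with h3 | h3
    · exact absurd h3 h2
    · exact h3
  have hPSt : Cfsg.classInner (P θ) (R 1 - fun _ => (1 : ℂ)) = 0 := by
    rw [classInner_sub_right, D.PR, hP1, sub_zero]
  have hξ1 : (fun _ : G => (1 : ℂ)) ≠ ξ := by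
    intro h
    rw [← h, hP1] at hne
    exact hne rfl
  have hξSt : (R 1 - fun _ => (1 : ℂ)) ≠ ξ := by
    intro h
    rw [← h, hPSt] at hne
    exact hne rfl
  obtain ⟨ω, hω, hξpar⟩ := irr_central_sign hξ z D.hz D.hzz
  have hpar : ¬ (t θ * conj ω ≠ 1) := by
    intro h
    exact hne (classInner_eq_zero_of_parity z (P θ) ξ (t θ) ω (D.Ppar θ) hξpar h)
  have hsumR : ∑ α, Cfsg.classInner (R α) ξ = 0 := by
    apply Finset.sum_eq_zero
    intro α _
    by_cases hα2 : α ^ 2 = 1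
    · by_cases hα1 : α = 1
      · subst hα1
        rw [D.inner_R1 hξ, if_neg hξ1, if_neg hξSt, add_zero]
      · exact classInner_eq_zero_of_parity z (R α) ξ (a α) ω (D.Rpar α) hξpar
          (sign_aux _ _ _ (D.tpm θ) (D.apm α) hω
            (by rw [mul_comm]; exact D.sign α θ hα2 hα1 hθ hθ1) hpar)
    · rw [classInner_irr (D.R_irr α hα2) hξ, if_neg]
      intro h
      rw [← h, D.PR] at hne
      exact hne rfl
  have hsumP : ∑ θ', Cfsg.classInner (P θ') ξ = Cfsg.classInner (P θ) ξ := by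
    apply Finset.sum_eq_single θ
    · intro θ' _ hθ'
      by_cases hθ'2 : θ' ^ 2 = 1
      · by_cases hθ'1 : θ' = 1
        · subst hθ'1
          rw [D.inner_P1 hξ, if_neg hξ1, if_neg hξSt, sub_zero]
        · exact absurd (D.uniqT θ' θ hθ'2 hθ'1 hθ hθ1) hθ'
      · rw [classInner_irr (D.P_irr θ' hθ'2) hξ, if_neg]
        intro h
        rw [← h, D.PP, if_neg (fun h => hθ' h.symm), if_neg, add_zero] at hne
        · exact hne rfl
        · intro h5
          apply hθ'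
          rw [← hθinv, h5, inv_inv]
    · intro h
      exact absurd (Finset.mem_univ _) h
  rw [D.reg hξ, hsumR, hsumP]
  ring

/-- Constituents of `P θ` for `θ` of order two. -/
theorem half_P (D : DLData q z R P a t) (θ : T) (hθ : θ ^ 2 = 1) (hθ1 : θ ≠ 1)
    {χ : G → ℂ} (hχ : Cfsg.IsIrrCharacter G χ) (hne : Cfsg.classInner (P θ) χ ≠ 0) :
    χ 1 = ((q : ℂ) - 1) / 2 ∧ ∃ χ' : G → ℂ, Cfsg.IsIrrCharacter G χ' ∧ χ' ≠ χ ∧
      P θ = χ + χ' ∧ χ' 1 = ((q : ℂ) - 1) / 2 := by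
  have hθinv : θ = θ⁻¹ := (commGroup_sq_eq_one_iff θ).1 hθ
  have h2 : Cfsg.classInner (P θ) (P θ) = 2 := by
    rw [D.PP, if_pos rfl, if_pos hθinv]
    norm_num
  obtain ⟨χa, χb, hab, e₁, e₂, he1, he2, hdec⟩ := genChar_norm_two (D.Pgen θ) h2
  have hab' : (χa : G → ℂ) ≠ (χb : G → ℂ) := fun h => hab (Subtype.ext h)
  have ha1 : Cfsg.classInner (P θ) (χa : G → ℂ) = e₁ := by
    rw [hdec, classInner_add_left, classInner_smul_left, classInner_smul_left,
      classInner_irr_self χa.2, classInner_irr χb.2 χa.2, if_neg (fun h => hab' h.symm)]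
    ring
  have hb1 : Cfsg.classInner (P θ) (χb : G → ℂ) = e₂ := by
    rw [hdec, classInner_add_left, classInner_smul_left, classInner_smul_left,
      classInner_irr_self χb.2, classInner_irr χa.2 χb.2, if_neg hab']
    ring
  have hq := D.q_cast_pos
  have key : ∀ (ξ : Cfsg.IrrCharacter G) (e : ℤ), (e = 1 ∨ e = -1) →
      Cfsg.classInner (P θ) (ξ : G → ℂ) = e → e = 1 ∧ (ξ : G → ℂ) 1 = ((q : ℂ) - 1) / 2 := by
    intro ξ e he hin
    have hne' : Cfsg.classInner (P θ) (ξ : G → ℂ) ≠ 0 := by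
      rw [hin]
      rcases he with rfl | rfl <;> norm_num
    have hdeg := D.half_P_deg θ hθ hθ1 ξ.2 hne'
    rw [hin] at hdeg
    obtain ⟨n, hn0, hn1⟩ := irr_one ξ.2
    rcases he with rfl | rfl
    · refine ⟨rfl, ?_⟩
      rw [hdeg]; simp
    · exfalso
      rw [hn1] at hdeg
      have h5 : (n : ℝ) = ((q : ℝ) - 1) / 2 * (-1) := by
        have := congrArg Complex.re hdeg
        simpa using this
      have h6 : (0 : ℝ) ≤ n := Nat.cast_nonneg n
      linarith
  obtain ⟨rfl, hda⟩ := key χa e₁ he1 ha1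
  obtain ⟨rfl, hdb⟩ := key χb e₂ he2 hb1
  have hdec' : P θ = (χa : G → ℂ) + (χb : G → ℂ) := by
    rw [hdec]; simp
  rw [hdec', classInner_add_left, classInner_irr χa.2 hχ, classInner_irr χb.2 hχ] at hne
  by_cases h3 : (χa : G → ℂ) = χ
  · rw [← h3]
    exact ⟨hda, χb, χb.2, fun h => hab' h.symm, hdec', hdb⟩
  · by_cases h4 : (χb : G → ℂ) = χ
    · rw [← h4]
      exact ⟨hdb, χa, χa.2, hab', by rw [hdec', add_comm], hda⟩
    · rw [if_neg h3, if_neg h4] at hne
      simp at hne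

end DLData

end skeleton

end Cfsg.Agent.Lib.Helper4
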