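import Mathlib
import Cfsg.Prelude.Def_Characters
import Cfsg.Agent.Lib.Helper4.SL2CharC
import Cfsg.Agent.Lib.Helper4.SL2CharSkel

set_option autoImplicit false

namespace Cfsg.Agent.Lib.Helper4

open scoped ComplexConjugate

variable {F : Type*} [Field F] [Fintype F] [DecidableEq F]

/-- The class function `Ψ_ω` (odd characteristic): supported on the elements of trace `±2`. -/
noncomputable def sl2Psi (ω : ℂ) : Matrix.SpecialLinearGroup (Fin 2) F → ℂ := fun g =>
  ((Fintype.card F : ℂ) ^ 2 * (if g = 1 then 1 else 0) -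
    (if Matrix.trace (g : Matrix (Fin 2) (Fin 2) F) = 2 then 1 else 0)) +
  ω * ((Fintype.card F : ℂ) ^ 2 * (if g = sl2PM false 0 then 1 else 0) -
    (if Matrix.trace (g : Matrix (Fin 2) (Fin 2) F) = -2 then 1 else 0))

omit [Fintype F] [DecidableEq F] in
theorem two_ne_neg_two (h2 : (2 : F) ≠ 0) : (2 : F) ≠ -2 := by
  intro h
  have h4 : (2 : F) * 2 = 0 := by linear_combination h
  rcases mul_eq_zero.mp h4 with h | h <;> exact h2 h

omit [Fintype F] [DecidableEq F] in
theorem sl2_trace_one : Matrix.trace ((1 : Matrix.SpecialLinearGroup (Fin 2) F) :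
    Matrix (Fin 2) (Fin 2) F) = 2 := by
  rw [Matrix.trace_fin_two]
  simp
  norm_num

omit [Fintype F] [DecidableEq F] in
theorem sl2_trace_neg_one : Matrix.trace ((sl2PM false (0 : F) :
    Matrix.SpecialLinearGroup (Fin 2) F) : Matrix (Fin 2) (Fin 2) F) = -2 := by
  rw [sl2PM_val, Matrix.trace_fin_two]
  simp
  norm_num

theorem sl2Psi_one (h2 : (2 : F) ≠ 0) (ω : ℂ) :
    sl2Psi ω (1 : Matrix.SpecialLinearGroup (Fin 2) F) = (Fintype.card F : ℂ) ^ 2 - 1 := by
  unfold sl2Psi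
  rw [if_pos rfl, if_pos sl2_trace_one, if_neg (fun h => sl2PM_false_ne_one h2 h.symm),
    if_neg (by rw [sl2_trace_one]; exact two_ne_neg_two h2)]
  ring

theorem sl2Psi_neg_one (h2 : (2 : F) ≠ 0) (ω : ℂ) :
    sl2Psi ω (sl2PM false (0 : F)) = ω * ((Fintype.card F : ℂ) ^ 2 - 1) := by
  unfold sl2Psi
  rw [if_neg (sl2PM_false_ne_one h2), if_pos rfl, if_pos sl2_trace_neg_one,
    if_neg (by rw [sl2_trace_neg_one]; exact fun h => two_ne_neg_two h2 h.symm)]
  ring

theorem sl2Psi_trace_two (h2 : (2 : F) ≠ 0) (ω : ℂ) (g : Matrix.SpecialLinearGroup (Fin 2) F)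
    (hg : g ≠ 1) (ht : Matrix.trace (g : Matrix (Fin 2) (Fin 2) F) = 2) : sl2Psi ω g = -1 := by
  unfold sl2Psi
  rw [if_neg hg, if_pos ht, if_neg, if_neg (by rw [ht]; exact two_ne_neg_two h2)]
  · ring
  · intro h
    rw [h, sl2_trace_neg_one] at ht
    exact two_ne_neg_two h2 ht.symm

theorem sl2Psi_trace_neg_two (h2 : (2 : F) ≠ 0) (ω : ℂ)
    (g : Matrix.SpecialLinearGroup (Fin 2) F)
    (hg : g ≠ sl2PM false 0) (ht : Matrix.trace (g : Matrix (Fin 2) (Fin 2) F) = -2) :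
    sl2Psi ω g = -ω := by
  unfold sl2Psi
  rw [if_neg hg, if_pos ht, if_neg, if_neg (by rw [ht]; exact fun h => two_ne_neg_two h2 h.symm)]
  · ring
  · intro h
    rw [h, sl2_trace_one] at ht
    exact two_ne_neg_two h2 ht

theorem sl2Psi_of_sq_ne_four (ω : ℂ) (g : Matrix.SpecialLinearGroup (Fin 2) F)
    (ht : (Matrix.trace (g : Matrix (Fin 2) (Fin 2) F)) ^ 2 ≠ 4) : sl2Psi ω g = 0 := by
  unfold sl2Psi
  have h1 : Matrix.trace (g : Matrix (Fin 2) (Fin 2) F) ≠ 2 := by
    intro h; apply ht; rw [h]; norm_num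
  have h2 : Matrix.trace (g : Matrix (Fin 2) (Fin 2) F) ≠ -2 := by
    intro h; apply ht; rw [h]; norm_num
  rw [if_neg, if_neg h1, if_neg, if_neg h2]
  · ring
  · intro h
    rw [h, sl2_trace_neg_one] at h2
    exact h2 rfl
  · intro h
    rw [h, sl2_trace_one] at h1
    exact h1 rfl

theorem sl2Psi_classFun (ω : ℂ) :
    Cfsg.IsClassFunction (Matrix.SpecialLinearGroup (Fin 2) F) (sl2Psi ω) := by
  intro g h
  unfold sl2Psi
  have e1 : (h * g * h⁻¹ = 1) ↔ (g = 1) := by
    constructor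
    · intro hh
      have : g = h⁻¹ * (h * g * h⁻¹) * h := by group
      rw [this, hh]; group
    · rintro rfl; group
  have e2 : (h * g * h⁻¹ = sl2PM false 0) ↔ (g = sl2PM false 0) := by
    constructor
    · intro hh
      have : g = h⁻¹ * (h * g * h⁻¹) * h := by group
      rw [this, hh, mul_assoc, ← Subgroup.mem_center_iff.mp sl2PM_false_mem_center h,
        inv_mul_cancel_left]
    · rintro rfl
      rw [Subgroup.mem_center_iff.mp sl2PM_false_mem_center h, mul_inv_cancel_right]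
  have e3 : Matrix.trace ((h * g * h⁻¹ : Matrix.SpecialLinearGroup (Fin 2) F) :
      Matrix (Fin 2) (Fin 2) F) = Matrix.trace (g : Matrix (Fin 2) (Fin 2) F) :=
    (sl2_conj_trace (isConj_iff.mpr ⟨h, rfl⟩)).symm
  simp only [e1, e2, e3]

theorem sl2Psi_central_mul (ω : ℂ) (hω : ω * ω = 1) (g : Matrix.SpecialLinearGroup (Fin 2) F) :
    sl2Psi ω (sl2PM false 0 * g) = ω * sl2Psi ω g := by
  unfold sl2Psi
  have e1 : (sl2PM false (0 : F) * g = 1) ↔ (g = sl2PM false 0) := by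
    constructor
    · intro h
      have : g = sl2PM false 0 * (sl2PM false 0 * g) := by
        rw [← mul_assoc, sl2PM_false_mul_self, one_mul]
      rw [this, h, mul_one]
    · rintro rfl
      exact sl2PM_false_mul_self
  have e2 : (sl2PM false (0 : F) * g = sl2PM false 0) ↔ (g = 1) := by
    constructor
    · intro h
      exact mul_left_cancel (h.trans (mul_one _).symm)
    · rintro rfl
      exact mul_one _
  have e3 : (Matrix.trace ((sl2PM false (0 : F) * g : Matrix.SpecialLinearGroup (Fin 2) F) :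
      Matrix (Fin 2) (Fin 2) F) = 2) ↔ (Matrix.trace (g : Matrix (Fin 2) (Fin 2) F) = -2) := by
    rw [sl2_trace_neg]
    constructor
    · intro h; linear_combination -h
    · intro h; linear_combination -h
  have e4 : (Matrix.trace ((sl2PM false (0 : F) * g : Matrix.SpecialLinearGroup (Fin 2) F) :
      Matrix (Fin 2) (Fin 2) F) = -2) ↔ (Matrix.trace (g : Matrix (Fin 2) (Fin 2) F) = 2) := by
    rw [sl2_trace_neg]
    constructor
    · intro h; linear_combination -h
    · intro h; linear_combination -h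
  simp only [e1, e2, e3, e4]
  linear_combination (-((Fintype.card F : ℂ) ^ 2 * (if g = sl2PM false 0 then 1 else 0) -
    (if Matrix.trace (g : Matrix (Fin 2) (Fin 2) F) = -2 then 1 else 0))) * hω

omit [Fintype F] [DecidableEq F] in
theorem sl2_nonscalar_of_ne (g : Matrix.SpecialLinearGroup (Fin 2) F) (h1 : g ≠ 1)
    (hz : g ≠ sl2PM false 0) :
    ¬ ((g : Matrix (Fin 2) (Fin 2) F) 0 1 = 0 ∧ (g : Matrix (Fin 2) (Fin 2) F) 1 0 = 0 ∧
      (g : Matrix (Fin 2) (Fin 2) F) 0 0 = (g : Matrix (Fin 2) (Fin 2) F) 1 1) := by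
  rw [← sl2_mem_center_iff_scalar, sl2_mem_center_iff]
  rintro (h | h)
  · exact h1 h
  · exact hz h

omit [Fintype F] [DecidableEq F] in
theorem sl2_sq_ne_four_of_ne (g : Matrix.SpecialLinearGroup (Fin 2) F)
    (h1 : Matrix.trace (g : Matrix (Fin 2) (Fin 2) F) ≠ 2)
    (h2 : Matrix.trace (g : Matrix (Fin 2) (Fin 2) F) ≠ -2) :
    (Matrix.trace (g : Matrix (Fin 2) (Fin 2) F)) ^ 2 ≠ 4 := by
  intro h
  have h3 : (Matrix.trace (g : Matrix (Fin 2) (Fin 2) F) - 2) *
      (Matrix.trace (g : Matrix (Fin 2) (Fin 2) F) + 2) = 0 := by linear_combination h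
  rcases mul_eq_zero.mp h3 with h4 | h4
  · exact h1 (sub_eq_zero.mp h4)
  · exact h2 (eq_neg_of_add_eq_zero_left h4)

/-- `Ψ` is a product of generalized characters. -/
theorem sl2Psi_eq_mul (h2 : (2 : F) ≠ 0) (α : MulChar F ℂ)
    (g : Matrix.SpecialLinearGroup (Fin 2) F) :
    sl2Psi (α (-1)) g = (sl2R 1 g - 2) * sl2R α g := by
  have hone : (1 : MulChar F ℂ) (-1) = 1 := MulChar.one_apply isUnit_one.neg
  by_cases h1 : g = 1
  · subst h1
    rw [sl2Psi_one h2, sl2R_apply_one, sl2R_apply_one]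
    ring
  by_cases hz : g = sl2PM false 0
  · subst hz
    rw [sl2Psi_neg_one h2, sl2R_at_neg_one, sl2R_at_neg_one, hone]
    ring
  have hns := sl2_nonscalar_of_ne g h1 hz
  by_cases ht2 : Matrix.trace (g : Matrix (Fin 2) (Fin 2) F) = 2
  · rw [sl2Psi_trace_two h2 _ g h1 ht2, sl2R_trace_two 1 g hns ht2, sl2R_trace_two α g hns ht2]
    ring
  by_cases htm : Matrix.trace (g : Matrix (Fin 2) (Fin 2) F) = -2
  · rw [sl2Psi_trace_neg_two h2 _ g hz htm, sl2R_trace_neg_two 1 g hns htm,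
      sl2R_trace_neg_two α g hns htm, hone]
    ring
  have ht := sl2_sq_ne_four_of_ne g ht2 htm
  rw [sl2Psi_of_sq_ne_four _ g ht]
  by_cases hr : ∃ a : F, a ^ 2 - Matrix.trace (g : Matrix (Fin 2) (Fin 2) F) * a + 1 = 0
  · obtain ⟨a, ha⟩ := hr
    have ha0 : a ≠ 0 := by
      rintro rfl
      simp at ha
    rw [sl2R_split 1 g ht a ha, MulChar.one_apply (isUnit_iff_ne_zero.mpr ha0),
      MulChar.one_apply (isUnit_iff_ne_zero.mpr (inv_ne_zero ha0))]
    ring
  · push Not at hr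
    rw [sl2R_no_root α g hr]
    ring

theorem card_trace_two_fiber : (Finset.univ.filter (fun g : Matrix.SpecialLinearGroup (Fin 2) F =>
    Matrix.trace (g : Matrix (Fin 2) (Fin 2) F) = 2)).card = Fintype.card F ^ 2 := by
  have h := card_trace_fiber (F := F) 2
  rw [Nat.card_eq_fintype_card, Fintype.card_subtype] at h
  rw [h]
  have h1 : Nat.card {a : F // a ^ 2 - 2 * a + 1 = 0} = 1 := by
    rw [Nat.card_eq_one_iff_unique]
    constructor
    · constructor
      rintro ⟨a, ha⟩ ⟨b, hb⟩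
      apply Subtype.ext
      show a = b
      have ha' : (a - 1) ^ 2 = 0 := by linear_combination ha
      have hb' : (b - 1) ^ 2 = 0 := by linear_combination hb
      have ha1 := sub_eq_zero.mp (pow_eq_zero_iff (two_ne_zero) |>.mp ha')
      have hb1 := sub_eq_zero.mp (pow_eq_zero_iff (two_ne_zero) |>.mp hb')
      rw [ha1, hb1]
    · exact ⟨⟨1, by ring⟩⟩
  rw [h1]
  have hq : 1 ≤ Fintype.card F := Fintype.card_pos
  obtain ⟨k, hk⟩ : ∃ k, Fintype.card F = k + 1 := ⟨Fintype.card F - 1, by omega⟩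
  rw [hk]
  simp
  ring

/-- Sum of a function over the elements of trace two. -/
theorem sum_trace_two (h : Matrix.SpecialLinearGroup (Fin 2) F → ℂ) (c : ℂ)
    (hc : ∀ g : Matrix.SpecialLinearGroup (Fin 2) F, g ≠ 1 →
      Matrix.trace (g : Matrix (Fin 2) (Fin 2) F) = 2 → h g = c) :
    ∑ g : Matrix.SpecialLinearGroup (Fin 2) F,
      (if Matrix.trace (g : Matrix (Fin 2) (Fin 2) F) = 2 then h g else 0) =
      h 1 + ((Fintype.card F : ℂ) ^ 2 - 1) * c := by
  rw [← Finset.sum_filter]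
  have h1mem : (1 : Matrix.SpecialLinearGroup (Fin 2) F) ∈ Finset.univ.filter
      (fun g : Matrix.SpecialLinearGroup (Fin 2) F =>
        Matrix.trace (g : Matrix (Fin 2) (Fin 2) F) = 2) := by
    simp only [Finset.mem_filter, Finset.mem_univ, true_and]
    exact sl2_trace_one
  rw [← Finset.add_sum_erase _ _ h1mem]
  congr 1
  rw [Finset.sum_congr rfl (fun g hg => hc g (Finset.ne_of_mem_erase hg)
    (Finset.mem_filter.mp (Finset.mem_of_mem_erase hg)).2), Finset.sum_const,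
    Finset.card_erase_of_mem h1mem, card_trace_two_fiber, nsmul_eq_mul]
  have hq : 1 ≤ Fintype.card F ^ 2 := Nat.one_le_pow _ _ Fintype.card_pos
  push_cast [Nat.cast_sub hq]
  ring

/-- Sum of a function over the elements of trace minus two. -/
theorem sum_trace_neg_two (h : Matrix.SpecialLinearGroup (Fin 2) F → ℂ) (c : ℂ)
    (hc : ∀ g : Matrix.SpecialLinearGroup (Fin 2) F, g ≠ sl2PM false 0 →
      Matrix.trace (g : Matrix (Fin 2) (Fin 2) F) = -2 → h g = c) :
    ∑ g : Matrix.SpecialLinearGroup (Fin 2) F,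
      (if Matrix.trace (g : Matrix (Fin 2) (Fin 2) F) = -2 then h g else 0) =
      h (sl2PM false 0) + ((Fintype.card F : ℂ) ^ 2 - 1) * c := by
  rw [← Equiv.sum_comp (Equiv.mulLeft (sl2PM false (0 : F)))]
  have e : ∀ g : Matrix.SpecialLinearGroup (Fin 2) F,
      (if Matrix.trace ((Equiv.mulLeft (sl2PM false (0 : F)) g :
        Matrix.SpecialLinearGroup (Fin 2) F) : Matrix (Fin 2) (Fin 2) F) = -2
        then h (Equiv.mulLeft (sl2PM false (0 : F)) g) else 0) =
      (if Matrix.trace (g : Matrix (Fin 2) (Fin 2) F) = 2 then h (sl2PM false 0 * g) else 0) := by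
    intro g
    have e3 : (Matrix.trace ((sl2PM false (0 : F) * g : Matrix.SpecialLinearGroup (Fin 2) F) :
        Matrix (Fin 2) (Fin 2) F) = -2) ↔ (Matrix.trace (g : Matrix (Fin 2) (Fin 2) F) = 2) := by
      rw [sl2_trace_neg]
      constructor
      · intro h; linear_combination -h
      · intro h; linear_combination -h
    show (if Matrix.trace ((sl2PM false (0 : F) * g : Matrix.SpecialLinearGroup (Fin 2) F) :
        Matrix (Fin 2) (Fin 2) F) = -2 then h (sl2PM false 0 * g) else 0) = _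
    simp only [e3]
  simp_rw [e]
  rw [sum_trace_two (fun g => h (sl2PM false 0 * g)) c, mul_one]
  intro g hg ht
  apply hc
  · intro h'
    exact hg (mul_left_cancel (h'.trans (mul_one _).symm))
  · rw [sl2_trace_neg, ht]

/-- Sum of `Ψ` against a function constant on the non-central elements of trace `±2`. -/
theorem sum_sl2Psi_mul (ω : ℂ) (h : Matrix.SpecialLinearGroup (Fin 2) F → ℂ) (c₁ c₂ : ℂ)
    (hc₁ : ∀ g : Matrix.SpecialLinearGroup (Fin 2) F, g ≠ 1 →
      Matrix.trace (g : Matrix (Fin 2) (Fin 2) F) = 2 → h g = c₁)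
    (hc₂ : ∀ g : Matrix.SpecialLinearGroup (Fin 2) F, g ≠ sl2PM false 0 →
      Matrix.trace (g : Matrix (Fin 2) (Fin 2) F) = -2 → h g = c₂) :
    ∑ g : Matrix.SpecialLinearGroup (Fin 2) F, sl2Psi ω g * h g =
      ((Fintype.card F : ℂ) ^ 2 - 1) * (h 1 - c₁) +
        ω * ((Fintype.card F : ℂ) ^ 2 - 1) * (h (sl2PM false 0) - c₂) := by
  have e : ∀ g : Matrix.SpecialLinearGroup (Fin 2) F, sl2Psi ω g * h g =
      ((Fintype.card F : ℂ) ^ 2 * (if g = 1 then h g else 0) -
        (if Matrix.trace (g : Matrix (Fin 2) (Fin 2) F) = 2 then h g else 0)) +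
      ω * ((Fintype.card F : ℂ) ^ 2 * (if g = sl2PM false 0 then h g else 0) -
        (if Matrix.trace (g : Matrix (Fin 2) (Fin 2) F) = -2 then h g else 0)) := by
    intro g
    unfold sl2Psi
    split_ifs <;> ring
  simp_rw [e]
  rw [Finset.sum_add_distrib, Finset.sum_sub_distrib, ← Finset.mul_sum, ← Finset.mul_sum,
    Finset.sum_sub_distrib, ← Finset.mul_sum, Finset.sum_ite_eq', Finset.sum_ite_eq',
    if_pos (Finset.mem_univ _), if_pos (Finset.mem_univ _), sum_trace_two h c₁ hc₁,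
    sum_trace_neg_two h c₂ hc₂]
  ring

omit [DecidableEq F] in
theorem sl2_card_sub_one_ne_zero : ((Fintype.card F : ℂ) - 1) ≠ 0 := by
  have h : 1 < Fintype.card F := Fintype.one_lt_card
  have h2 : ((Fintype.card F : ℕ) : ℂ) ≠ ((1 : ℕ) : ℂ) := by
    intro h3
    have := Nat.cast_injective h3
    omega
  intro h3
  apply h2
  push_cast
  linear_combination h3

omit [DecidableEq F] in
theorem sl2_card_ne_zero : (Fintype.card F : ℂ) ≠ 0 := by
  exact_mod_cast Fintype.card_ne_zero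

theorem classInner_sl2Psi_sl2Psi (h2 : (2 : F) ≠ 0) (ω ω' : ℂ) :
    Cfsg.classInner (sl2Psi (F := F) ω) (sl2Psi ω') =
      (Fintype.card F : ℂ) * (1 + ω * conj ω') := by
  unfold Cfsg.classInner
  rw [sum_sl2Psi_mul ω (fun g => conj (sl2Psi ω' g)) (conj (-1)) (conj (-ω'))
    (fun g hg ht => by rw [sl2Psi_trace_two h2 ω' g hg ht])
    (fun g hg ht => by rw [sl2Psi_trace_neg_two h2 ω' g hg ht]),
    sl2Psi_one h2, sl2Psi_neg_one h2, sl2_card_cast]
  simp only [map_sub, map_mul, map_pow, map_neg, map_one, Complex.conj_natCast]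
  field_simp [sl2_card_ne_zero (F := F), sl2_card_sub_one_ne_zero (F := F),
    sl2_card_add_one_ne_zero (F := F)]
  ring

theorem classInner_sl2Psi_sl2R (h2 : (2 : F) ≠ 0) (ω : ℂ) (α : MulChar F ℂ) :
    Cfsg.classInner (sl2Psi (F := F) ω) (sl2R α) = 1 + ω * conj (α (-1)) := by
  unfold Cfsg.classInner
  rw [sum_sl2Psi_mul ω (fun g => conj (sl2R α g)) (conj 1) (conj (α (-1)))
    (fun g hg ht => by
      have hz : g ≠ sl2PM false 0 := by
        intro h
        rw [h, sl2_trace_neg_one] at ht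
        exact two_ne_neg_two h2 ht.symm
      rw [sl2R_trace_two α g (sl2_nonscalar_of_ne g hg hz) ht])
    (fun g hg ht => by
      have h1 : g ≠ 1 := by
        intro h
        rw [h, sl2_trace_one] at ht
        exact two_ne_neg_two h2 ht
      rw [sl2R_trace_neg_two α g (sl2_nonscalar_of_ne g h1 hg) ht]),
    sl2R_apply_one, sl2R_at_neg_one, sl2_card_cast]
  simp only [map_add, map_mul, map_one, Complex.conj_natCast]
  field_simp [sl2_card_ne_zero (F := F), sl2_card_sub_one_ne_zero (F := F),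
    sl2_card_add_one_ne_zero (F := F)]
  ring

theorem classInner_sl2Psi_one (ω : ℂ) :
    Cfsg.classInner (sl2Psi (F := F) ω) (fun _ => (1 : ℂ)) = 0 := by
  unfold Cfsg.classInner
  rw [sum_sl2Psi_mul ω (fun _ => conj (1 : ℂ)) (conj 1) (conj 1) (fun _ _ _ => rfl)
    (fun _ _ _ => rfl)]
  simp

section torus

variable (C : Subgroup (Matrix.SpecialLinearGroup (Fin 2) F)) (hC : IsCyclic C)
  (hcard : Nat.card C = Fintype.card F + 1)

include hC hcard in
theorem sl2_neg_one_mem_torus : sl2PM false (0 : F) ∈ C := by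
  obtain ⟨c₀, -, -, -, hcent⟩ := sl2_torus_gen C hC hcard
  rw [hcent, sl2_mem_centralizer_singleton]
  exact (Subgroup.mem_center_iff.mp sl2PM_false_mem_center c₀).symm

include hC hcard in
theorem sl2_torus_no_root (c : C) (h1 : c ≠ 1)
    (hz : (c : Matrix.SpecialLinearGroup (Fin 2) F) ≠ sl2PM false 0) :
    ∀ a : F, a ^ 2 - Matrix.trace ((c : Matrix.SpecialLinearGroup (Fin 2) F) :
      Matrix (Fin 2) (Fin 2) F) * a + 1 ≠ 0 := by
  have h1' : (c : Matrix.SpecialLinearGroup (Fin 2) F) ≠ 1 := by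
    intro h
    exact h1 (Subtype.ext h)
  exact (sl2_torus_elt C hC hcard _ c.2 (sl2_nonscalar_of_ne _ h1' hz)).1

include hC hcard in
theorem sl2Psi_restrict (h2 : (2 : F) ≠ 0) (hz : sl2PM false (0 : F) ∈ C) (ω : ℂ) (c : C) :
    sl2Psi ω (c : Matrix.SpecialLinearGroup (Fin 2) F) =
      (if c = 1 then (Fintype.card F : ℂ) ^ 2 - 1 else 0) +
      (if c = ⟨sl2PM false 0, hz⟩ then ω * ((Fintype.card F : ℂ) ^ 2 - 1) else 0) := by
  by_cases h1 : c = 1
  · subst h1
    rw [if_pos rfl, if_neg, add_zero]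
    · exact sl2Psi_one h2 ω
    · intro h
      exact sl2PM_false_ne_one h2 (congrArg Subtype.val h).symm
  by_cases hzc : c = ⟨sl2PM false 0, hz⟩
  · subst hzc
    rw [if_neg h1, if_pos rfl, zero_add]
    exact sl2Psi_neg_one h2 ω
  · rw [if_neg h1, if_neg hzc, add_zero]
    have hz' : (c : Matrix.SpecialLinearGroup (Fin 2) F) ≠ sl2PM false 0 :=
      fun h => hzc (Subtype.ext h)
    exact sl2Psi_of_sq_ne_four ω _ (sq_ne_four_of_no_root _ (sl2_torus_no_root C hC hcard c h1 hz'))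

include hC hcard in
theorem sl2R_restrict (h2 : (2 : F) ≠ 0) (hz : sl2PM false (0 : F) ∈ C) (α : MulChar F ℂ)
    (c : C) :
    sl2R α (c : Matrix.SpecialLinearGroup (Fin 2) F) =
      (if c = 1 then (Fintype.card F : ℂ) + 1 else 0) +
      (if c = ⟨sl2PM false 0, hz⟩ then ((Fintype.card F : ℂ) + 1) * α (-1) else 0) := by
  by_cases h1 : c = 1
  · subst h1
    rw [if_pos rfl, if_neg, add_zero]
    · exact sl2R_apply_one α
    · intro h
      exact sl2PM_false_ne_one h2 (congrArg Subtype.val h).symm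
  by_cases hzc : c = ⟨sl2PM false 0, hz⟩
  · subst hzc
    rw [if_neg h1, if_pos rfl, zero_add]
    exact sl2R_at_neg_one α
  · rw [if_neg h1, if_neg hzc, add_zero]
    have hz' : (c : Matrix.SpecialLinearGroup (Fin 2) F) ≠ sl2PM false 0 :=
      fun h => hzc (Subtype.ext h)
    exact sl2R_no_root α _ (sl2_torus_no_root C hC hcard c h1 hz')

include hC hcard in
theorem sl2IndC_restrict (h2 : (2 : F) ≠ 0) (hz : sl2PM false (0 : F) ∈ C) (θ : C → ℂ) (c : C) :
    Cfsg.indFun C θ (c : Matrix.SpecialLinearGroup (Fin 2) F) = θ c + θ c⁻¹ +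
      (if c = 1 then ((Fintype.card F : ℂ) * ((Fintype.card F : ℂ) - 1) - 2) * θ 1 else 0) +
      (if c = ⟨sl2PM false 0, hz⟩ then
        ((Fintype.card F : ℂ) * ((Fintype.card F : ℂ) - 1) - 2) * θ ⟨sl2PM false 0, hz⟩ else 0) := by
  by_cases h1 : c = 1
  · subst h1
    rw [if_pos rfl, if_neg, add_zero, sl2IndC_central C hcard θ 1 (by simp), inv_one]
    · ring
    · intro h
      exact sl2PM_false_ne_one h2 (congrArg Subtype.val h).symm
  by_cases hzc : c = ⟨sl2PM false 0, hz⟩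
  · subst hzc
    rw [if_neg h1, if_pos rfl, add_zero,
      sl2IndC_central C hcard θ _ sl2PM_false_mem_center]
    have e : (⟨sl2PM false 0, hz⟩ : C)⁻¹ = ⟨sl2PM false 0, hz⟩ := by
      apply Subtype.ext
      show (sl2PM false (0 : F))⁻¹ = sl2PM false 0
      exact inv_eq_of_mul_eq_one_left sl2PM_false_mul_self
    rw [e]
    ring
  · rw [if_neg h1, if_neg hzc, add_zero, add_zero]
    have hz' : (c : Matrix.SpecialLinearGroup (Fin 2) F) ≠ sl2PM false 0 :=
      fun h => hzc (Subtype.ext h)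
    have h1' : (c : Matrix.SpecialLinearGroup (Fin 2) F) ≠ 1 := fun h => h1 (Subtype.ext h)
    apply sl2IndC_noncentral C hC hcard θ c
    rw [sl2_mem_center_iff]
    rintro (h | h)
    · exact h1' h
    · exact hz' h

end torus

section hom

variable {H : Type*} [Group H] [Fintype H]

theorem hom_conj_eq_inv (θ : H →* ℂˣ) (c : H) :
    conj ((θ c : ℂˣ) : ℂ) = ((θ c⁻¹ : ℂˣ) : ℂ) := by
  have h1 : ((θ c : ℂˣ) : ℂ) ^ Fintype.card H = 1 := by
    rw [← Units.val_pow_eq_pow_val, ← map_pow, pow_card_eq_one, map_one, Units.val_one]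
  have h2 := Complex.norm_eq_one_of_pow_eq_one h1 Fintype.card_ne_zero
  rw [← Complex.inv_eq_conj h2, map_inv, Units.val_inv_eq_inv_val]

theorem sum_hom_mul_conj (θ θ' : H →* ℂˣ) [Decidable (θ = θ')] :
    ∑ c : H, ((θ c : ℂˣ) : ℂ) * conj ((θ' c : ℂˣ) : ℂ) =
      if θ = θ' then (Fintype.card H : ℂ) else 0 := by
  classical
  have e : ∀ c : H, ((θ c : ℂˣ) : ℂ) * conj ((θ' c : ℂˣ) : ℂ) =
      ((Units.coeHom ℂ).comp (θ * θ'⁻¹)) c := by
    intro c
    rw [hom_conj_eq_inv]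
    simp
  simp_rw [e]
  rw [sum_hom_units]
  have e2 : ((Units.coeHom ℂ).comp (θ * θ'⁻¹) = 1) ↔ (θ = θ') := by
    constructor
    · intro h
      have h3 : θ * θ'⁻¹ = 1 := by
        ext c
        have := congrArg (fun f : H →* ℂ => f c) h
        simpa using this
      exact mul_inv_eq_one.mp h3
    · rintro rfl
      ext c
      simp
  by_cases h : θ = θ'
  · rw [if_pos (e2.mpr h), if_pos h]
  · rw [if_neg (fun h' => h (e2.mp h')), if_neg h, Nat.cast_zero]

theorem sum_hom_mul_conj_inv (θ θ' : H →* ℂˣ) [Decidable (θ = θ'⁻¹)] :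
    ∑ c : H, ((θ c : ℂˣ) : ℂ) * conj ((θ' c⁻¹ : ℂˣ) : ℂ) =
      if θ = θ'⁻¹ then (Fintype.card H : ℂ) else 0 := by
  rw [← sum_hom_mul_conj θ θ'⁻¹]
  apply Finset.sum_congr rfl
  intro c _
  simp

theorem sum_two_point {X : Type*} [Fintype X] [DecidableEq X] (x₁ x₂ : X) (f : X → ℂ)
    (A B : ℂ) :
    ∑ c : X, f c * conj ((if c = x₁ then A else 0) + (if c = x₂ then B else 0)) =
      f x₁ * conj A + f x₂ * conj B := by
  simp only [map_add, apply_ite conj, map_zero, mul_add, mul_ite, mul_zero,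
    Finset.sum_add_distrib, Finset.sum_ite_eq', Finset.mem_univ, if_true]

end hom

section torus2

variable (C : Subgroup (Matrix.SpecialLinearGroup (Fin 2) F)) [Fintype C] (hC : IsCyclic C)
  (hcard : Nat.card C = Fintype.card F + 1)

include hC hcard in
theorem classInner_indC_sl2Psi (h2 : (2 : F) ≠ 0) (hz : sl2PM false (0 : F) ∈ C)
    (θ : C →* ℂˣ) (ω : ℂ) :
    Cfsg.classInner (Cfsg.indFun C (fun c => ((θ c : ℂˣ) : ℂ))) (sl2Psi ω) =
      ((Fintype.card F : ℂ) - 1) * (1 + ((θ ⟨sl2PM false 0, hz⟩ : ℂˣ) : ℂ) * conj ω) := by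
  rw [Lead.frobenius_reciprocity C _ _ (sl2Psi_classFun ω)]
  unfold Cfsg.classInner
  simp_rw [sl2Psi_restrict C hC hcard h2 hz ω]
  rw [sum_two_point, hcard, map_one, Units.val_one]
  simp only [map_sub, map_mul, map_pow, map_one, Complex.conj_natCast]
  push_cast
  field_simp [sl2_card_add_one_ne_zero (F := F)]
  ring

include hC hcard in
theorem classInner_indC_sl2R (h2 : (2 : F) ≠ 0) (hz : sl2PM false (0 : F) ∈ C)
    (θ : C →* ℂˣ) (α : MulChar F ℂ) :
    Cfsg.classInner (Cfsg.indFun C (fun c => ((θ c : ℂˣ) : ℂ))) (sl2R α) =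
      1 + ((θ ⟨sl2PM false 0, hz⟩ : ℂˣ) : ℂ) * conj (α (-1)) := by
  rw [Lead.frobenius_reciprocity C _ _ (sl2R_classFun α)]
  unfold Cfsg.classInner
  simp_rw [sl2R_restrict C hC hcard h2 hz α]
  rw [sum_two_point, hcard, map_one, Units.val_one]
  simp only [map_add, map_mul, map_one, Complex.conj_natCast]
  push_cast
  field_simp [sl2_card_add_one_ne_zero (F := F)]

include hC hcard in
theorem classInner_indC_indC (h2 : (2 : F) ≠ 0) (hz : sl2PM false (0 : F) ∈ C)
    (θ θ' : C →* ℂˣ) [Decidable (θ = θ')] [Decidable (θ = θ'⁻¹)] :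
    Cfsg.classInner (Cfsg.indFun C (fun c => ((θ c : ℂˣ) : ℂ)))
      (Cfsg.indFun C (fun c => ((θ' c : ℂˣ) : ℂ))) =
      (if θ = θ' then 1 else 0) + (if θ = θ'⁻¹ then 1 else 0) +
      ((Fintype.card F : ℂ) - 2) * (1 + ((θ ⟨sl2PM false 0, hz⟩ : ℂˣ) : ℂ) *
        conj ((θ' ⟨sl2PM false 0, hz⟩ : ℂˣ) : ℂ)) := by
  rw [Lead.frobenius_reciprocity C _ _ (Lead.indFun_classFun C _)]
  unfold Cfsg.classInner
  simp_rw [sl2IndC_restrict C hC hcard h2 hz (fun c => ((θ' c : ℂˣ) : ℂ))]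
  have e : ∀ c : C, ((θ c : ℂˣ) : ℂ) * conj (((θ' c : ℂˣ) : ℂ) + ((θ' c⁻¹ : ℂˣ) : ℂ) +
      (if c = 1 then ((Fintype.card F : ℂ) * ((Fintype.card F : ℂ) - 1) - 2) *
        ((θ' 1 : ℂˣ) : ℂ) else 0) +
      (if c = ⟨sl2PM false 0, hz⟩ then ((Fintype.card F : ℂ) * ((Fintype.card F : ℂ) - 1) - 2) *
        ((θ' ⟨sl2PM false 0, hz⟩ : ℂˣ) : ℂ) else 0)) =
      ((θ c : ℂˣ) : ℂ) * conj ((θ' c : ℂˣ) : ℂ) + ((θ c : ℂˣ) : ℂ) * conj ((θ' c⁻¹ : ℂˣ) : ℂ) +
      ((θ c : ℂˣ) : ℂ) * conj ((if c = 1 then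
        ((Fintype.card F : ℂ) * ((Fintype.card F : ℂ) - 1) - 2) * ((θ' 1 : ℂˣ) : ℂ) else 0) +
      (if c = ⟨sl2PM false 0, hz⟩ then ((Fintype.card F : ℂ) * ((Fintype.card F : ℂ) - 1) - 2) *
        ((θ' ⟨sl2PM false 0, hz⟩ : ℂˣ) : ℂ) else 0)) := by
    intro c
    simp only [map_add, mul_add, add_assoc]
  have hcardC : (Fintype.card C : ℂ) = (Fintype.card F : ℂ) + 1 := by
    rw [← Nat.card_eq_fintype_card (α := ↥C), hcard]
    push_cast
    rfl
  simp_rw [e]
  rw [Finset.sum_add_distrib, Finset.sum_add_distrib, sum_hom_mul_conj, sum_hom_mul_conj_inv,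
    sum_two_point, hcard, map_one, Units.val_one, hcardC]
  have i1 : (if θ = θ' then ((Fintype.card F : ℂ) + 1) else 0) =
      ((Fintype.card F : ℂ) + 1) * (if θ = θ' then 1 else 0) := by
    split_ifs <;> simp
  have i2 : (if θ = θ'⁻¹ then ((Fintype.card F : ℂ) + 1) else 0) =
      ((Fintype.card F : ℂ) + 1) * (if θ = θ'⁻¹ then 1 else 0) := by
    split_ifs <;> simp
  rw [i1, i2]
  generalize (if θ = θ' then (1 : ℂ) else 0) = d₁
  generalize (if θ = θ'⁻¹ then (1 : ℂ) else 0) = d₂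
  simp only [map_sub, map_mul, map_one, Complex.conj_natCast, Complex.conj_ofNat, Units.val_one]
  push_cast
  field_simp [sl2_card_add_one_ne_zero (F := F)]
  ring

end torus2

section cusp

variable (C : Subgroup (Matrix.SpecialLinearGroup (Fin 2) F))

/-- The value at `-1` of a character of the torus (zero if `-1` is not in the torus). -/
noncomputable def sl2CuspSign (θ : C →* ℂˣ) : ℂ :=
  Cfsg.extendByZero C (fun c => ((θ c : ℂˣ) : ℂ)) (sl2PM false 0)

omit [Fintype F] [DecidableEq F] in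
theorem sl2CuspSign_eq (hz : sl2PM false (0 : F) ∈ C) (θ : C →* ℂˣ) :
    sl2CuspSign C θ = ((θ ⟨sl2PM false 0, hz⟩ : ℂˣ) : ℂ) :=
  extendByZero_mem C _ _ hz

/-- The cuspidal generalized character attached to a character of the nonsplit torus. -/
noncomputable def sl2Cusp (θ : C →* ℂˣ) : Matrix.SpecialLinearGroup (Fin 2) F → ℂ :=
  sl2Psi (sl2CuspSign C θ) - Cfsg.indFun C (fun c => ((θ c : ℂˣ) : ℂ))

omit [Fintype F] [DecidableEq F] in
theorem sl2CuspSign_mul_self (hz : sl2PM false (0 : F) ∈ C) (θ : C →* ℂˣ) :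
    sl2CuspSign C θ * sl2CuspSign C θ = 1 := by
  rw [sl2CuspSign_eq C hz, ← Units.val_mul, ← map_mul]
  have e : (⟨sl2PM false 0, hz⟩ : C) * ⟨sl2PM false 0, hz⟩ = 1 :=
    Subtype.ext sl2PM_false_mul_self
  rw [e, map_one, Units.val_one]

omit [Fintype F] [DecidableEq F] in
theorem sl2CuspSign_pm (hz : sl2PM false (0 : F) ∈ C) (θ : C →* ℂˣ) :
    sl2CuspSign C θ = 1 ∨ sl2CuspSign C θ = -1 :=
  mul_self_eq_one_iff.mp (sl2CuspSign_mul_self C hz θ)

omit [Fintype F] [DecidableEq F] in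
theorem sl2CuspSign_conj (hz : sl2PM false (0 : F) ∈ C) (θ : C →* ℂˣ) :
    conj (sl2CuspSign C θ) = sl2CuspSign C θ := by
  rcases sl2CuspSign_pm C hz θ with h | h <;> rw [h] <;> simp

variable (hC : IsCyclic C) (hcard : Nat.card C = Fintype.card F + 1)

include hC hcard in
theorem sl2Cusp_inner (h2 : (2 : F) ≠ 0) (θ θ' : C →* ℂˣ) [Decidable (θ = θ')]
    [Decidable (θ = θ'⁻¹)] :
    Cfsg.classInner (sl2Cusp C θ) (sl2Cusp C θ') =
      (if θ = θ' then 1 else 0) + (if θ = θ'⁻¹ then 1 else 0) := by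
  haveI : Fintype C := Fintype.ofFinite C
  have hz := sl2_neg_one_mem_torus C hC hcard
  unfold sl2Cusp
  rw [Lead.classInner_sub_left, Lead.classInner_sub_right, Lead.classInner_sub_right,
    classInner_sl2Psi_sl2Psi h2, classInner_indC_sl2Psi C hC hcard h2 hz,
    classInner_indC_indC C hC hcard h2 hz, ← Lead.classInner_conj_symm,
    classInner_indC_sl2Psi C hC hcard h2 hz, sl2CuspSign_eq C hz θ, sl2CuspSign_eq C hz θ']
  simp only [map_mul, map_add, map_sub, map_one, Complex.conj_natCast, Complex.conj_conj]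
  ring

include hC hcard in
theorem sl2R_sl2Cusp_inner (h2 : (2 : F) ≠ 0) (α : MulChar F ℂ) (θ : C →* ℂˣ) :
    Cfsg.classInner (sl2R α) (sl2Cusp C θ) = 0 := by
  haveI : Fintype C := Fintype.ofFinite C
  have hz := sl2_neg_one_mem_torus C hC hcard
  unfold sl2Cusp
  rw [Lead.classInner_sub_right, ← Lead.classInner_conj_symm, classInner_sl2Psi_sl2R h2,
    ← Lead.classInner_conj_symm (Cfsg.indFun C _), classInner_indC_sl2R C hC hcard h2 hz,
    sl2CuspSign_eq C hz θ, sub_self]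

include hcard in
theorem sl2Cusp_one (h2 : (2 : F) ≠ 0) (θ : C →* ℂˣ) :
    sl2Cusp C θ 1 = (Fintype.card F : ℂ) - 1 := by
  unfold sl2Cusp
  have h := sl2IndC_central C hcard (fun c => ((θ c : ℂˣ) : ℂ)) 1 (by simp)
  simp only [OneMemClass.coe_one, map_one, Units.val_one, mul_one] at h
  rw [Pi.sub_apply, sl2Psi_one h2, h]
  ring

include hC hcard in
theorem sl2Cusp_central_mul (θ : C →* ℂˣ) (g : Matrix.SpecialLinearGroup (Fin 2) F) :
    sl2Cusp C θ (sl2PM false 0 * g) = sl2CuspSign C θ * sl2Cusp C θ g := by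
  have hz := sl2_neg_one_mem_torus C hC hcard
  unfold sl2Cusp
  rw [Pi.sub_apply, Pi.sub_apply, sl2Psi_central_mul _ (sl2CuspSign_mul_self C hz θ),
    indFun_central_mul C _ _ sl2PM_false_mem_center hz (sl2CuspSign C θ), mul_sub]
  intro c
  rw [map_mul, Units.val_mul, sl2CuspSign_eq C hz]

include hC hcard in
theorem sl2Cusp_isGenChar (h2 : (2 : F) ≠ 0) (θ : C →* ℂˣ) :
    Cfsg.IsGeneralizedCharacter (Matrix.SpecialLinearGroup (Fin 2) F) (sl2Cusp C θ) := by
  have hz := sl2_neg_one_mem_torus C hC hcard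
  have hex : ∃ α : MulChar F ℂ, α (-1) = sl2CuspSign C θ := by
    rcases sl2CuspSign_pm C hz θ with h | h
    · exact ⟨1, by rw [h]; exact MulChar.one_apply isUnit_one.neg⟩
    · haveI : NeZero (Monoid.exponent Fˣ) := ⟨Monoid.exponent_ne_zero_of_finite⟩
      have hne : (-1 : F) ≠ 1 := by
        intro h3
        apply h2
        linear_combination -h3
      obtain ⟨χ, hχ⟩ := MulChar.exists_apply_ne_one_of_hasEnoughRootsOfUnity F ℂ hne
      refine ⟨χ, ?_⟩
      rw [h]
      have h4 : χ (-1) * χ (-1) = 1 := by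
        rw [← map_mul]
        simp
      rcases mul_self_eq_one_iff.mp h4 with h5 | h5
      · exact absurd h5 hχ
      · exact h5
  obtain ⟨α, hα⟩ := hex
  refine ⟨sl2R 1 * sl2R α, sl2R α + sl2R α + Cfsg.indFun C (fun c => ((θ c : ℂˣ) : ℂ)),
    Lead.isCharacter_mul (sl2R_isCharacter 1) (sl2R_isCharacter α),
    Lead.isCharacter_add (Lead.isCharacter_add (sl2R_isCharacter α) (sl2R_isCharacter α))
      (Lead.isCharacter_indFun C _ (isCharacter_of_monoidHom θ)), ?_⟩
  funext g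
  unfold sl2Cusp
  simp only [Pi.sub_apply, Pi.mul_apply, Pi.add_apply]
  rw [← hα, sl2Psi_eq_mul h2 α g]
  ring

include hC hcard in
theorem sl2Cusp_inner_one :
    Cfsg.classInner (sl2Cusp C 1) (fun _ => (1 : ℂ)) = -1 := by
  haveI : Fintype C := Fintype.ofFinite C
  unfold sl2Cusp
  rw [Lead.classInner_sub_left, classInner_sl2Psi_one,
    Lead.frobenius_reciprocity C _ _ (fun _ _ => rfl)]
  have e : (fun c : C => (((1 : C →* ℂˣ) c : ℂˣ) : ℂ)) = fun _ => (1 : ℂ) := by
    funext c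
    simp
  rw [e, Lead.classInner_one_one]
  ring

theorem sl2R_inner_one :
    Cfsg.classInner (sl2R (1 : MulChar F ℂ)) (fun _ => (1 : ℂ)) = 1 := by
  haveI : Fintype ((Cfsg.upperTriangularGL 2 F).comap Matrix.SpecialLinearGroup.toGL :
    Subgroup (Matrix.SpecialLinearGroup (Fin 2) F)) := Fintype.ofFinite _
  unfold sl2R
  rw [Lead.frobenius_reciprocity _ _ _ (fun _ _ => rfl)]
  have e : (fun b : ((Cfsg.upperTriangularGL 2 F).comap Matrix.SpecialLinearGroup.toGL :
      Subgroup (Matrix.SpecialLinearGroup (Fin 2) F)) => (1 : MulChar F ℂ)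
        (((b : Matrix.SpecialLinearGroup (Fin 2) F) : Matrix (Fin 2) (Fin 2) F) 0 0)) =
      fun _ => (1 : ℂ) := by
    funext b
    exact MulChar.one_apply (isUnit_iff_ne_zero.mpr (sl2Borel_entry_ne_zero b))
  rw [e, Lead.classInner_one_one]

end cusp

end Cfsg.Agent.Lib.Helper4
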