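import Mathlib
import Cfsg.Agent.Lib.Helper4.SL2CharD

set_option autoImplicit false

namespace Cfsg.Agent.Lib.Helper4

open scoped ComplexConjugate

section cyc

variable {H : Type*} [Group H] [Fintype H]

omit [Fintype H] in
theorem cyclic_quadratic_apply (g : H) (hg : ∀ x : H, x ∈ Subgroup.zpowers g) (θ : H →* ℂˣ)
    (hθ : θ ^ 2 = 1) (hne : θ ≠ 1) : θ g = -1 := by
  have h1 : θ g * θ g = 1 := by
    have := congrArg (fun f : H →* ℂˣ => f g) hθ
    simpa [pow_two] using this
  have h2 : ((θ g : ℂˣ) : ℂ) = 1 ∨ ((θ g : ℂˣ) : ℂ) = -1 := by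
    apply mul_self_eq_one_iff.mp
    rw [← Units.val_mul, h1, Units.val_one]
  rcases h2 with h | h
  · exfalso
    apply hne
    ext x
    obtain ⟨k, rfl⟩ := Subgroup.mem_zpowers_iff.mp (hg x)
    have h' : θ g = 1 := Units.ext (by simpa using h)
    rw [map_zpow, h']
    simp
  · exact Units.ext (by simpa using h)

omit [Fintype H] in
theorem cyclic_quadratic_unique (g : H) (hg : ∀ x : H, x ∈ Subgroup.zpowers g) (θ θ' : H →* ℂˣ)
    (hθ : θ ^ 2 = 1) (hne : θ ≠ 1) (hθ' : θ' ^ 2 = 1) (hne' : θ' ≠ 1) : θ = θ' := by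
  ext x
  obtain ⟨k, rfl⟩ := Subgroup.mem_zpowers_iff.mp (hg x)
  rw [map_zpow, map_zpow, cyclic_quadratic_apply g hg θ hθ hne,
    cyclic_quadratic_apply g hg θ' hθ' hne']

theorem cyclic_quadratic_involution (g : H) (hg : ∀ x : H, x ∈ Subgroup.zpowers g) (θ : H →* ℂˣ)
    (hθ : θ ^ 2 = 1) (hne : θ ≠ 1) (z : H) (hz : z ≠ 1) (hzz : z * z = 1) (n : ℕ)
    (hn : Fintype.card H = 2 * n) : ((θ z : ℂˣ) : ℂ) = (-1) ^ n := by
  have hord : orderOf g = 2 * n := by
    rw [← hn, ← Nat.card_eq_fintype_card, orderOf_eq_card_of_forall_mem_zpowers hg]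
  obtain ⟨k, rfl⟩ := Subgroup.mem_zpowers_iff.mp (hg z)
  rw [map_zpow, cyclic_quadratic_apply g hg θ hθ hne]
  have h1 : g ^ (2 * k) = 1 := by
    rw [two_mul, zpow_add]
    exact hzz
  have h2 : ((2 * n : ℕ) : ℤ) ∣ 2 * k := by
    rw [← hord]
    exact orderOf_dvd_iff_zpow_eq_one.mpr h1
  have hn0 : n ≠ 0 := by
    rintro rfl
    have : Fintype.card H ≠ 0 := Fintype.card_ne_zero
    omega
  have h3 : (n : ℤ) ∣ k := by
    obtain ⟨j, hj⟩ := h2
    refine ⟨j, ?_⟩
    push_cast at hj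
    linarith
  obtain ⟨j, rfl⟩ := h3
  have hj : Odd j := by
    by_contra hj
    rw [Int.not_odd_iff_even] at hj
    obtain ⟨m, rfl⟩ := hj
    apply hz
    have : (n : ℤ) * (m + m) = ((2 * n : ℕ) : ℤ) * m := by push_cast; ring
    rw [this, zpow_mul, ← hord, zpow_natCast, pow_orderOf_eq_one, one_zpow]
  rw [Units.val_zpow_eq_zpow_val, Units.val_neg, Units.val_one, zpow_mul, zpow_natCast]
  rcases Nat.even_or_odd n with h | h
  · rw [h.neg_one_pow]; simp
  · rw [h.neg_one_pow]; exact (Odd.neg_one_zpow (α := ℂ) hj)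

end cyc

section signs

variable {F : Type*} [Field F] [Fintype F] [DecidableEq F]

theorem mulChar_quadratic_neg_one (hodd : Odd (Fintype.card F)) (α : MulChar F ℂ)
    (hα : α ^ 2 = 1) (hne : α ≠ 1) : α (-1) = (-1) ^ ((Fintype.card F - 1) / 2) := by
  have h2 : (2 : F) ≠ 0 := two_ne_zero_of_odd_card hodd
  obtain ⟨g, hg⟩ := IsCyclic.exists_generator (α := Fˣ)
  have h1 : (MulChar.mulEquivToUnitHom α) ^ 2 = 1 := by
    rw [← map_pow, hα, map_one]
  have h3 : MulChar.mulEquivToUnitHom α ≠ 1 := by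
    intro h
    apply hne
    apply MulChar.mulEquivToUnitHom.injective
    rw [h, map_one]
  have hz : (-1 : Fˣ) ≠ 1 := by
    intro h
    have := congrArg Units.val h
    simp only [Units.val_neg, Units.val_one] at this
    apply h2
    linear_combination -this
  have hcard : Fintype.card Fˣ = 2 * ((Fintype.card F - 1) / 2) := by
    rw [Fintype.card_units]
    obtain ⟨k, hk⟩ := hodd
    omega
  have h4 := cyclic_quadratic_involution g hg _ h1 h3 (-1) hz (by simp) _ hcard
  rw [← h4]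
  show α ((-1 : Fˣ) : F) = _
  rw [← MulChar.coe_toUnitHom]
  rfl

variable (C : Subgroup (Matrix.SpecialLinearGroup (Fin 2) F))

theorem torusChar_quadratic_neg_one (hodd : Odd (Fintype.card F)) (hC : IsCyclic C)
    (hcard : Nat.card C = Fintype.card F + 1) (θ : C →* ℂˣ)
    (hθ : θ ^ 2 = 1) (hne : θ ≠ 1) : sl2CuspSign C θ = (-1) ^ ((Fintype.card F + 1) / 2) := by
  have h2 : (2 : F) ≠ 0 := two_ne_zero_of_odd_card hodd
  have hz := sl2_neg_one_mem_torus C hC hcard
  haveI : Fintype C := Fintype.ofFinite C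
  obtain ⟨g, hg⟩ := IsCyclic.exists_generator (α := C)
  have hz1 : (⟨sl2PM false 0, hz⟩ : C) ≠ 1 := by
    intro h
    exact sl2PM_false_ne_one h2 (congrArg Subtype.val h)
  have hcard' : Fintype.card C = 2 * ((Fintype.card F + 1) / 2) := by
    rw [← Nat.card_eq_fintype_card, hcard]
    obtain ⟨k, hk⟩ := hodd
    omega
  rw [sl2CuspSign_eq C hz]
  exact cyclic_quadratic_involution g hg θ hθ hne _ hz1 (Subtype.ext sl2PM_false_mul_self) _ hcard'

omit [Fintype F] [DecidableEq F] in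
theorem torusChar_quadratic_unique (hC : IsCyclic C) (θ θ' : C →* ℂˣ)
    (hθ : θ ^ 2 = 1) (hne : θ ≠ 1) (hθ' : θ' ^ 2 = 1) (hne' : θ' ≠ 1) : θ = θ' := by
  obtain ⟨g, hg⟩ := IsCyclic.exists_generator (α := C)
  exact cyclic_quadratic_unique g hg θ θ' hθ hne hθ' hne'

theorem sl2_dlData_odd (hodd : Odd (Fintype.card F)) (hC : IsCyclic C)
    (hcard : Nat.card C = Fintype.card F + 1) [Fintype (MulChar F ℂ)] [Fintype (C →* ℂˣ)] :
    DLData (Fintype.card F) (sl2PM false (0 : F)) sl2R (sl2Cusp C)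
      (fun α : MulChar F ℂ => α (-1)) (sl2CuspSign C) := by
  have h2 : (2 : F) ≠ 0 := two_ne_zero_of_odd_card hodd
  have hz := sl2_neg_one_mem_torus C hC hcard
  refine
    { hq := ?_
      cardG := card_sl2
      cardA := ?_
      cardT := ?_
      hz := sl2PM_false_mem_center
      hzz := sl2PM_false_mul_self
      Rchar := sl2R_isCharacter
      Pgen := sl2Cusp_isGenChar C hC hcard h2
      Rone := sl2R_apply_one
      Pone := sl2Cusp_one C hcard h2
      RR := fun α β => @sl2R_classInner _ _ _ _ α β (Classical.propDecidable _)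
        (Classical.propDecidable _)
      PP := fun θ θ' => @sl2Cusp_inner _ _ _ _ C hC hcard h2 θ θ' (Classical.propDecidable _)
        (Classical.propDecidable _)
      RP := sl2R_sl2Cusp_inner C hC hcard h2
      Rpar := sl2R_central_mul
      Ppar := sl2Cusp_central_mul C hC hcard
      apm := ?_
      tpm := sl2CuspSign_pm C hz
      sign := ?_
      uniqT := fun θ θ' h1 h2 h3 h4 => torusChar_quadratic_unique C hC θ θ' h1 h2 h3 h4
      R1 := sl2R_inner_one
      P1 := sl2Cusp_inner_one C hC hcard }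
  · exact Fintype.one_lt_card
  · haveI : NeZero (Monoid.exponent Fˣ) := ⟨Monoid.exponent_ne_zero_of_finite⟩
    rw [← Nat.card_eq_fintype_card, MulChar.card_eq_card_units_of_hasEnoughRootsOfUnity F ℂ,
      Nat.card_eq_fintype_card, Fintype.card_units]
  · letI : CommGroup C := hC.commGroup
    rw [← Nat.card_eq_fintype_card, ← hcard]
    exact CommGroup.card_monoidHom_of_hasEnoughRootsOfUnity C ℂ
  · intro α
    apply mul_self_eq_one_iff.mp
    rw [← map_mul]
    simp
  · intro α θ hα hα1 hθ hθ1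
    show α (-1) * sl2CuspSign C θ = -1
    rw [mulChar_quadratic_neg_one hodd α hα hα1, torusChar_quadratic_neg_one C hodd hC hcard θ hθ hθ1,
      ← pow_add]
    obtain ⟨k, hk⟩ := hodd
    have : (Fintype.card F - 1) / 2 + (Fintype.card F + 1) / 2 = 2 * k + 1 := by omega
    rw [this, pow_succ, pow_mul]
    norm_num

end signs

end Cfsg.Agent.Lib.Helper4
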