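import Mathlib
import Cfsg.Prelude.Def_Characters
import Cfsg.Agent.Lib.Helper4.SL2CharSkel

set_option autoImplicit false

namespace Cfsg.Agent.Lib.Helper4

open scoped ComplexConjugate
open Cfsg.Agent.Lib.Lead

theorem four_sum {ι : Type*} [Fintype ι] [DecidableEq ι] (x₁ x₂ x₃ x₄ : ι) (h12 : x₁ ≠ x₂)
    (h13 : x₁ ≠ x₃) (h14 : x₁ ≠ x₄) (h23 : x₂ ≠ x₃) (h24 : x₂ ≠ x₄) (h34 : x₃ ≠ x₄) (f : ι → ℂ)
    (hf : ∀ x, x ≠ x₁ → x ≠ x₂ → x ≠ x₃ → x ≠ x₄ → f x = 0) :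
    ∑ x, f x = f x₁ + f x₂ + f x₃ + f x₄ := by
  rw [← Finset.sum_subset (Finset.subset_univ {x₁, x₂, x₃, x₄})]
  · rw [Finset.sum_insert, Finset.sum_insert, Finset.sum_insert, Finset.sum_singleton]
    · ring
    · simp [h34]
    · simp [h23, h24]
    · simp [h12, h13, h14]
  · intro x _ hx
    simp only [Finset.mem_insert, Finset.mem_singleton, not_or] at hx
    exact hf x hx.1 hx.2.1 hx.2.2.1 hx.2.2.2

theorem pm_eq_of_mul_conj (x w : ℂ) (hx : x = 1 ∨ x = -1) (hw : w = 1 ∨ w = -1)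
    (h : ¬ (x * conj w ≠ 1)) : w = x := by
  push Not at h
  rcases hx with rfl | rfl <;> rcases hw with rfl | rfl
  · rfl
  · exfalso; simp at h; norm_num at h
  · exfalso; simp at h; norm_num at h
  · rfl

section twist

open Classical

variable {G : Type*} [Group G] [Fintype G]
variable {A T : Type*} [CommGroup A] [Fintype A] [CommGroup T] [Fintype T]

namespace DLData

variable {q : ℕ} {z : G} {R : A → G → ℂ} {P : T → G → ℂ} {a : A → ℂ} {t : T → ℂ}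

theorem const_sign_R (D : DLData q z R P a t) (α : A) {χ : G → ℂ}
    (hχ : Cfsg.IsIrrCharacter G χ) (hne : Cfsg.classInner (R α) χ ≠ 0) (g : G) :
    χ (z * g) = a α * χ g := by
  obtain ⟨ω, hω, hpar⟩ := irr_central_sign hχ z D.hz D.hzz
  have h : ¬ (a α * conj ω ≠ 1) := fun h =>
    hne (classInner_eq_zero_of_parity z (R α) χ (a α) ω (D.Rpar α) hpar h)
  rw [hpar g, pm_eq_of_mul_conj _ _ (D.apm α) hω h]

theorem const_sign_P (D : DLData q z R P a t) (θ : T) {χ : G → ℂ}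
    (hχ : Cfsg.IsIrrCharacter G χ) (hne : Cfsg.classInner (P θ) χ ≠ 0) (g : G) :
    χ (z * g) = t θ * χ g := by
  obtain ⟨ω, hω, hpar⟩ := irr_central_sign hχ z D.hz D.hzz
  have h : ¬ (t θ * conj ω ≠ 1) := fun h =>
    hne (classInner_eq_zero_of_parity z (P θ) χ (t θ) ω (D.Ppar θ) hpar h)
  rw [hpar g, pm_eq_of_mul_conj _ _ (D.tpm θ) hω h]

theorem exists_half_R (D : DLData q z R P a t) (α : A) (hα : α ^ 2 = 1) :
    ∃ χ₁ χ₂ : Cfsg.IrrCharacter G, χ₁ ≠ χ₂ ∧ R α = (χ₁ : G → ℂ) + (χ₂ : G → ℂ) := by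
  have hαinv : α = α⁻¹ := (commGroup_sq_eq_one_iff α).1 hα
  have h2 : Cfsg.classInner (R α) (R α) = 2 := by
    rw [D.RR, if_pos rfl, if_pos hαinv]
    norm_num
  exact char_norm_two (D.Rchar α) h2

theorem exists_half_P (D : DLData q z R P a t) (θ : T) (hθ : θ ^ 2 = 1) (hθ1 : θ ≠ 1) :
    ∃ χ₁ χ₂ : Cfsg.IrrCharacter G, χ₁ ≠ χ₂ ∧ P θ = (χ₁ : G → ℂ) + (χ₂ : G → ℂ) := by
  have hθinv : θ = θ⁻¹ := (commGroup_sq_eq_one_iff θ).1 hθ
  have h2 : Cfsg.classInner (P θ) (P θ) = 2 := by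
    rw [D.PP, if_pos rfl, if_pos hθinv]
    norm_num
  obtain ⟨χa, χb, hab, e₁, e₂, he1, he2, hdec⟩ := genChar_norm_two (D.Pgen θ) h2
  have hab' : (χa : G → ℂ) ≠ (χb : G → ℂ) := fun h => hab (Subtype.ext h)
  have ha1 : Cfsg.classInner (P θ) (χa : G → ℂ) = e₁ := by
    rw [hdec, classInner_add_left, classInner_smul_left, classInner_smul_left,
      classInner_irr_self χa.2, classInner_irr χb.2 χa.2, if_neg (fun h => hab' h.symm)]
    ring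
  have hne : Cfsg.classInner (P θ) (χa : G → ℂ) ≠ 0 := by
    rw [ha1]
    rcases he1 with rfl | rfl <;> norm_num
  obtain ⟨-, χ', hχ', hne', hdec', -⟩ := D.half_P θ hθ hθ1 χa.2 hne
  exact ⟨χa, ⟨χ', hχ'⟩, fun h => hne' (congrArg Subtype.val h).symm, hdec'⟩

theorem twist_core (D : DLData q z R P a t) (σ : G ≃* G)
    (hRσ : ∀ α g, R α (σ g) = R α g) (hPσ : ∀ θ g, P θ (σ g) = P θ g)
    (u : G) (hu1 : ¬ IsConj (σ u) u) (hu2 : ¬ IsConj (z * u) u) (hu3 : ¬ IsConj (z * σ u) u)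
    (hcent : Nat.card (Subgroup.centralizer ({u} : Set G)) = 2 * q)
    (uniqA : ∀ α α' : A, α ^ 2 = 1 → α ≠ 1 → α' ^ 2 = 1 → α' ≠ 1 → α = α')
    (α₀ : A) (hα₀ : α₀ ^ 2 = 1) (hα₀1 : α₀ ≠ 1) (θ₀ : T) (hθ₀ : θ₀ ^ 2 = 1) (hθ₀1 : θ₀ ≠ 1)
    (χ₁ χ₂ η₁ η₂ : Cfsg.IrrCharacter G) (h12 : χ₁ ≠ χ₂) (h34 : η₁ ≠ η₂)
    (hR : R α₀ = (χ₁ : G → ℂ) + (χ₂ : G → ℂ)) (hP : P θ₀ = (η₁ : G → ℂ) + (η₂ : G → ℂ)) :
    ((χ₁ : G → ℂ) u - (χ₁ : G → ℂ) (σ u)) * conj ((χ₁ : G → ℂ) u - (χ₂ : G → ℂ) u) = q ∧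
    ((η₁ : G → ℂ) u - (η₁ : G → ℂ) (σ u)) * conj ((η₁ : G → ℂ) u - (η₂ : G → ℂ) u) = q := by
  haveI : Fintype (Cfsg.IrrCharacter G) := Fintype.ofFinite _
  have h12' : (χ₁ : G → ℂ) ≠ (χ₂ : G → ℂ) := fun h => h12 (Subtype.ext h)
  have h34' : (η₁ : G → ℂ) ≠ (η₂ : G → ℂ) := fun h => h34 (Subtype.ext h)
  -- distinctness
  have h0 := D.RP α₀ θ₀
  rw [hR, hP, classInner_add_left, classInner_add_right, classInner_add_right,
    classInner_irr χ₁.2 η₁.2, classInner_irr χ₁.2 η₂.2, classInner_irr χ₂.2 η₁.2,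
    classInner_irr χ₂.2 η₂.2] at h0
  have h4 : ((χ₁ : G → ℂ) ≠ η₁) ∧ ((χ₁ : G → ℂ) ≠ η₂) ∧ ((χ₂ : G → ℂ) ≠ η₁) ∧
      ((χ₂ : G → ℂ) ≠ η₂) := by
    refine ⟨?_, ?_, ?_, ?_⟩ <;> intro hh <;> rw [if_pos hh] at h0 <;>
      (split_ifs at h0 <;> norm_num at h0)
  obtain ⟨h13, h14, h23, h24⟩ := h4
  -- inner products with the constituents
  have i1 : Cfsg.classInner (R α₀) (χ₁ : G → ℂ) ≠ 0 := by
    rw [hR, classInner_add_left, classInner_irr_self χ₁.2, classInner_irr χ₂.2 χ₁.2,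
      if_neg (fun h => h12' h.symm)]
    norm_num
  have i2 : Cfsg.classInner (R α₀) (χ₂ : G → ℂ) ≠ 0 := by
    rw [hR, classInner_add_left, classInner_irr_self χ₂.2, classInner_irr χ₁.2 χ₂.2,
      if_neg h12']
    norm_num
  have i3 : Cfsg.classInner (P θ₀) (η₁ : G → ℂ) ≠ 0 := by
    rw [hP, classInner_add_left, classInner_irr_self η₁.2, classInner_irr η₂.2 η₁.2,
      if_neg (fun h => h34' h.symm)]
    norm_num
  have i4 : Cfsg.classInner (P θ₀) (η₂ : G → ℂ) ≠ 0 := by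
    rw [hP, classInner_add_left, classInner_irr_self η₂.2, classInner_irr η₁.2 η₂.2,
      if_neg h34']
    norm_num
  -- the difference function
  obtain ⟨d, hd⟩ : ∃ d : Cfsg.IrrCharacter G → ℂ,
      ∀ χ, d χ = (χ : G → ℂ) u - (χ : G → ℂ) (σ u) := ⟨_, fun _ => rfl⟩
  have hd0 : ∀ χ : Cfsg.IrrCharacter G, χ ≠ χ₁ → χ ≠ χ₂ → χ ≠ η₁ → χ ≠ η₂ → d χ = 0 := by
    intro χ n1 n2 n3 n4
    rw [hd]
    rcases D.classify χ.2 with h | h | ⟨α, hα, h⟩ | ⟨θ, hθ, h⟩ | ⟨α, hα, hα1, h⟩ |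
      ⟨θ, hθ, hθ1, h⟩
    · rw [h, sub_self]
    · rw [h, Pi.sub_apply, Pi.sub_apply, hRσ, sub_self]
    · rw [h, hRσ, sub_self]
    · rw [h, hPσ, sub_self]
    · exfalso
      have e := uniqA α α₀ hα hα1 hα₀ hα₀1
      rw [e, hR, classInner_add_left, classInner_irr χ₁.2 χ.2, classInner_irr χ₂.2 χ.2,
        if_neg (fun hh => n1 (Subtype.ext hh.symm)),
        if_neg (fun hh => n2 (Subtype.ext hh.symm))] at h
      simp at h
    · exfalso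
      have e := D.uniqT θ θ₀ hθ hθ1 hθ₀ hθ₀1
      rw [e, hP, classInner_add_left, classInner_irr η₁.2 χ.2, classInner_irr η₂.2 χ.2,
        if_neg (fun hh => n3 (Subtype.ext hh.symm)),
        if_neg (fun hh => n4 (Subtype.ext hh.symm))] at h
      simp at h
  -- column orthogonality
  have c1 := column_orthogonality_sum (G := G) u u
  rw [conjCount_apply_of_isConj (IsConj.refl u), hcent] at c1
  have c2 := column_orthogonality_sum (G := G) (σ u) u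
  rw [conjCount_apply_of_not_isConj hu1] at c2
  have c3 := column_orthogonality_sum (G := G) (z * u) u
  rw [conjCount_apply_of_not_isConj hu2] at c3
  have c4 := column_orthogonality_sum (G := G) (z * σ u) u
  rw [conjCount_apply_of_not_isConj hu3] at c4
  have E1 : ∑ χ : Cfsg.IrrCharacter G, d χ * conj ((χ : G → ℂ) u) = 2 * q := by
    simp only [hd, sub_mul, Finset.sum_sub_distrib, c1, c2]
    push_cast
    ring
  choose ω hω hωpar using fun χ : Cfsg.IrrCharacter G => irr_central_sign χ.2 z D.hz D.hzz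
  have E2 : ∑ χ : Cfsg.IrrCharacter G, ω χ * (d χ * conj ((χ : G → ℂ) u)) = 0 := by
    have e : ∀ χ : Cfsg.IrrCharacter G, ω χ * (d χ * conj ((χ : G → ℂ) u)) =
        (χ : G → ℂ) (z * u) * conj ((χ : G → ℂ) u) -
          (χ : G → ℂ) (z * σ u) * conj ((χ : G → ℂ) u) := by
      intro χ
      rw [hd, hωpar χ u, hωpar χ (σ u)]
      ring
    simp only [e, Finset.sum_sub_distrib, c3, c4, sub_zero]
  have hne13 : χ₁ ≠ η₁ := fun h => h13 (congrArg Subtype.val h)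
  have hne14 : χ₁ ≠ η₂ := fun h => h14 (congrArg Subtype.val h)
  have hne23 : χ₂ ≠ η₁ := fun h => h23 (congrArg Subtype.val h)
  have hne24 : χ₂ ≠ η₂ := fun h => h24 (congrArg Subtype.val h)
  rw [four_sum χ₁ χ₂ η₁ η₂ h12 hne13 hne14 hne23 hne24 h34 _
    (fun χ n1 n2 n3 n4 => by rw [hd0 χ n1 n2 n3 n4, zero_mul])] at E1
  rw [four_sum χ₁ χ₂ η₁ η₂ h12 hne13 hne14 hne23 hne24 h34 _
    (fun χ n1 n2 n3 n4 => by rw [hd0 χ n1 n2 n3 n4, zero_mul, mul_zero])] at E2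
  -- signs
  have sgn : ∀ (χ : Cfsg.IrrCharacter G) (c : ℂ), (∀ g, (χ : G → ℂ) (z * g) = c * (χ : G → ℂ) g) →
      ω χ = c := by
    intro χ c hc
    obtain ⟨n, hn0, hn1⟩ := irr_one χ.2
    have e1 := hωpar χ 1
    rw [hc 1, hn1] at e1
    have hn : (n : ℂ) ≠ 0 := by exact_mod_cast hn0
    exact (mul_right_cancel₀ hn e1).symm
  rw [sgn χ₁ _ (D.const_sign_R α₀ χ₁.2 i1), sgn χ₂ _ (D.const_sign_R α₀ χ₂.2 i2),
    sgn η₁ _ (D.const_sign_P θ₀ η₁.2 i3), sgn η₂ _ (D.const_sign_P θ₀ η₂.2 i4)] at E2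
  have hdχ : d χ₂ = - d χ₁ := by
    rw [hd, hd]
    have e1 := congrFun hR u
    have e2 := congrFun hR (σ u)
    rw [hRσ] at e2
    simp only [Pi.add_apply] at e1 e2
    linear_combination e2 - e1
  have hdη : d η₂ = - d η₁ := by
    rw [hd, hd]
    have e1 := congrFun hP u
    have e2 := congrFun hP (σ u)
    rw [hPσ] at e2
    simp only [Pi.add_apply] at e1 e2
    linear_combination e2 - e1
  rw [hdχ, hdη] at E1 E2
  have haa : a α₀ * a α₀ = 1 := by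
    rcases D.apm α₀ with h | h <;> rw [h] <;> norm_num
  have hat := D.sign α₀ θ₀ hα₀ hα₀1 hθ₀ hθ₀1
  rw [← hd, ← hd, map_sub, map_sub]
  constructor
  · linear_combination (1 / 2 : ℂ) * E1 + (a α₀ / 2) * E2 -
      (d χ₁ * (conj ((χ₁ : G → ℂ) u) - conj ((χ₂ : G → ℂ) u)) / 2) * haa -
      (d η₁ * (conj ((η₁ : G → ℂ) u) - conj ((η₂ : G → ℂ) u)) / 2) * hat
  · linear_combination (1 / 2 : ℂ) * E1 - (a α₀ / 2) * E2 +
      (d χ₁ * (conj ((χ₁ : G → ℂ) u) - conj ((χ₂ : G → ℂ) u)) / 2) * haa +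
      (d η₁ * (conj ((η₁ : G → ℂ) u) - conj ((η₂ : G → ℂ) u)) / 2) * hat

theorem q_ne_zero (D : DLData q z R P a t) : (q : ℂ) ≠ 0 := by
  have := D.hq
  exact_mod_cast (by omega : q ≠ 0)

theorem twist_R (D : DLData q z R P a t) (σ : G ≃* G)
    (hRσ : ∀ α g, R α (σ g) = R α g) (hPσ : ∀ θ g, P θ (σ g) = P θ g)
    (u : G) (hu1 : ¬ IsConj (σ u) u) (hu2 : ¬ IsConj (z * u) u) (hu3 : ¬ IsConj (z * σ u) u)
    (hcent : Nat.card (Subgroup.centralizer ({u} : Set G)) = 2 * q)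
    (uniqA : ∀ α α' : A, α ^ 2 = 1 → α ≠ 1 → α' ^ 2 = 1 → α' ≠ 1 → α = α')
    (α₀ : A) (hα₀ : α₀ ^ 2 = 1) (hα₀1 : α₀ ≠ 1) (θ₀ : T) (hθ₀ : θ₀ ^ 2 = 1) (hθ₀1 : θ₀ ≠ 1)
    {χ : G → ℂ} (hχ : Cfsg.IsIrrCharacter G χ) (hne : Cfsg.classInner (R α₀) χ ≠ 0) :
    χ ∘ σ ≠ χ ∧ R α₀ = χ + χ ∘ σ ∧ (χ u - χ (σ u)) * conj (χ u - χ (σ u)) = q := by
  obtain ⟨-, χ', hχ', hne', hdec, -⟩ := D.half_R α₀ hα₀ hα₀1 hχ hne
  obtain ⟨η₁, η₂, h34, hP⟩ := D.exists_half_P θ₀ hθ₀ hθ₀1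
  have key := (D.twist_core σ hRσ hPσ u hu1 hu2 hu3 hcent uniqA α₀ hα₀ hα₀1 θ₀ hθ₀ hθ₀1
    ⟨χ, hχ⟩ ⟨χ', hχ'⟩ η₁ η₂ (fun h => hne' (congrArg Subtype.val h).symm) h34 hdec hP).1
  simp only at key
  have hd : χ u - χ (σ u) ≠ 0 := by
    intro h
    rw [h, zero_mul] at key
    exact D.q_ne_zero key.symm
  have hσne : χ ∘ σ ≠ χ := by
    intro h
    apply hd
    have e := congrFun h u
    simp only [Function.comp_apply] at e
    rw [e, sub_self]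
  have hσirr := isIrrCharacter_comp_equiv σ hχ
  have hσin : Cfsg.classInner (R α₀) (χ ∘ σ) ≠ 0 := by
    have e : R α₀ = R α₀ ∘ σ := by
      funext g
      exact (hRσ α₀ g).symm
    rw [e, classInner_comp_equiv]
    exact hne
  have hσeq : χ ∘ σ = χ' := by
    rw [hdec, classInner_add_left, classInner_irr hχ hσirr, classInner_irr hχ' hσirr] at hσin
    by_contra h
    rw [if_neg (fun h' => hσne h'.symm), if_neg (fun h' => h h'.symm)] at hσin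
    simp at hσin
  refine ⟨hσne, by rw [hσeq]; exact hdec, ?_⟩
  have e : χ' u = χ (σ u) := by
    rw [← hσeq]
    rfl
  rw [e] at key
  exact key

theorem twist_P (D : DLData q z R P a t) (σ : G ≃* G)
    (hRσ : ∀ α g, R α (σ g) = R α g) (hPσ : ∀ θ g, P θ (σ g) = P θ g)
    (u : G) (hu1 : ¬ IsConj (σ u) u) (hu2 : ¬ IsConj (z * u) u) (hu3 : ¬ IsConj (z * σ u) u)
    (hcent : Nat.card (Subgroup.centralizer ({u} : Set G)) = 2 * q)
    (uniqA : ∀ α α' : A, α ^ 2 = 1 → α ≠ 1 → α' ^ 2 = 1 → α' ≠ 1 → α = α')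
    (α₀ : A) (hα₀ : α₀ ^ 2 = 1) (hα₀1 : α₀ ≠ 1) (θ₀ : T) (hθ₀ : θ₀ ^ 2 = 1) (hθ₀1 : θ₀ ≠ 1)
    {χ : G → ℂ} (hχ : Cfsg.IsIrrCharacter G χ) (hne : Cfsg.classInner (P θ₀) χ ≠ 0) :
    χ ∘ σ ≠ χ ∧ P θ₀ = χ + χ ∘ σ ∧ (χ u - χ (σ u)) * conj (χ u - χ (σ u)) = q := by
  obtain ⟨-, χ', hχ', hne', hdec, -⟩ := D.half_P θ₀ hθ₀ hθ₀1 hχ hne
  obtain ⟨η₁, η₂, h34, hR⟩ := D.exists_half_R α₀ hα₀
  have key := (D.twist_core σ hRσ hPσ u hu1 hu2 hu3 hcent uniqA α₀ hα₀ hα₀1 θ₀ hθ₀ hθ₀1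
    η₁ η₂ ⟨χ, hχ⟩ ⟨χ', hχ'⟩ h34 (fun h => hne' (congrArg Subtype.val h).symm) hR hdec).2
  simp only at key
  have hd : χ u - χ (σ u) ≠ 0 := by
    intro h
    rw [h, zero_mul] at key
    exact D.q_ne_zero key.symm
  have hσne : χ ∘ σ ≠ χ := by
    intro h
    apply hd
    have e := congrFun h u
    simp only [Function.comp_apply] at e
    rw [e, sub_self]
  have hσirr := isIrrCharacter_comp_equiv σ hχ
  have hσin : Cfsg.classInner (P θ₀) (χ ∘ σ) ≠ 0 := by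
    have e : P θ₀ = P θ₀ ∘ σ := by
      funext g
      exact (hPσ θ₀ g).symm
    rw [e, classInner_comp_equiv]
    exact hne
  have hσeq : χ ∘ σ = χ' := by
    rw [hdec, classInner_add_left, classInner_irr hχ hσirr, classInner_irr hχ' hσirr] at hσin
    by_contra h
    rw [if_neg (fun h' => hσne h'.symm), if_neg (fun h' => h h'.symm)] at hσin
    simp at hσin
  refine ⟨hσne, by rw [hσeq]; exact hdec, ?_⟩
  have e : χ' u = χ (σ u) := by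
    rw [← hσeq]
    rfl
  rw [e] at key
  exact key

end DLData

end twist

end Cfsg.Agent.Lib.Helper4
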