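import Mathlib
import Cfsg.Prelude.Def_Characters
import Cfsg.Agent.Lib.Helper4.SL2CharE
import Cfsg.Agent.Lib.Helper4.SL2CharTwist

set_option autoImplicit false

namespace Cfsg.Agent.Lib.Helper4

open scoped ComplexConjugate

variable {F : Type*} [Field F]

/-- Conjugation by `diag(ν, 1)` as an automorphism of `SL₂`. -/
def sl2Twist (ν : Fˣ) :
    Matrix.SpecialLinearGroup (Fin 2) F ≃* Matrix.SpecialLinearGroup (Fin 2) F where
  toFun g := ⟨!![(g : Matrix (Fin 2) (Fin 2) F) 0 0, (ν : F) * (g : Matrix (Fin 2) (Fin 2) F) 0 1;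
    ((ν⁻¹ : Fˣ) : F) * (g : Matrix (Fin 2) (Fin 2) F) 1 0, (g : Matrix (Fin 2) (Fin 2) F) 1 1], by
      rw [Matrix.det_fin_two_of]
      have h := sl2_det g
      have hν : (ν : F) * ((ν⁻¹ : Fˣ) : F) = 1 := by rw [← Units.val_mul, mul_inv_cancel, Units.val_one]
      linear_combination h - (g : Matrix (Fin 2) (Fin 2) F) 0 1 * (g : Matrix (Fin 2) (Fin 2) F) 1 0 * hν⟩
  invFun g := ⟨!![(g : Matrix (Fin 2) (Fin 2) F) 0 0,
    ((ν⁻¹ : Fˣ) : F) * (g : Matrix (Fin 2) (Fin 2) F) 0 1;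
    (ν : F) * (g : Matrix (Fin 2) (Fin 2) F) 1 0, (g : Matrix (Fin 2) (Fin 2) F) 1 1], by
      rw [Matrix.det_fin_two_of]
      have h := sl2_det g
      have hν : (ν : F) * ((ν⁻¹ : Fˣ) : F) = 1 := by rw [← Units.val_mul, mul_inv_cancel, Units.val_one]
      linear_combination h - (g : Matrix (Fin 2) (Fin 2) F) 0 1 * (g : Matrix (Fin 2) (Fin 2) F) 1 0 * hν⟩
  left_inv g := by
    apply Subtype.ext
    have hν : ((ν⁻¹ : Fˣ) : F) * (ν : F) = 1 := by rw [← Units.val_mul, inv_mul_cancel, Units.val_one]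
    ext i j
    fin_cases i <;> fin_cases j <;> simp [← mul_assoc, hν]
  right_inv g := by
    apply Subtype.ext
    have hν : (ν : F) * ((ν⁻¹ : Fˣ) : F) = 1 := by rw [← Units.val_mul, mul_inv_cancel, Units.val_one]
    ext i j
    fin_cases i <;> fin_cases j <;> simp [← mul_assoc, hν]
  map_mul' g h := by
    apply Subtype.ext
    have hν : (ν : F) * ((ν⁻¹ : Fˣ) : F) = 1 := by rw [← Units.val_mul, mul_inv_cancel, Units.val_one]
    have e := Matrix.SpecialLinearGroup.coe_mul g h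
    have e00 : ((g * h : Matrix.SpecialLinearGroup (Fin 2) F) : Matrix (Fin 2) (Fin 2) F) 0 0 =
        (g : Matrix (Fin 2) (Fin 2) F) 0 0 * (h : Matrix (Fin 2) (Fin 2) F) 0 0 +
        (g : Matrix (Fin 2) (Fin 2) F) 0 1 * (h : Matrix (Fin 2) (Fin 2) F) 1 0 := by
      rw [e, Matrix.mul_apply, Fin.sum_univ_two]
    have e01 : ((g * h : Matrix.SpecialLinearGroup (Fin 2) F) : Matrix (Fin 2) (Fin 2) F) 0 1 =
        (g : Matrix (Fin 2) (Fin 2) F) 0 0 * (h : Matrix (Fin 2) (Fin 2) F) 0 1 +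
        (g : Matrix (Fin 2) (Fin 2) F) 0 1 * (h : Matrix (Fin 2) (Fin 2) F) 1 1 := by
      rw [e, Matrix.mul_apply, Fin.sum_univ_two]
    have e10 : ((g * h : Matrix.SpecialLinearGroup (Fin 2) F) : Matrix (Fin 2) (Fin 2) F) 1 0 =
        (g : Matrix (Fin 2) (Fin 2) F) 1 0 * (h : Matrix (Fin 2) (Fin 2) F) 0 0 +
        (g : Matrix (Fin 2) (Fin 2) F) 1 1 * (h : Matrix (Fin 2) (Fin 2) F) 1 0 := by
      rw [e, Matrix.mul_apply, Fin.sum_univ_two]
    have e11 : ((g * h : Matrix.SpecialLinearGroup (Fin 2) F) : Matrix (Fin 2) (Fin 2) F) 1 1 =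
        (g : Matrix (Fin 2) (Fin 2) F) 1 0 * (h : Matrix (Fin 2) (Fin 2) F) 0 1 +
        (g : Matrix (Fin 2) (Fin 2) F) 1 1 * (h : Matrix (Fin 2) (Fin 2) F) 1 1 := by
      rw [e, Matrix.mul_apply, Fin.sum_univ_two]
    show (!![((g * h : Matrix.SpecialLinearGroup (Fin 2) F) : Matrix (Fin 2) (Fin 2) F) 0 0,
        (ν : F) * ((g * h : Matrix.SpecialLinearGroup (Fin 2) F) : Matrix (Fin 2) (Fin 2) F) 0 1;
        ((ν⁻¹ : Fˣ) : F) *
          ((g * h : Matrix.SpecialLinearGroup (Fin 2) F) : Matrix (Fin 2) (Fin 2) F) 1 0,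
        ((g * h : Matrix.SpecialLinearGroup (Fin 2) F) : Matrix (Fin 2) (Fin 2) F) 1 1] :
        Matrix (Fin 2) (Fin 2) F) =
      !![(g : Matrix (Fin 2) (Fin 2) F) 0 0, (ν : F) * (g : Matrix (Fin 2) (Fin 2) F) 0 1;
        ((ν⁻¹ : Fˣ) : F) * (g : Matrix (Fin 2) (Fin 2) F) 1 0,
        (g : Matrix (Fin 2) (Fin 2) F) 1 1] *
      !![(h : Matrix (Fin 2) (Fin 2) F) 0 0, (ν : F) * (h : Matrix (Fin 2) (Fin 2) F) 0 1;
        ((ν⁻¹ : Fˣ) : F) * (h : Matrix (Fin 2) (Fin 2) F) 1 0,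
        (h : Matrix (Fin 2) (Fin 2) F) 1 1]
    rw [e00, e01, e10, e11, Matrix.mul_fin_two]
    congr 1
    refine congrArg₂ _ ?_ (congrArg₂ _ ?_ rfl)
    · refine congrArg₂ _ ?_ (congrArg₂ _ ?_ rfl)
      · linear_combination (-(g : Matrix (Fin 2) (Fin 2) F) 0 1 *
          (h : Matrix (Fin 2) (Fin 2) F) 1 0) * hν
      · ring
    · refine congrArg₂ _ ?_ (congrArg₂ _ ?_ rfl)
      · ring
      · linear_combination (-(g : Matrix (Fin 2) (Fin 2) F) 1 0 *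
          (h : Matrix (Fin 2) (Fin 2) F) 0 1) * hν

theorem sl2Twist_val (ν : Fˣ) (g : Matrix.SpecialLinearGroup (Fin 2) F) :
    ((sl2Twist ν g : Matrix.SpecialLinearGroup (Fin 2) F) : Matrix (Fin 2) (Fin 2) F) =
      !![(g : Matrix (Fin 2) (Fin 2) F) 0 0, (ν : F) * (g : Matrix (Fin 2) (Fin 2) F) 0 1;
        ((ν⁻¹ : Fˣ) : F) * (g : Matrix (Fin 2) (Fin 2) F) 1 0,
        (g : Matrix (Fin 2) (Fin 2) F) 1 1] := rfl

theorem sl2Twist_trace (ν : Fˣ) (g : Matrix.SpecialLinearGroup (Fin 2) F) :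
    Matrix.trace ((sl2Twist ν g : Matrix.SpecialLinearGroup (Fin 2) F) :
      Matrix (Fin 2) (Fin 2) F) = Matrix.trace (g : Matrix (Fin 2) (Fin 2) F) := by
  rw [sl2Twist_val, Matrix.trace_fin_two, Matrix.trace_fin_two]
  simp

theorem sl2Twist_unip (ν : Fˣ) (b : F) : sl2Twist ν (sl2Unip b) = sl2Unip ((ν : F) * b) := by
  apply Subtype.ext
  rw [sl2Twist_val, sl2Unip_val, sl2Unip_val]
  simp

theorem sl2Twist_neg_one (ν : Fˣ) : sl2Twist ν (sl2PM false (0 : F)) = sl2PM false 0 := by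
  apply Subtype.ext
  rw [sl2Twist_val, sl2PM_val]
  simp

theorem sl2Twist_eq_neg_one_iff (ν : Fˣ) (g : Matrix.SpecialLinearGroup (Fin 2) F) :
    sl2Twist ν g = sl2PM false 0 ↔ g = sl2PM false 0 := by
  constructor
  · intro h
    rw [← sl2Twist_neg_one ν] at h
    exact (sl2Twist ν).injective h
  · intro h
    rw [h, sl2Twist_neg_one]

theorem sl2Twist_mem_center (ν : Fˣ) (g : Matrix.SpecialLinearGroup (Fin 2) F) :
    sl2Twist ν g ∈ Subgroup.center (Matrix.SpecialLinearGroup (Fin 2) F) ↔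
      g ∈ Subgroup.center (Matrix.SpecialLinearGroup (Fin 2) F) := by
  rw [sl2_mem_center_iff, sl2_mem_center_iff, sl2Twist_eq_neg_one_iff, MulEquiv.map_eq_one_iff]

theorem sl2Twist_isConj [Fintype F] (ν : Fˣ) (g : Matrix.SpecialLinearGroup (Fin 2) F)
    (ht : (Matrix.trace (g : Matrix (Fin 2) (Fin 2) F)) ^ 2 ≠ 4) : IsConj (sl2Twist ν g) g :=
  sl2_isConj_of_trace_eq _ ht (sl2Comp_conj_all _ ht) _ _ (sl2Twist_trace ν g) rfl

theorem sq_eq_four_iff (t : F) : t ^ 2 = 4 ↔ t = 2 ∨ t = -2 := by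
  constructor
  · intro h
    have h3 : (t - 2) * (t + 2) = 0 := by linear_combination h
    rcases mul_eq_zero.mp h3 with h4 | h4
    · left; linear_combination h4
    · right; linear_combination h4
  · rintro (rfl | rfl) <;> norm_num

theorem sl2Unip_isConj_iff (h2 : (2 : F) ≠ 0) (b b' : Fˣ) :
    IsConj (sl2Unip (b : F)) (sl2Unip (b' : F)) ↔ IsSquare ((b : F) * b') := by
  have h1 := sl2Unip_conj_comp b
  have h1' := sl2Unip_conj_comp b'
  have h3 := sl2Comp_conj_iff_of_sq_eq_four h2 2 (by norm_num) (-b) (-b')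
  have e : (((-b : Fˣ)) : F) * ((-b' : Fˣ) : F) = (b : F) * b' := by
    simp
  rw [e] at h3
  rw [← h3]
  constructor
  · intro h
    exact (h1.symm.trans h).trans h1'
  · intro h
    exact (h1.trans h).trans h1'.symm

theorem sl2Psi_twist [Fintype F] [DecidableEq F] (ω : ℂ) (ν : Fˣ)
    (g : Matrix.SpecialLinearGroup (Fin 2) F) : sl2Psi ω (sl2Twist ν g) = sl2Psi ω g := by
  unfold sl2Psi
  rw [sl2Twist_trace]
  simp only [sl2Twist_eq_neg_one_iff, MulEquiv.map_eq_one_iff]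

theorem sl2R_twist [Fintype F] [DecidableEq F] (h2 : (2 : F) ≠ 0) (α : MulChar F ℂ) (ν : Fˣ)
    (g : Matrix.SpecialLinearGroup (Fin 2) F) : sl2R α (sl2Twist ν g) = sl2R α g := by
  by_cases ht : (Matrix.trace (g : Matrix (Fin 2) (Fin 2) F)) ^ 2 = 4
  · by_cases hc : g ∈ Subgroup.center (Matrix.SpecialLinearGroup (Fin 2) F)
    · rcases (sl2_mem_center_iff g).1 hc with rfl | rfl
      · rw [map_one]
      · rw [sl2Twist_neg_one]
    · have hc' : sl2Twist ν g ∉ Subgroup.center (Matrix.SpecialLinearGroup (Fin 2) F) :=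
        fun h => hc ((sl2Twist_mem_center ν g).1 h)
      have hns := fun h => hc ((sl2_mem_center_iff_scalar g).2 h)
      have hns' := fun h => hc' ((sl2_mem_center_iff_scalar _).2 h)
      rcases (sq_eq_four_iff _).1 ht with h | h
      · rw [sl2R_trace_two α g hns h,
          sl2R_trace_two α _ hns' (by rw [sl2Twist_trace]; exact h)]
      · rw [sl2R_trace_neg_two α g hns h,
          sl2R_trace_neg_two α _ hns' (by rw [sl2Twist_trace]; exact h)]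
  · exact sl2R_isConj α (sl2Twist_isConj ν g ht)

theorem sl2IndC_twist [Fintype F] [DecidableEq F] (h2 : (2 : F) ≠ 0)
    (C : Subgroup (Matrix.SpecialLinearGroup (Fin 2) F)) (hC : IsCyclic C)
    (hcard : Nat.card C = Fintype.card F + 1) (θ : C → ℂ) (ν : Fˣ)
    (g : Matrix.SpecialLinearGroup (Fin 2) F) :
    Cfsg.indFun C θ (sl2Twist ν g) = Cfsg.indFun C θ g := by
  by_cases ht : (Matrix.trace (g : Matrix (Fin 2) (Fin 2) F)) ^ 2 = 4
  · by_cases hc : g ∈ Subgroup.center (Matrix.SpecialLinearGroup (Fin 2) F)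
    · rcases (sl2_mem_center_iff g).1 hc with rfl | rfl
      · rw [map_one]
      · rw [sl2Twist_neg_one]
    · have hc' : sl2Twist ν g ∉ Subgroup.center (Matrix.SpecialLinearGroup (Fin 2) F) :=
        fun h => hc ((sl2Twist_mem_center ν g).1 h)
      have hroot : (Matrix.trace (g : Matrix (Fin 2) (Fin 2) F) / 2) ^ 2 -
          Matrix.trace (g : Matrix (Fin 2) (Fin 2) F) *
            (Matrix.trace (g : Matrix (Fin 2) (Fin 2) F) / 2) + 1 = 0 := by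
        field_simp
        linear_combination -ht
      rw [sl2IndC_root C hC hcard θ g hc _ hroot,
        sl2IndC_root C hC hcard θ _ hc' _ (by rw [sl2Twist_trace]; exact hroot)]
  · exact indFun_isConj C θ (sl2Twist_isConj ν g ht)

theorem sl2Cusp_twist [Fintype F] [DecidableEq F] (h2 : (2 : F) ≠ 0)
    (C : Subgroup (Matrix.SpecialLinearGroup (Fin 2) F)) (hC : IsCyclic C)
    (hcard : Nat.card C = Fintype.card F + 1) (θ : C →* ℂˣ) (ν : Fˣ)
    (g : Matrix.SpecialLinearGroup (Fin 2) F) :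
    sl2Cusp C θ (sl2Twist ν g) = sl2Cusp C θ g := by
  unfold sl2Cusp
  rw [Pi.sub_apply, Pi.sub_apply, sl2Psi_twist, sl2IndC_twist h2 C hC hcard]


theorem exists_sq_eq_one_ne_one {M : Type*} [Group M] [Fintype M] (h : 2 ∣ Fintype.card M) :
    ∃ x : M, x ^ 2 = 1 ∧ x ≠ 1 := by
  haveI : Fact (Nat.Prime 2) := ⟨Nat.prime_two⟩
  obtain ⟨x, hx⟩ := exists_prime_orderOf_dvd_card 2 h
  refine ⟨x, ?_, ?_⟩
  · rw [← hx]
    exact pow_orderOf_eq_one x
  · rintro rfl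
    rw [orderOf_one] at hx
    omega

section oddTable

variable [Fintype F] [DecidableEq F]

theorem mulChar_quadratic_unique (α α' : MulChar F ℂ) (hα : α ^ 2 = 1) (hα1 : α ≠ 1)
    (hα' : α' ^ 2 = 1) (hα'1 : α' ≠ 1) : α = α' := by
  obtain ⟨g, hg⟩ := IsCyclic.exists_generator (α := Fˣ)
  apply MulChar.mulEquivToUnitHom.injective
  apply cyclic_quadratic_unique g hg
  · rw [← map_pow, hα, map_one]
  · intro h
    apply hα1
    apply MulChar.mulEquivToUnitHom.injective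
    rw [h, map_one]
  · rw [← map_pow, hα', map_one]
  · intro h
    apply hα'1
    apply MulChar.mulEquivToUnitHom.injective
    rw [h, map_one]

theorem exists_quadratic_mulChar (hodd : Odd (Fintype.card F)) :
    ∃ α : MulChar F ℂ, α ^ 2 = 1 ∧ α ≠ 1 := by
  haveI : Fintype (MulChar F ℂ) := Fintype.ofFinite _
  apply exists_sq_eq_one_ne_one
  haveI : NeZero (Monoid.exponent Fˣ) := ⟨Monoid.exponent_ne_zero_of_finite⟩
  rw [← Nat.card_eq_fintype_card, MulChar.card_eq_card_units_of_hasEnoughRootsOfUnity F ℂ,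
    Nat.card_eq_fintype_card, Fintype.card_units]
  obtain ⟨k, hk⟩ := hodd
  exact ⟨k, by omega⟩

theorem exists_quadratic_torusChar (hodd : Odd (Fintype.card F))
    (C : Subgroup (Matrix.SpecialLinearGroup (Fin 2) F)) (hC : IsCyclic C)
    (hcard : Nat.card C = Fintype.card F + 1) :
    ∃ θ : C →* ℂˣ, θ ^ 2 = 1 ∧ θ ≠ 1 := by
  haveI : Fintype (C →* ℂˣ) := Fintype.ofFinite _
  apply exists_sq_eq_one_ne_one
  have e : Nat.card (C →* ℂˣ) = Nat.card C := by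
    letI : CommGroup C := hC.commGroup
    exact CommGroup.card_monoidHom_of_hasEnoughRootsOfUnity C ℂ
  rw [← Nat.card_eq_fintype_card, e, hcard]
  obtain ⟨k, hk⟩ := hodd
  exact ⟨k + 1, by omega⟩

theorem sl2_trace_unip (b : F) : Matrix.trace ((sl2Unip b : Matrix.SpecialLinearGroup (Fin 2) F) :
    Matrix (Fin 2) (Fin 2) F) = 2 := by
  rw [sl2Unip_val, Matrix.trace_fin_two]
  simp
  norm_num

theorem sl2_twist_hyps (h2 : (2 : F) ≠ 0) (ν : Fˣ) (hν : ¬ IsSquare (ν : F)) :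
    ¬ IsConj (sl2Twist ν (sl2Unip 1)) (sl2Unip (1 : F)) ∧
    ¬ IsConj (sl2PM false 0 * sl2Unip 1) (sl2Unip (1 : F)) ∧
    ¬ IsConj (sl2PM false 0 * sl2Twist ν (sl2Unip 1)) (sl2Unip (1 : F)) := by
  refine ⟨?_, ?_, ?_⟩
  · rw [sl2Twist_unip, mul_one]
    intro h
    have h3 := (sl2Unip_isConj_iff h2 ν 1).1 (by simpa using h)
    apply hν
    simpa using h3
  · intro h
    have h3 := sl2_conj_trace h
    rw [sl2_trace_neg, sl2_trace_unip] at h3
    exact two_ne_neg_two h2 h3.symm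
  · intro h
    have h3 := sl2_conj_trace h
    rw [sl2_trace_neg, sl2Twist_trace, sl2_trace_unip] at h3
    exact two_ne_neg_two h2 h3.symm

variable (hodd : Odd (Fintype.card F)) (C : Subgroup (Matrix.SpecialLinearGroup (Fin 2) F))
  (hC : IsCyclic C) (hcard : Nat.card C = Fintype.card F + 1)

include hodd hC hcard in
theorem sl2_half_R_odd (ν : Fˣ) (hν : ¬ IsSquare (ν : F)) (α₀ : MulChar F ℂ) (hα₀ : α₀ ^ 2 = 1)
    (hα₀1 : α₀ ≠ 1) {χ : Matrix.SpecialLinearGroup (Fin 2) F → ℂ}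
    (hχ : Cfsg.IsIrrCharacter (Matrix.SpecialLinearGroup (Fin 2) F) χ)
    (hne : Cfsg.classInner (sl2R α₀) χ ≠ 0) :
    χ 1 = ((Fintype.card F : ℂ) + 1) / 2 ∧ χ ∘ sl2Twist ν ≠ χ ∧
      Cfsg.IsIrrCharacter (Matrix.SpecialLinearGroup (Fin 2) F) (χ ∘ sl2Twist ν) ∧
      sl2R α₀ = χ + χ ∘ sl2Twist ν ∧
      (χ (sl2Unip 1) - χ (sl2Unip (ν : F))) * conj (χ (sl2Unip 1) - χ (sl2Unip (ν : F))) =
        Fintype.card F := by
  haveI : Fintype (MulChar F ℂ) := Fintype.ofFinite _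
  haveI : Fintype (C →* ℂˣ) := Fintype.ofFinite _
  have h2 : (2 : F) ≠ 0 := two_ne_zero_of_odd_card hodd
  have D := sl2_dlData_odd C hodd hC hcard
  obtain ⟨θ₀, hθ₀, hθ₀1⟩ := exists_quadratic_torusChar hodd C hC hcard
  obtain ⟨hu1, hu2, hu3⟩ := sl2_twist_hyps h2 ν hν
  have key := D.twist_R (sl2Twist ν) (fun α g => sl2R_twist h2 α ν g)
    (fun θ g => sl2Cusp_twist h2 C hC hcard θ ν g) (sl2Unip 1) hu1 hu2 hu3
    (card_centralizer_sl2Unip h2 1 one_ne_zero) mulChar_quadratic_unique α₀ hα₀ hα₀1 θ₀ hθ₀ hθ₀1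
    hχ hne
  rw [sl2Twist_unip, mul_one] at key
  exact ⟨(D.half_R α₀ hα₀ hα₀1 hχ hne).1, key.1, isIrrCharacter_comp_equiv _ hχ, key.2.1, key.2.2⟩

include hodd hC hcard in
theorem sl2_half_P_odd (ν : Fˣ) (hν : ¬ IsSquare (ν : F)) (θ₀ : C →* ℂˣ) (hθ₀ : θ₀ ^ 2 = 1)
    (hθ₀1 : θ₀ ≠ 1) {χ : Matrix.SpecialLinearGroup (Fin 2) F → ℂ}
    (hχ : Cfsg.IsIrrCharacter (Matrix.SpecialLinearGroup (Fin 2) F) χ)
    (hne : Cfsg.classInner (sl2Cusp C θ₀) χ ≠ 0) :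
    χ 1 = ((Fintype.card F : ℂ) - 1) / 2 ∧ χ ∘ sl2Twist ν ≠ χ ∧
      Cfsg.IsIrrCharacter (Matrix.SpecialLinearGroup (Fin 2) F) (χ ∘ sl2Twist ν) ∧
      sl2Cusp C θ₀ = χ + χ ∘ sl2Twist ν ∧
      (χ (sl2Unip 1) - χ (sl2Unip (ν : F))) * conj (χ (sl2Unip 1) - χ (sl2Unip (ν : F))) =
        Fintype.card F := by
  haveI : Fintype (MulChar F ℂ) := Fintype.ofFinite _
  haveI : Fintype (C →* ℂˣ) := Fintype.ofFinite _
  have h2 : (2 : F) ≠ 0 := two_ne_zero_of_odd_card hodd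
  have D := sl2_dlData_odd C hodd hC hcard
  obtain ⟨α₀, hα₀, hα₀1⟩ := exists_quadratic_mulChar (F := F) hodd
  obtain ⟨hu1, hu2, hu3⟩ := sl2_twist_hyps h2 ν hν
  have key := D.twist_P (sl2Twist ν) (fun α g => sl2R_twist h2 α ν g)
    (fun θ g => sl2Cusp_twist h2 C hC hcard θ ν g) (sl2Unip 1) hu1 hu2 hu3
    (card_centralizer_sl2Unip h2 1 one_ne_zero) mulChar_quadratic_unique α₀ hα₀ hα₀1 θ₀ hθ₀ hθ₀1
    hχ hne
  rw [sl2Twist_unip, mul_one] at key
  exact ⟨(D.half_P θ₀ hθ₀ hθ₀1 hχ hne).1, key.1, isIrrCharacter_comp_equiv _ hχ, key.2.1, key.2.2⟩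

include hodd hC hcard in
theorem sl2_irr_odd {χ : Matrix.SpecialLinearGroup (Fin 2) F → ℂ}
    (hχ : Cfsg.IsIrrCharacter (Matrix.SpecialLinearGroup (Fin 2) F) χ) :
    χ = (fun _ => (1 : ℂ)) ∨ χ = (sl2R 1 - fun _ => (1 : ℂ)) ∨
      (∃ α : MulChar F ℂ, α ^ 2 ≠ 1 ∧ χ = sl2R α) ∨
      (∃ θ : C →* ℂˣ, θ ^ 2 ≠ 1 ∧ χ = sl2Cusp C θ) ∨
      (∃ α : MulChar F ℂ, α ^ 2 = 1 ∧ α ≠ 1 ∧ Cfsg.classInner (sl2R α) χ ≠ 0) ∨
      (∃ θ : C →* ℂˣ, θ ^ 2 = 1 ∧ θ ≠ 1 ∧ Cfsg.classInner (sl2Cusp C θ) χ ≠ 0) := by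
  haveI : Fintype (MulChar F ℂ) := Fintype.ofFinite _
  haveI : Fintype (C →* ℂˣ) := Fintype.ofFinite _
  exact (sl2_dlData_odd C hodd hC hcard).classify hχ

end oddTable

end Cfsg.Agent.Lib.Helper4
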