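import Mathlib
import Cfsg.Prelude.Def_Characters
import Cfsg.Agent.Lib.Helper4.SL2CharF

set_option autoImplicit false

namespace Cfsg.Agent.Lib.Helper4

open scoped ComplexConjugate

variable {F : Type*} [Field F]

theorem sl2_exists_torus_odd [Fintype F] (hodd : Odd (Fintype.card F)) :
    ∃ C : Subgroup (Matrix.SpecialLinearGroup (Fin 2) F), IsCyclic C ∧
      Nat.card C = Fintype.card F + 1 := by
  obtain ⟨t, ht⟩ := exists_trace_no_root_odd (F := F) hodd
  refine ⟨Subgroup.centralizer ({sl2Comp t 1} : Set (Matrix.SpecialLinearGroup (Fin 2) F)),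
    isCyclic_centralizer_sl2Comp_of_no_root t ht, ?_⟩
  apply sl2_card_centralizer_of_no_root
  have htr : Matrix.trace ((sl2Comp t 1 : Matrix.SpecialLinearGroup (Fin 2) F) :
      Matrix (Fin 2) (Fin 2) F) = t := by
    rw [sl2Comp_val, Matrix.trace_fin_two]
    simp
  rw [htr]
  exact ht

theorem sl2_exists_nonsquare_unit [Fintype F] (hodd : Odd (Fintype.card F)) :
    ∃ ν : Fˣ, ¬ IsSquare (ν : F) := by
  have hchar : ringChar F ≠ 2 := by
    intro h
    have := FiniteField.even_card_of_char_two h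
    rcases hodd with ⟨k, hk⟩
    omega
  obtain ⟨a, ha⟩ := FiniteField.exists_nonsquare hchar
  have ha0 : a ≠ 0 := by
    rintro rfl
    exact ha ⟨0, by simp⟩
  exact ⟨Units.mk0 a ha0, ha⟩

/-- The diagonal matrix `diag(ν, 1)` in `GL₂`. -/
noncomputable def gl2Diag (ν : Fˣ) : Matrix.GeneralLinearGroup (Fin 2) F :=
  Matrix.GeneralLinearGroup.mkOfDetNeZero !![(ν : F), 0; 0, 1]
    (by simp [Matrix.det_fin_two])

theorem gl2Diag_val (ν : Fˣ) :
    ((gl2Diag ν : Matrix.GeneralLinearGroup (Fin 2) F) : Matrix (Fin 2) (Fin 2) F) =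
      !![(ν : F), 0; 0, 1] := rfl

theorem sl2Twist_of_toGL (ν : Fˣ) (g h : Matrix.SpecialLinearGroup (Fin 2) F)
    (hh : Matrix.SpecialLinearGroup.toGL h =
      gl2Diag ν * Matrix.SpecialLinearGroup.toGL g * (gl2Diag ν)⁻¹) : h = sl2Twist ν g := by
  have h1 : Matrix.SpecialLinearGroup.toGL h * gl2Diag ν =
      gl2Diag ν * Matrix.SpecialLinearGroup.toGL g := by
    rw [hh, inv_mul_cancel_right]
  have h2 := congrArg (fun M : Matrix.GeneralLinearGroup (Fin 2) F =>
    (M : Matrix (Fin 2) (Fin 2) F)) h1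
  simp only [Units.val_mul, gl2Diag_val] at h2
  have eh : ((Matrix.SpecialLinearGroup.toGL h : Matrix.GeneralLinearGroup (Fin 2) F) :
      Matrix (Fin 2) (Fin 2) F) = (h : Matrix (Fin 2) (Fin 2) F) := rfl
  have eg : ((Matrix.SpecialLinearGroup.toGL g : Matrix.GeneralLinearGroup (Fin 2) F) :
      Matrix (Fin 2) (Fin 2) F) = (g : Matrix (Fin 2) (Fin 2) F) := rfl
  rw [eh, eg] at h2
  have hν : (ν : F) ≠ 0 := ν.ne_zero
  have e00 := congrFun (congrFun h2 0) 0
  have e01 := congrFun (congrFun h2 0) 1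
  have e10 := congrFun (congrFun h2 1) 0
  have e11 := congrFun (congrFun h2 1) 1
  simp only [Matrix.mul_apply, Fin.sum_univ_two, Matrix.of_apply, Matrix.cons_val_zero,
    Matrix.cons_val_one, Matrix.cons_val', Matrix.empty_val', Matrix.cons_val_fin_one,
    mul_zero, add_zero, zero_add, mul_one, one_mul, zero_mul] at e00 e01 e10 e11
  apply Subtype.ext
  rw [sl2Twist_val]
  refine (Matrix.eta_fin_two (h : Matrix (Fin 2) (Fin 2) F)).trans ?_
  have f00 : (h : Matrix (Fin 2) (Fin 2) F) 0 0 = (g : Matrix (Fin 2) (Fin 2) F) 0 0 := by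
    apply mul_right_cancel₀ hν
    rw [e00, mul_comm]
  have f10 : (h : Matrix (Fin 2) (Fin 2) F) 1 0 =
      ((ν⁻¹ : Fˣ) : F) * (g : Matrix (Fin 2) (Fin 2) F) 1 0 := by
    rw [← e10, mul_comm, mul_assoc, ← Units.val_mul, mul_inv_cancel, Units.val_one, mul_one]
  rw [f00, e01, f10, e11]

theorem half_cast_add {q : ℕ} (hodd : Odd q) : (((q + 1) / 2 : ℕ) : ℂ) = ((q : ℂ) + 1) / 2 := by
  obtain ⟨k, rfl⟩ := hodd
  have : (2 * k + 1 + 1) / 2 = k + 1 := by omega
  rw [this]
  push_cast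
  ring

theorem half_cast_sub {q : ℕ} (hodd : Odd q) : (((q - 1) / 2 : ℕ) : ℂ) = ((q : ℂ) - 1) / 2 := by
  obtain ⟨k, rfl⟩ := hodd
  have : (2 * k + 1 - 1) / 2 = k := by omega
  rw [this]
  push_cast
  ring

end Cfsg.Agent.Lib.Helper4
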