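import Mathlib
import Cfsg.Prelude.Def_Characters
import Cfsg.Agent.Lib.Helper4.SL2CharG

set_option autoImplicit false

namespace Cfsg.Agent.Lib.Helper4

open scoped ComplexConjugate

section cyc

variable {H : Type*} [Group H] [Fintype H]

theorem cyclic_quadratic_apply_pow (g : H) (hg : ∀ x : H, x ∈ Subgroup.zpowers g)
    (θ : H →* ℂˣ) (hθ : θ ^ 2 = 1) (hne : θ ≠ 1) (n : ℕ) (hn : Fintype.card H = 2 * n) (x : H) :
    (x ^ n = 1 → θ x = 1) ∧ (x ^ n ≠ 1 → θ x = -1) := by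
  have hord : orderOf g = 2 * n := by
    rw [← hn, ← Nat.card_eq_fintype_card, orderOf_eq_card_of_forall_mem_zpowers hg]
  have hn0 : n ≠ 0 := by
    rintro rfl
    have : Fintype.card H ≠ 0 := Fintype.card_ne_zero
    omega
  obtain ⟨k, rfl⟩ := Subgroup.mem_zpowers_iff.mp (hg x)
  rw [map_zpow, cyclic_quadratic_apply g hg θ hθ hne]
  constructor
  · intro h1
    have h2 : ((2 * n : ℕ) : ℤ) ∣ k * n := by
      rw [← hord]
      apply orderOf_dvd_iff_zpow_eq_one.mpr
      rw [zpow_mul, zpow_natCast]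
      exact h1
    obtain ⟨j, hj⟩ := h2
    have hk : k = 2 * j := by
      have hn' : (n : ℤ) ≠ 0 := by exact_mod_cast hn0
      apply mul_right_cancel₀ hn'
      rw [hj]
      push_cast
      ring
    rw [hk, zpow_mul]
    simp
  · intro h1
    have hk : Odd k := by
      by_contra hk
      rw [Int.not_odd_iff_even] at hk
      obtain ⟨m, rfl⟩ := hk
      apply h1
      rw [← zpow_natCast, ← zpow_mul]
      have : (m + m) * (n : ℤ) = ((2 * n : ℕ) : ℤ) * m := by push_cast; ring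
      rw [this, zpow_mul, ← hord, zpow_natCast, pow_orderOf_eq_one, one_zpow]
    exact Odd.neg_one_zpow hk

end cyc

variable {F : Type*} [Field F] [Fintype F] [DecidableEq F]

theorem mulChar_quadratic_apply (hodd : Odd (Fintype.card F)) (α : MulChar F ℂ)
    (hα : α ^ 2 = 1) (hne : α ≠ 1) (a : F) (ha : a ≠ 0) :
    (IsSquare a → α a = 1) ∧ (¬ IsSquare a → α a = -1) := by
  have hchar : ringChar F ≠ 2 := by
    intro h
    have := FiniteField.even_card_of_char_two h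
    rcases hodd with ⟨k, hk⟩
    omega
  obtain ⟨g, hg⟩ := IsCyclic.exists_generator (α := Fˣ)
  have h1 : (MulChar.mulEquivToUnitHom α) ^ 2 = 1 := by
    rw [← map_pow, hα, map_one]
  have h3 : MulChar.mulEquivToUnitHom α ≠ 1 := by
    intro h
    apply hne
    apply MulChar.mulEquivToUnitHom.injective
    rw [h, map_one]
  have hcard : Fintype.card Fˣ = 2 * (Fintype.card F / 2) := by
    rw [Fintype.card_units]
    obtain ⟨k, hk⟩ := hodd
    omega
  have h4 := cyclic_quadratic_apply_pow g hg _ h1 h3 _ hcard (Units.mk0 a ha)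
  have e : α a = ((MulChar.mulEquivToUnitHom α (Units.mk0 a ha) : ℂˣ) : ℂ) := by
    show α a = ((α.toUnitHom (Units.mk0 a ha) : ℂˣ) : ℂ)
    rw [MulChar.coe_toUnitHom]
    rfl
  have hsq := FiniteField.isSquare_iff hchar ha
  have e2 : (Units.mk0 a ha) ^ (Fintype.card F / 2) = 1 ↔ a ^ (Fintype.card F / 2) = 1 := by
    rw [Units.ext_iff, Units.val_pow_eq_pow_val, Units.val_one]
    rfl
  constructor
  · intro hs
    rw [e, h4.1 (e2.2 (hsq.1 hs)), Units.val_one]
  · intro hs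
    rw [e, h4.2 (fun h => hs (hsq.2 (e2.1 h))), Units.val_neg, Units.val_one]

section values

variable (C : Subgroup (Matrix.SpecialLinearGroup (Fin 2) F))
  (hC : IsCyclic C) (hcard : Nat.card C = Fintype.card F + 1)

include hC hcard in
theorem torusChar_quadratic_apply (hodd : Odd (Fintype.card F)) (θ : C →* ℂˣ)
    (hθ : θ ^ 2 = 1) (hne : θ ≠ 1) (c : C) :
    (c ^ ((Fintype.card F + 1) / 2) = 1 → ((θ c : ℂˣ) : ℂ) = 1) ∧
    (c ^ ((Fintype.card F + 1) / 2) ≠ 1 → ((θ c : ℂˣ) : ℂ) = -1) := by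
  haveI : Fintype C := Fintype.ofFinite C
  obtain ⟨g, hg⟩ := IsCyclic.exists_generator (α := C)
  have hcard' : Fintype.card C = 2 * ((Fintype.card F + 1) / 2) := by
    rw [← Nat.card_eq_fintype_card, hcard]
    obtain ⟨k, hk⟩ := hodd
    omega
  have h4 := cyclic_quadratic_apply_pow g hg θ hθ hne _ hcard' c
  constructor
  · intro h
    rw [h4.1 h, Units.val_one]
  · intro h
    rw [h4.2 h, Units.val_neg, Units.val_one]

include hC hcard in
theorem sl2Cusp_trace_two (h2 : (2 : F) ≠ 0) (θ : C →* ℂˣ)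
    (g : Matrix.SpecialLinearGroup (Fin 2) F) (hg : g ≠ 1)
    (ht : Matrix.trace (g : Matrix (Fin 2) (Fin 2) F) = 2) : sl2Cusp C θ g = -1 := by
  unfold sl2Cusp
  have hc : g ∉ Subgroup.center (Matrix.SpecialLinearGroup (Fin 2) F) := by
    rw [sl2_mem_center_iff]
    rintro (h | h)
    · exact hg h
    · rw [h, sl2_trace_neg_one] at ht
      exact two_ne_neg_two h2 ht.symm
  rw [Pi.sub_apply, sl2Psi_trace_two h2 _ g hg ht,
    sl2IndC_root C hC hcard _ g hc 1 (by rw [ht]; ring), sub_zero]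

include hC hcard in
theorem sl2Cusp_split (θ : C →* ℂˣ) (g : Matrix.SpecialLinearGroup (Fin 2) F)
    (ht : (Matrix.trace (g : Matrix (Fin 2) (Fin 2) F)) ^ 2 ≠ 4) (a : F)
    (ha : a ^ 2 - Matrix.trace (g : Matrix (Fin 2) (Fin 2) F) * a + 1 = 0) :
    sl2Cusp C θ g = 0 := by
  unfold sl2Cusp
  have hc : g ∉ Subgroup.center (Matrix.SpecialLinearGroup (Fin 2) F) :=
    fun h => sl2_nonscalar_of_trace g ht ((sl2_mem_center_iff_scalar g).1 h)
  rw [Pi.sub_apply, sl2Psi_of_sq_ne_four _ g ht, sl2IndC_root C hC hcard _ g hc a ha, sub_zero]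

include hC hcard in
theorem sl2Cusp_torus (θ : C →* ℂˣ) (c : C)
    (hc : (c : Matrix.SpecialLinearGroup (Fin 2) F) ∉
      Subgroup.center (Matrix.SpecialLinearGroup (Fin 2) F)) :
    sl2Cusp C θ c = -(((θ c : ℂˣ) : ℂ) + (((θ c)⁻¹ : ℂˣ) : ℂ)) := by
  unfold sl2Cusp
  have hns := fun h => hc ((sl2_mem_center_iff_scalar _).2 h)
  have hnr := (sl2_torus_elt C hC hcard _ c.2 hns).1
  rw [Pi.sub_apply, sl2Psi_of_sq_ne_four _ _ (sq_ne_four_of_no_root _ hnr),
    sl2IndC_noncentral C hC hcard _ c hc, map_inv]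
  ring

theorem sl2Cusp_isConj (θ : C →* ℂˣ) {g g' : Matrix.SpecialLinearGroup (Fin 2) F}
    (h : IsConj g g') : sl2Cusp C θ g = sl2Cusp C θ g' := by
  unfold sl2Cusp
  rw [Pi.sub_apply, Pi.sub_apply, indFun_isConj C _ h]
  obtain ⟨c, rfl⟩ := isConj_iff.mp h
  rw [sl2Psi_classFun _ g c]

include hC hcard in
theorem sl2_conj_into_torus (hodd : Odd (Fintype.card F))
    (g : Matrix.SpecialLinearGroup (Fin 2) F)
    (hnr : ∀ a : F, a ^ 2 - Matrix.trace (g : Matrix (Fin 2) (Fin 2) F) * a + 1 ≠ 0) :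
    ∃ c : C, IsConj g (c : Matrix.SpecialLinearGroup (Fin 2) F) := by
  haveI : Fintype (MulChar F ℂ) := Fintype.ofFinite _
  haveI : Fintype (C →* ℂˣ) := Fintype.ofFinite _
  have D := sl2_dlData_odd C hodd hC hcard
  have h1 := congrFun D.P_one_eq g
  simp only [Pi.sub_apply, Pi.smul_apply, smul_eq_mul, mul_one] at h1
  rw [sl2R_no_root 1 g hnr] at h1
  unfold sl2Cusp at h1
  rw [Pi.sub_apply, sl2Psi_of_sq_ne_four _ g (sq_ne_four_of_no_root _ hnr)] at h1
  by_contra hcon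
  push Not at hcon
  have h0 : Cfsg.indFun C (fun c => (((1 : C →* ℂˣ) c : ℂˣ) : ℂ)) g = 0 := by
    unfold Cfsg.indFun
    rw [Finset.sum_eq_zero, mul_zero]
    intro x _
    apply extendByZero_not_mem
    intro hm
    exact hcon ⟨_, hm⟩ (isConj_iff.2 ⟨x⁻¹, by simp⟩)
  rw [h0] at h1
  norm_num at h1

include hC hcard in
theorem sl2Cusp_no_root (hodd : Odd (Fintype.card F)) (θ : C →* ℂˣ)
    (g : Matrix.SpecialLinearGroup (Fin 2) F)
    (hnr : ∀ a : F, a ^ 2 - Matrix.trace (g : Matrix (Fin 2) (Fin 2) F) * a + 1 ≠ 0) :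
    ∃ c : C, (c : Matrix.SpecialLinearGroup (Fin 2) F) ∉
        Subgroup.center (Matrix.SpecialLinearGroup (Fin 2) F) ∧
      IsConj g (c : Matrix.SpecialLinearGroup (Fin 2) F) ∧
      sl2Cusp C θ g = -(((θ c : ℂˣ) : ℂ) + (((θ c)⁻¹ : ℂˣ) : ℂ)) := by
  obtain ⟨c, hc⟩ := sl2_conj_into_torus C hC hcard hodd g hnr
  have htr := sl2_conj_trace hc
  have hcc : (c : Matrix.SpecialLinearGroup (Fin 2) F) ∉
      Subgroup.center (Matrix.SpecialLinearGroup (Fin 2) F) := by
    intro h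
    have hnr' := hnr
    rw [htr] at hnr'
    exact sl2_nonscalar_of_trace _ (sq_ne_four_of_no_root _ hnr')
      ((sl2_mem_center_iff_scalar _).1 h)
  exact ⟨c, hcc, hc, by rw [sl2Cusp_isConj C θ hc, sl2Cusp_torus C hC hcard θ c hcc]⟩

end values

end Cfsg.Agent.Lib.Helper4
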