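import Mathlib
import Cfsg.Prelude.Def_Characters
import Cfsg.Agent.Lib.Helper4.SL2CharH

set_option autoImplicit false

namespace Cfsg.Agent.Lib.Helper4

open scoped ComplexConjugate

theorem classFun_isConj {G : Type*} [Group G] {f : G → ℂ} (hf : Cfsg.IsClassFunction G f)
    {g g' : G} (h : IsConj g g') : f g = f g' := by
  obtain ⟨c, rfl⟩ := isConj_iff.mp h
  exact (hf g c).symm

variable {F : Type*} [Field F] [Fintype F] [DecidableEq F]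

theorem sl2_half_value (ν : Fˣ) {ψ χ : Matrix.SpecialLinearGroup (Fin 2) F → ℂ}
    (hχ : Cfsg.IsIrrCharacter (Matrix.SpecialLinearGroup (Fin 2) F) χ)
    (hsum : ψ = χ + χ ∘ sl2Twist ν) (g : Matrix.SpecialLinearGroup (Fin 2) F)
    (ht : (Matrix.trace (g : Matrix (Fin 2) (Fin 2) F)) ^ 2 ≠ 4) : χ g = ψ g / 2 := by
  have h1 : χ (sl2Twist ν g) = χ g :=
    classFun_isConj (Lead.isClassFunction_of_irr hχ) (sl2Twist_isConj ν g ht)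
  rw [hsum, Pi.add_apply, Function.comp_apply, h1]
  ring

section cases

variable (hodd : Odd (Fintype.card F)) (C : Subgroup (Matrix.SpecialLinearGroup (Fin 2) F))
  (hC : IsCyclic C) (hcard : Nat.card C = Fintype.card F + 1)

include hodd hC hcard in
theorem sl2_irr_odd_cases (ν : Fˣ) (hν : ¬ IsSquare (ν : F))
    {χ : Matrix.SpecialLinearGroup (Fin 2) F → ℂ}
    (hχ : Cfsg.IsIrrCharacter (Matrix.SpecialLinearGroup (Fin 2) F) χ) :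
    ∃ d : ℕ, χ 1 = (d : ℂ) ∧
      ((d = 1 ∧ χ = fun _ => (1 : ℂ)) ∨
       (d = Fintype.card F ∧ χ = sl2R 1 - fun _ => (1 : ℂ)) ∨
       (d = Fintype.card F + 1 ∧ ∃ α : MulChar F ℂ, α ^ 2 ≠ 1 ∧ χ = sl2R α) ∨
       (d = Fintype.card F - 1 ∧ ∃ θ : C →* ℂˣ, θ ^ 2 ≠ 1 ∧ χ = sl2Cusp C θ) ∨
       (d = (Fintype.card F + 1) / 2 ∧ ∃ α : MulChar F ℂ, α ^ 2 = 1 ∧ α ≠ 1 ∧
          Cfsg.classInner (sl2R α) χ ≠ 0 ∧ χ ∘ sl2Twist ν ≠ χ ∧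
          Cfsg.IsIrrCharacter (Matrix.SpecialLinearGroup (Fin 2) F) (χ ∘ sl2Twist ν) ∧
          sl2R α = χ + χ ∘ sl2Twist ν ∧
          (χ (sl2Unip 1) - χ (sl2Unip (ν : F))) *
            conj (χ (sl2Unip 1) - χ (sl2Unip (ν : F))) = Fintype.card F) ∨
       (d = (Fintype.card F - 1) / 2 ∧ ∃ θ : C →* ℂˣ, θ ^ 2 = 1 ∧ θ ≠ 1 ∧
          Cfsg.classInner (sl2Cusp C θ) χ ≠ 0 ∧ χ ∘ sl2Twist ν ≠ χ ∧
          Cfsg.IsIrrCharacter (Matrix.SpecialLinearGroup (Fin 2) F) (χ ∘ sl2Twist ν) ∧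
          sl2Cusp C θ = χ + χ ∘ sl2Twist ν ∧
          (χ (sl2Unip 1) - χ (sl2Unip (ν : F))) *
            conj (χ (sl2Unip 1) - χ (sl2Unip (ν : F))) = Fintype.card F)) := by
  have h2 : (2 : F) ≠ 0 := two_ne_zero_of_odd_card hodd
  have hq1 : 1 ≤ Fintype.card F := Fintype.card_pos
  rcases sl2_irr_odd hodd C hC hcard hχ with h | h | ⟨α, hα, h⟩ | ⟨θ, hθ, h⟩ | ⟨α, hα, hα1, h⟩ |
    ⟨θ, hθ, hθ1, h⟩
  · exact ⟨1, by rw [h]; simp, Or.inl ⟨rfl, h⟩⟩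
  · refine ⟨Fintype.card F, ?_, Or.inr (Or.inl ⟨rfl, h⟩)⟩
    rw [h, Pi.sub_apply, sl2R_apply_one]
    ring
  · refine ⟨Fintype.card F + 1, ?_, Or.inr (Or.inr (Or.inl ⟨rfl, α, hα, h⟩))⟩
    rw [h, sl2R_apply_one]
    push_cast
    ring
  · refine ⟨Fintype.card F - 1, ?_, Or.inr (Or.inr (Or.inr (Or.inl ⟨rfl, θ, hθ, h⟩)))⟩
    rw [h, sl2Cusp_one C hcard h2, Nat.cast_sub hq1]
    simp
  · obtain ⟨hd, k1, k2, k3, k4⟩ := sl2_half_R_odd hodd C hC hcard ν hν α hα hα1 hχ h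
    refine ⟨(Fintype.card F + 1) / 2, ?_, Or.inr (Or.inr (Or.inr (Or.inr (Or.inl
      ⟨rfl, α, hα, hα1, h, k1, k2, k3, k4⟩))))⟩
    rw [hd, half_cast_add hodd]
  · obtain ⟨hd, k1, k2, k3, k4⟩ := sl2_half_P_odd hodd C hC hcard ν hν θ hθ hθ1 hχ h
    refine ⟨(Fintype.card F - 1) / 2, ?_, Or.inr (Or.inr (Or.inr (Or.inr (Or.inr
      ⟨rfl, θ, hθ, hθ1, h, k1, k2, k3, k4⟩))))⟩
    rw [hd, half_cast_sub hodd]

end cases

theorem nat_eq_of_cast_add_one {d q : ℕ} (h : (d : ℂ) = (q : ℂ) + 1) : d = q + 1 := by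
  have : (d : ℂ) = ((q + 1 : ℕ) : ℂ) := by rw [h]; push_cast; ring
  exact_mod_cast this

theorem nat_eq_of_cast_sub_one {d q : ℕ} (hq : 1 ≤ q) (h : (d : ℂ) = (q : ℂ) - 1) :
    d = q - 1 := by
  have : (d : ℂ) = ((q - 1 : ℕ) : ℂ) := by rw [h, Nat.cast_sub hq]; simp
  exact_mod_cast this

end Cfsg.Agent.Lib.Helper4
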