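import Mathlib
import Cfsg.Agent.Lib.Helper4.SL2Nonsplit

set_option autoImplicit false

namespace Cfsg.Agent.Lib.Helper4

variable {F : Type*} [Field F]

theorem sl2Unip_mul (b c : F) : sl2Unip b * sl2Unip c = sl2Unip (b + c) := by
  apply Subtype.ext
  rw [Matrix.SpecialLinearGroup.coe_mul, sl2Unip_val, sl2Unip_val, sl2Unip_val]
  ext i j
  fin_cases i <;> fin_cases j <;> simp [Matrix.mul_apply, Fin.sum_univ_two, add_comm]

theorem sl2Unip_zero : sl2Unip (0 : F) = 1 := by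
  apply Subtype.ext
  rw [sl2Unip_val, Matrix.SpecialLinearGroup.coe_one]
  simp [Matrix.one_fin_two]

theorem sl2Unip_injective : Function.Injective (sl2Unip (F := F)) := by
  intro b c h
  have h1 := congrArg (fun M : Matrix.SpecialLinearGroup (Fin 2) F =>
    (M : Matrix (Fin 2) (Fin 2) F) 0 1) h
  simpa [sl2Unip_val] using h1

/-- The upper unitriangular subgroup of `SL₂`. -/
def sl2UnipSubgroup : Subgroup (Matrix.SpecialLinearGroup (Fin 2) F) where
  carrier := Set.range sl2Unip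
  mul_mem' := by
    rintro _ _ ⟨b, rfl⟩ ⟨c, rfl⟩
    exact ⟨b + c, (sl2Unip_mul b c).symm⟩
  one_mem' := ⟨0, sl2Unip_zero⟩
  inv_mem' := by
    rintro _ ⟨b, rfl⟩
    refine ⟨-b, ?_⟩
    apply eq_inv_of_mul_eq_one_left
    rw [sl2Unip_mul, neg_add_cancel, sl2Unip_zero]

theorem mem_sl2UnipSubgroup (g : Matrix.SpecialLinearGroup (Fin 2) F) :
    g ∈ sl2UnipSubgroup ↔ ∃ b : F, sl2Unip b = g := Iff.rfl

theorem card_sl2UnipSubgroup [Fintype F] :
    Nat.card (sl2UnipSubgroup (F := F)) = Fintype.card F := by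
  rw [← Nat.card_eq_fintype_card]
  exact (Nat.card_congr (Equiv.ofInjective sl2Unip sl2Unip_injective)).symm

/-- Elements of the non-split torus with prescribed direction. -/
theorem sl2_torus_scale [Fintype F] [CharP F 2] (t : F) (hnr : ∀ a : F, a ^ 2 - t * a + 1 ≠ 0)
    (α β : F) (hne : ¬ (α = 0 ∧ β = 0)) :
    ∃ (c : Matrix.SpecialLinearGroup (Fin 2) F) (l : F), l ≠ 0 ∧
      (c : Matrix (Fin 2) (Fin 2) F) = !![l * α, -(l * β); l * β, l * α + l * β * t] ∧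
      c * sl2Comp t 1 = sl2Comp t 1 * c := by
  have hN : α ^ 2 + α * β * t + β ^ 2 ≠ 0 := by
    intro h
    by_cases hβ : β = 0
    · rw [hβ] at h
      simp at h
      exact hne ⟨h, hβ⟩
    · apply hnr (-α / β)
      field_simp
      linear_combination h
  have hchar : ringChar F = 2 := ringChar.eq F 2
  obtain ⟨l, hl⟩ := FiniteField.isSquare_of_char_two hchar (α ^ 2 + α * β * t + β ^ 2)⁻¹
  have hl0 : l ≠ 0 := by
    rintro rfl
    rw [mul_zero] at hl
    exact inv_ne_zero hN hl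
  have hdet : Matrix.det !![l * α, -(l * β); l * β, l * α + l * β * t] = 1 := by
    rw [Matrix.det_fin_two_of]
    have : l * l * (α ^ 2 + α * β * t + β ^ 2) = 1 := by
      rw [← hl]
      exact inv_mul_cancel₀ hN
    linear_combination this
  obtain ⟨c, hc⟩ : ∃ c : Matrix.SpecialLinearGroup (Fin 2) F, (c : Matrix (Fin 2) (Fin 2) F) =
      !![l * α, -(l * β); l * β, l * α + l * β * t] := ⟨⟨_, hdet⟩, rfl⟩
  refine ⟨c, l, hl0, hc, ?_⟩
  apply Subtype.ext
  rw [Matrix.SpecialLinearGroup.coe_mul, Matrix.SpecialLinearGroup.coe_mul, hc, sl2Comp_val]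
  ext i j
  fin_cases i <;> fin_cases j <;> simp [Matrix.mul_apply, Fin.sum_univ_two] <;> ring

/-- `SL₂(2^n) = A U A` with `A` a non-split torus and `U` the unitriangular subgroup. -/
theorem sl2_even_ABA [Fintype F] [CharP F 2] (t : F) (hnr : ∀ a : F, a ^ 2 - t * a + 1 ≠ 0)
    (g : Matrix.SpecialLinearGroup (Fin 2) F) :
    ∃ (a c : Matrix.SpecialLinearGroup (Fin 2) F) (b : F),
      a * sl2Comp t 1 = sl2Comp t 1 * a ∧ c * sl2Comp t 1 = sl2Comp t 1 * c ∧
      g = a * sl2Unip b * c := by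
  have h20 : (2 : F) = 0 := CharTwo.two_eq_zero
  obtain ⟨g0, hg0⟩ : ∃ g0, g0 = (g : Matrix (Fin 2) (Fin 2) F) 0 0 := ⟨_, rfl⟩
  obtain ⟨g1, hg1⟩ : ∃ g1, g1 = (g : Matrix (Fin 2) (Fin 2) F) 0 1 := ⟨_, rfl⟩
  obtain ⟨g2, hg2⟩ : ∃ g2, g2 = (g : Matrix (Fin 2) (Fin 2) F) 1 0 := ⟨_, rfl⟩
  obtain ⟨g3, hg3⟩ : ∃ g3, g3 = (g : Matrix (Fin 2) (Fin 2) F) 1 1 := ⟨_, rfl⟩
  have hgm : (g : Matrix (Fin 2) (Fin 2) F) = !![g0, g1; g2, g3] := by
    rw [hg0, hg1, hg2, hg3]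
    exact Matrix.eta_fin_two _
  -- step 1: an element of the torus with `tr (c g) = 0`
  obtain ⟨c, hcx, hctr⟩ : ∃ c : Matrix.SpecialLinearGroup (Fin 2) F,
      c * sl2Comp t 1 = sl2Comp t 1 * c ∧
      Matrix.trace ((c * g : Matrix.SpecialLinearGroup (Fin 2) F) :
        Matrix (Fin 2) (Fin 2) F) = 0 := by
    -- trace of (α + β x) g = α (g0 + g3) + β (g1 - g2 ... )
    by_cases h0 : g0 + g3 = 0 ∧ -g2 + g1 + t * g3 = 0
    · refine ⟨1, by rw [one_mul, mul_one], ?_⟩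
      rw [one_mul, hgm, Matrix.trace_fin_two]
      simpa using h0.1
    · obtain ⟨c, l, hl0, hc, hcx⟩ := sl2_torus_scale t hnr (-g2 + g1 + t * g3) (-(g0 + g3))
        (fun h => h0 ⟨by linear_combination -h.2, h.1⟩)
      refine ⟨c, hcx, ?_⟩
      rw [Matrix.SpecialLinearGroup.coe_mul, hc, hgm, Matrix.trace_fin_two]
      simp [Matrix.mul_apply, Fin.sum_univ_two]
      ring
  obtain ⟨u, hu⟩ : ∃ u : Matrix.SpecialLinearGroup (Fin 2) F, u = c * g := ⟨_, rfl⟩
  rw [← hu] at hctr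
  -- step 2: eigenvector
  obtain ⟨v, hv0, hv⟩ := sl2_exists_eigenvector u 1 (by rw [hctr]; linear_combination h20)
  rw [one_smul] at hv
  -- step 3: move the eigenvector to the first basis vector
  have hvne : ¬ (v 0 + t * v 1 = 0 ∧ -v 1 = 0) := by
    rintro ⟨h1, h2⟩
    apply hv0
    have hv1 : v 1 = 0 := neg_eq_zero.1 h2
    rw [hv1, mul_zero, add_zero] at h1
    funext i
    fin_cases i
    · exact h1
    · exact hv1
  obtain ⟨a, l, hl0, ha, hax⟩ := sl2_torus_scale t hnr (v 0 + t * v 1) (-v 1) hvne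
  have hav1 : ((a : Matrix (Fin 2) (Fin 2) F).mulVec v) 1 = 0 := by
    rw [ha]
    simp [Matrix.mulVec, dotProduct, Fin.sum_univ_two]
    ring
  obtain ⟨b0, hb0⟩ : ∃ b0 : Matrix.SpecialLinearGroup (Fin 2) F, b0 = a * u * a⁻¹ := ⟨_, rfl⟩
  have hfix : (b0 : Matrix (Fin 2) (Fin 2) F).mulVec ((a : Matrix (Fin 2) (Fin 2) F).mulVec v) =
      (a : Matrix (Fin 2) (Fin 2) F).mulVec v := by
    rw [Matrix.mulVec_mulVec, ← Matrix.SpecialLinearGroup.coe_mul, hb0, inv_mul_cancel_right,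
      Matrix.SpecialLinearGroup.coe_mul, ← Matrix.mulVec_mulVec, hv]
  obtain ⟨μ, hμ⟩ : ∃ μ, μ = ((a : Matrix (Fin 2) (Fin 2) F).mulVec v) 0 := ⟨_, rfl⟩
  have hμ0 : μ ≠ 0 := by
    intro h
    apply hv0
    have hz : (a : Matrix (Fin 2) (Fin 2) F).mulVec v = 0 := by
      funext i
      fin_cases i
      · rw [hμ] at h
        exact h
      · exact hav1
    have h1 : ((a⁻¹ : Matrix.SpecialLinearGroup (Fin 2) F) : Matrix (Fin 2) (Fin 2) F).mulVec
        ((a : Matrix (Fin 2) (Fin 2) F).mulVec v) = v := by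
      rw [Matrix.mulVec_mulVec, ← Matrix.SpecialLinearGroup.coe_mul, inv_mul_cancel,
        Matrix.SpecialLinearGroup.coe_one, Matrix.one_mulVec]
    rw [hz, Matrix.mulVec_zero] at h1
    exact h1.symm
  have havec : (a : Matrix (Fin 2) (Fin 2) F).mulVec v = ![μ, 0] := by
    funext i
    fin_cases i
    · exact hμ.symm
    · exact hav1
  rw [havec] at hfix
  have e0 := congrFun hfix 0
  have e1 := congrFun hfix 1
  simp [Matrix.mulVec, dotProduct, Fin.sum_univ_two] at e0 e1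
  have hb00 : (b0 : Matrix (Fin 2) (Fin 2) F) 0 0 = 1 := by
    apply mul_right_cancel₀ hμ0
    rw [one_mul]
    exact e0
  have hb10 : (b0 : Matrix (Fin 2) (Fin 2) F) 1 0 = 0 := by
    rcases e1 with h | h
    · exact h
    · exact absurd h hμ0
  have hb11 : (b0 : Matrix (Fin 2) (Fin 2) F) 1 1 = 1 := by
    have hdet := sl2_det b0
    rw [hb00, hb10] at hdet
    linear_combination hdet
  have hb0U : b0 = sl2Unip ((b0 : Matrix (Fin 2) (Fin 2) F) 0 1) := by
    apply Subtype.ext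
    rw [sl2Unip_val]
    have h := Matrix.eta_fin_two (b0 : Matrix (Fin 2) (Fin 2) F)
    rw [hb00, hb10, hb11] at h
    exact h
  refine ⟨(a * c)⁻¹, a, (b0 : Matrix (Fin 2) (Fin 2) F) 0 1, ?_, hax, ?_⟩
  · have h1 : (a * c) * sl2Comp t 1 = sl2Comp t 1 * (a * c) := by
      rw [mul_assoc, hcx, ← mul_assoc, hax, mul_assoc]
    calc (a * c)⁻¹ * sl2Comp t 1 = (a * c)⁻¹ * (sl2Comp t 1 * (a * c)) * (a * c)⁻¹ := by group
      _ = (a * c)⁻¹ * ((a * c) * sl2Comp t 1) * (a * c)⁻¹ := by rw [h1]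
      _ = sl2Comp t 1 * (a * c)⁻¹ := by group
  · rw [← hb0U, hb0, hu]
    group

end Cfsg.Agent.Lib.Helper4
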