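import Mathlib
import Cfsg.Prelude.Def_Characters
import Cfsg.Agent.Lib.Helper4.SL2CharI
import Cfsg.Agent.Lib.Helper4.SL2Even

set_option autoImplicit false

namespace Cfsg.Agent.Lib.Helper4

open scoped ComplexConjugate

theorem irr_pair_other {G : Type*} [Group G] [Fintype G] {ψ χ₁ χ' χ₂ : G → ℂ}
    (h1 : Cfsg.IsIrrCharacter G χ₁) (h' : Cfsg.IsIrrCharacter G χ')
    (h2 : Cfsg.IsIrrCharacter G χ₂) (hsum : ψ = χ₁ + χ')
    (hne : Cfsg.classInner ψ χ₂ ≠ 0) (h12 : χ₁ ≠ χ₂) : χ₂ = χ' := by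
  rw [hsum, Lead.classInner_add_left, Lead.classInner_irr h1 h2, Lead.classInner_irr h' h2,
    if_neg h12] at hne
  by_contra h
  rw [if_neg (fun hh => h hh.symm)] at hne
  simp at hne

variable {F : Type*} [Field F] [Fintype F] [DecidableEq F]

omit [DecidableEq F] in
theorem ringChar_ne_two_of_odd (hodd : Odd (Fintype.card F)) : ringChar F ≠ 2 := by
  intro h
  have := FiniteField.even_card_of_char_two h
  rcases hodd with ⟨k, hk⟩
  omega

omit [DecidableEq F] in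
theorem isSquare_mul_of_not (hodd : Odd (Fintype.card F)) {a b : F} (ha : ¬ IsSquare a)
    (hb : ¬ IsSquare b) : IsSquare (a * b) := by
  have hchar := ringChar_ne_two_of_odd hodd
  have ha0 : a ≠ 0 := by
    rintro rfl
    exact ha ⟨0, by simp⟩
  have hb0 : b ≠ 0 := by
    rintro rfl
    exact hb ⟨0, by simp⟩
  rw [FiniteField.isSquare_iff hchar (mul_ne_zero ha0 hb0), mul_pow]
  rw [FiniteField.isSquare_iff hchar ha0] at ha
  rw [FiniteField.isSquare_iff hchar hb0] at hb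
  rcases FiniteField.pow_dichotomy hchar ha0 with h | h
  · exact absurd h ha
  · rcases FiniteField.pow_dichotomy hchar hb0 with h' | h'
    · exact absurd h' hb
    · rw [h, h']
      ring

omit [Fintype F] [DecidableEq F] in
theorem sl2Unip_inv (b : F) : (sl2Unip b)⁻¹ = sl2Unip (-b) := by
  apply inv_eq_of_mul_eq_one_right
  rw [sl2Unip_mul, add_neg_cancel, sl2Unip_zero]

omit [DecidableEq F] in
theorem sl2_unip_value (hodd : Odd (Fintype.card F)) (ν : Fˣ) (hν : ¬ IsSquare (ν : F))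
    {f : Matrix.SpecialLinearGroup (Fin 2) F → ℂ}
    (hf : Cfsg.IsClassFunction (Matrix.SpecialLinearGroup (Fin 2) F) f) (b : F) (hb : b ≠ 0) :
    (IsSquare b → f (sl2Unip b) = f (sl2Unip 1)) ∧
    (¬ IsSquare b → f (sl2Unip b) = f (sl2Unip (ν : F))) := by
  have h2 : (2 : F) ≠ 0 := two_ne_zero_of_odd_card hodd
  constructor
  · intro hs
    apply classFun_isConj hf
    have := (sl2Unip_isConj_iff h2 (Units.mk0 b hb) 1).2 (by simpa using hs)
    simpa using this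
  · intro hs
    apply classFun_isConj hf
    exact (sl2Unip_isConj_iff h2 (Units.mk0 b hb) ν).2 (isSquare_mul_of_not hodd hs hν)

omit [DecidableEq F] in
/-- The behaviour of the difference `f(u) - f(u_ν)` under complex conjugation. -/
theorem sl2_unip_conj (hodd : Odd (Fintype.card F)) (ν : Fˣ) (hν : ¬ IsSquare (ν : F))
    {χ : Matrix.SpecialLinearGroup (Fin 2) F → ℂ}
    (hχ : Cfsg.IsIrrCharacter (Matrix.SpecialLinearGroup (Fin 2) F) χ) :
    conj (χ (sl2Unip 1) - χ (sl2Unip (ν : F))) =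
      (-1 : ℂ) ^ ((Fintype.card F - 1) / 2) * (χ (sl2Unip 1) - χ (sl2Unip (ν : F))) := by
  have hf := Lead.isClassFunction_of_irr hχ
  have e1 : conj (χ (sl2Unip 1)) = χ (sl2Unip (-1 : F)) := by
    rw [← Lead.irr_inv hχ, sl2Unip_inv]
  have e2 : conj (χ (sl2Unip (ν : F))) = χ (sl2Unip (-(ν : F))) := by
    rw [← Lead.irr_inv hχ, sl2Unip_inv]
  have h1 : (-1 : F) ≠ 0 := by simp
  have hν0 : -(ν : F) ≠ 0 := by simp
  rw [map_sub, e1, e2]
  by_cases hsq : IsSquare (-1 : F)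
  · have hq4 := FiniteField.isSquare_neg_one_iff.1 hsq
    have hev : Even ((Fintype.card F - 1) / 2) := by
      obtain ⟨k, hk⟩ := hodd
      rw [Nat.even_iff]
      omega
    have hns : ¬ IsSquare (-(ν : F)) := by
      intro h
      apply hν
      have := h.mul hsq
      simpa using this
    rw [hev.neg_one_pow, one_mul, (sl2_unip_value hodd ν hν hf _ h1).1 hsq,
      (sl2_unip_value hodd ν hν hf _ hν0).2 hns]
  · have hq4 : Fintype.card F % 4 = 3 := by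
      by_contra h
      exact hsq (FiniteField.isSquare_neg_one_iff.2 h)
    have hod : Odd ((Fintype.card F - 1) / 2) := by
      rw [Nat.odd_iff]
      omega
    have hs : IsSquare (-(ν : F)) := by
      have := isSquare_mul_of_not hodd hsq hν
      simpa using this
    rw [hod.neg_one_pow, (sl2_unip_value hodd ν hν hf _ h1).2 hsq,
      (sl2_unip_value hodd ν hν hf _ hν0).1 hs]
    ring

omit [DecidableEq F] in
theorem sl2_unip_sq (hodd : Odd (Fintype.card F)) (ν : Fˣ) (hν : ¬ IsSquare (ν : F))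
    {χ : Matrix.SpecialLinearGroup (Fin 2) F → ℂ}
    (hχ : Cfsg.IsIrrCharacter (Matrix.SpecialLinearGroup (Fin 2) F) χ)
    (hD : (χ (sl2Unip 1) - χ (sl2Unip (ν : F))) *
      conj (χ (sl2Unip 1) - χ (sl2Unip (ν : F))) = Fintype.card F) :
    (χ (sl2Unip 1) - χ (sl2Unip (ν : F))) ^ 2 =
      (-1 : ℂ) ^ ((Fintype.card F - 1) / 2) * (Fintype.card F : ℂ) := by
  rw [sl2_unip_conj hodd ν hν hχ] at hD
  have hε : ((-1 : ℂ) ^ ((Fintype.card F - 1) / 2)) * ((-1 : ℂ) ^ ((Fintype.card F - 1) / 2)) = 1 := by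
    rw [← pow_add, ← two_mul, pow_mul]
    norm_num
  rw [← hD]
  linear_combination (-(χ (sl2Unip 1) - χ (sl2Unip (ν : F))) ^ 2) * hε

section degs

variable (hodd : Odd (Fintype.card F)) (C : Subgroup (Matrix.SpecialLinearGroup (Fin 2) F))
  (hC : IsCyclic C) (hcard : Nat.card C = Fintype.card F + 1)

include hodd hC hcard in
theorem sl2_deg_half_add (hq : 5 ≤ Fintype.card F) (ν : Fˣ) (hν : ¬ IsSquare (ν : F))
    {χ : Matrix.SpecialLinearGroup (Fin 2) F → ℂ}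
    (hχ : Cfsg.IsIrrCharacter (Matrix.SpecialLinearGroup (Fin 2) F) χ)
    (hdeg : χ 1 = (((Fintype.card F + 1) / 2 : ℕ) : ℂ)) :
    ∃ α : MulChar F ℂ, α ^ 2 = 1 ∧ α ≠ 1 ∧
          Cfsg.classInner (sl2R α) χ ≠ 0 ∧ χ ∘ sl2Twist ν ≠ χ ∧
          Cfsg.IsIrrCharacter (Matrix.SpecialLinearGroup (Fin 2) F) (χ ∘ sl2Twist ν) ∧
          sl2R α = χ + χ ∘ sl2Twist ν ∧
          (χ (sl2Unip 1) - χ (sl2Unip (ν : F))) *
            conj (χ (sl2Unip 1) - χ (sl2Unip (ν : F))) = Fintype.card F := by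
  obtain ⟨d, hd, hcases⟩ := sl2_irr_odd_cases hodd C hC hcard ν hν hχ
  rw [hd] at hdeg
  have hd' : d = (Fintype.card F + 1) / 2 := by exact_mod_cast hdeg
  obtain ⟨k, hk⟩ := hodd
  rcases hcases with ⟨h, -⟩ | ⟨h, -⟩ | ⟨h, -⟩ | ⟨h, -⟩ | ⟨-, h⟩ | ⟨h, -⟩
  · omega
  · omega
  · omega
  · omega
  · exact h
  · omega

include hodd hC hcard in
theorem sl2_deg_half_sub (hq : 5 ≤ Fintype.card F) (ν : Fˣ) (hν : ¬ IsSquare (ν : F))
    {χ : Matrix.SpecialLinearGroup (Fin 2) F → ℂ}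
    (hχ : Cfsg.IsIrrCharacter (Matrix.SpecialLinearGroup (Fin 2) F) χ)
    (hdeg : χ 1 = (((Fintype.card F - 1) / 2 : ℕ) : ℂ)) :
    ∃ θ : C →* ℂˣ, θ ^ 2 = 1 ∧ θ ≠ 1 ∧
          Cfsg.classInner (sl2Cusp C θ) χ ≠ 0 ∧ χ ∘ sl2Twist ν ≠ χ ∧
          Cfsg.IsIrrCharacter (Matrix.SpecialLinearGroup (Fin 2) F) (χ ∘ sl2Twist ν) ∧
          sl2Cusp C θ = χ + χ ∘ sl2Twist ν ∧
          (χ (sl2Unip 1) - χ (sl2Unip (ν : F))) *
            conj (χ (sl2Unip 1) - χ (sl2Unip (ν : F))) = Fintype.card F := by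
  obtain ⟨d, hd, hcases⟩ := sl2_irr_odd_cases hodd C hC hcard ν hν hχ
  rw [hd] at hdeg
  have hd' : d = (Fintype.card F - 1) / 2 := by exact_mod_cast hdeg
  obtain ⟨k, hk⟩ := hodd
  rcases hcases with ⟨h, -⟩ | ⟨h, -⟩ | ⟨h, -⟩ | ⟨h, -⟩ | ⟨h, -⟩ | ⟨-, h⟩
  · omega
  · omega
  · omega
  · omega
  · omega
  · exact h

include hodd hC hcard in
theorem sl2_deg_add_one
    {χ : Matrix.SpecialLinearGroup (Fin 2) F → ℂ}
    (hχ : Cfsg.IsIrrCharacter (Matrix.SpecialLinearGroup (Fin 2) F) χ)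
    (hdeg : χ 1 = (Fintype.card F : ℂ) + 1) :
    ∃ α : MulChar F ℂ, α ^ 2 ≠ 1 ∧ χ = sl2R α := by
  obtain ⟨ν, hν⟩ := sl2_exists_nonsquare_unit hodd
  obtain ⟨d, hd, hcases⟩ := sl2_irr_odd_cases hodd C hC hcard ν hν hχ
  rw [hd] at hdeg
  have hd' := nat_eq_of_cast_add_one hdeg
  have hq1 : 1 < Fintype.card F := Fintype.one_lt_card
  obtain ⟨k, hk⟩ := hodd
  rcases hcases with ⟨h, -⟩ | ⟨h, -⟩ | ⟨-, h⟩ | ⟨h, -⟩ | ⟨h, -⟩ | ⟨h, -⟩
  · omega
  · omega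
  · exact h
  · omega
  · omega
  · omega

include hodd hC hcard in
theorem sl2_deg_sub_one (hq : 5 ≤ Fintype.card F)
    {χ : Matrix.SpecialLinearGroup (Fin 2) F → ℂ}
    (hχ : Cfsg.IsIrrCharacter (Matrix.SpecialLinearGroup (Fin 2) F) χ)
    (hdeg : χ 1 = (Fintype.card F : ℂ) - 1) :
    ∃ θ : C →* ℂˣ, θ ^ 2 ≠ 1 ∧ χ = sl2Cusp C θ := by
  obtain ⟨ν, hν⟩ := sl2_exists_nonsquare_unit hodd
  obtain ⟨d, hd, hcases⟩ := sl2_irr_odd_cases hodd C hC hcard ν hν hχ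
  rw [hd] at hdeg
  have hd' := nat_eq_of_cast_sub_one (by omega) hdeg
  obtain ⟨k, hk⟩ := hodd
  rcases hcases with ⟨h, -⟩ | ⟨h, -⟩ | ⟨h, -⟩ | ⟨-, h⟩ | ⟨h, -⟩ | ⟨h, -⟩
  · omega
  · omega
  · omega
  · exact h
  · omega
  · omega

include hodd hC hcard in
theorem sl2_deg_q
    {χ : Matrix.SpecialLinearGroup (Fin 2) F → ℂ}
    (hχ : Cfsg.IsIrrCharacter (Matrix.SpecialLinearGroup (Fin 2) F) χ)
    (hdeg : χ 1 = (Fintype.card F : ℂ)) :
    χ = sl2R 1 - fun _ => (1 : ℂ) := by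
  obtain ⟨ν, hν⟩ := sl2_exists_nonsquare_unit hodd
  obtain ⟨d, hd, hcases⟩ := sl2_irr_odd_cases hodd C hC hcard ν hν hχ
  rw [hd] at hdeg
  have hd' : d = Fintype.card F := by exact_mod_cast hdeg
  have hq1 : 1 < Fintype.card F := Fintype.one_lt_card
  obtain ⟨k, hk⟩ := hodd
  rcases hcases with ⟨h, -⟩ | ⟨-, h⟩ | ⟨h, -⟩ | ⟨h, -⟩ | ⟨h, -⟩ | ⟨h, -⟩
  · omega
  · exact h
  · omega
  · omega
  · omega
  · omega

include hodd hC hcard in
theorem sl2_deg_one (hq : 5 ≤ Fintype.card F)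
    {χ : Matrix.SpecialLinearGroup (Fin 2) F → ℂ}
    (hχ : Cfsg.IsIrrCharacter (Matrix.SpecialLinearGroup (Fin 2) F) χ)
    (hdeg : χ 1 = 1) :
    χ = fun _ => (1 : ℂ) := by
  obtain ⟨ν, hν⟩ := sl2_exists_nonsquare_unit hodd
  obtain ⟨d, hd, hcases⟩ := sl2_irr_odd_cases hodd C hC hcard ν hν hχ
  rw [hd] at hdeg
  have hd' : d = 1 := by exact_mod_cast hdeg
  obtain ⟨k, hk⟩ := hodd
  rcases hcases with ⟨-, h⟩ | ⟨h, -⟩ | ⟨h, -⟩ | ⟨h, -⟩ | ⟨h, -⟩ | ⟨h, -⟩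
  · exact h
  · omega
  · omega
  · omega
  · omega
  · omega

end degs

end Cfsg.Agent.Lib.Helper4
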