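import Mathlib
import Cfsg.Prelude.Def_Characters
import Cfsg.Agent.Lib.Helper4.SL2CharJ

set_option autoImplicit false

namespace Cfsg.Agent.Lib.Helper4

open scoped ComplexConjugate

variable {F : Type*} [Field F] [Fintype F] [DecidableEq F]

theorem sl2_unip_sum (f : Matrix.SpecialLinearGroup (Fin 2) F → ℂ) :
    (∑ g : Matrix.SpecialLinearGroup (Fin 2) F,
      if (g : Matrix (Fin 2) (Fin 2) F) 1 0 = 0 ∧ (g : Matrix (Fin 2) (Fin 2) F) 0 0 = 1 ∧
        (g : Matrix (Fin 2) (Fin 2) F) 1 1 = 1 then f g else 0) = ∑ b : F, f (sl2Unip b) := by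
  rw [← Finset.sum_filter]
  symm
  apply Finset.sum_bij (fun b _ => sl2Unip b)
  · intro b _
    rw [Finset.mem_filter]
    refine ⟨Finset.mem_univ _, ?_⟩
    rw [sl2Unip_val]
    simp
  · intro b _ b' _ h
    exact sl2Unip_injective h
  · intro g hg
    rw [Finset.mem_filter] at hg
    obtain ⟨-, h10, h00, h11⟩ := hg
    refine ⟨(g : Matrix (Fin 2) (Fin 2) F) 0 1, Finset.mem_univ _, ?_⟩
    apply Subtype.ext
    rw [sl2Unip_val]
    refine Eq.trans ?_ (Matrix.eta_fin_two (g : Matrix (Fin 2) (Fin 2) F)).symm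
    rw [h10, h00, h11]
  · intro b _
    rfl

theorem sl2_unip_sum_const (f : Matrix.SpecialLinearGroup (Fin 2) F → ℂ) (c : ℂ)
    (hc : ∀ b : F, b ≠ 0 → f (sl2Unip b) = c) :
    ∑ b : F, f (sl2Unip b) = f 1 + ((Fintype.card F : ℂ) - 1) * c := by
  rw [← Finset.add_sum_erase Finset.univ _ (Finset.mem_univ (0 : F)), sl2Unip_zero]
  congr 1
  rw [Finset.sum_congr rfl (fun b hb => hc b (Finset.ne_of_mem_erase hb)), Finset.sum_const,
    Finset.card_erase_of_mem (Finset.mem_univ _), Finset.card_univ, nsmul_eq_mul,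
    Nat.cast_sub Fintype.card_pos]
  simp

theorem sl2_unip_sum_half (ν : Fˣ) {ψ χ : Matrix.SpecialLinearGroup (Fin 2) F → ℂ}
    (hsum : ψ = χ + χ ∘ sl2Twist ν) :
    ∑ b : F, χ (sl2Unip b) = (∑ b : F, ψ (sl2Unip b)) / 2 := by
  have h1 : ∑ b : F, (χ ∘ sl2Twist ν) (sl2Unip b) = ∑ b : F, χ (sl2Unip b) := by
    refine Fintype.sum_equiv (Equiv.mulLeft₀ (ν : F) ν.ne_zero) _ _ (fun b => ?_)
    rw [Function.comp_apply, sl2Twist_unip]
    rfl
  rw [hsum]
  simp only [Pi.add_apply]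
  rw [Finset.sum_add_distrib, h1]
  ring

omit [Fintype F] [DecidableEq F] in
theorem sl2Unip_ne_one (b : F) (hb : b ≠ 0) : sl2Unip b ≠ 1 := by
  intro h
  apply hb
  have := sl2Unip_injective (h.trans sl2Unip_zero.symm)
  exact this

omit [Fintype F] [DecidableEq F] in
theorem sl2Unip_nonscalar (b : F) (hb : b ≠ 0) :
    ¬ (((sl2Unip b : Matrix.SpecialLinearGroup (Fin 2) F) : Matrix (Fin 2) (Fin 2) F) 0 1 = 0 ∧
      ((sl2Unip b : Matrix.SpecialLinearGroup (Fin 2) F) : Matrix (Fin 2) (Fin 2) F) 1 0 = 0 ∧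
      ((sl2Unip b : Matrix.SpecialLinearGroup (Fin 2) F) : Matrix (Fin 2) (Fin 2) F) 0 0 =
        ((sl2Unip b : Matrix.SpecialLinearGroup (Fin 2) F) : Matrix (Fin 2) (Fin 2) F) 1 1) := by
  rw [sl2Unip_val]
  simp [hb]

end Cfsg.Agent.Lib.Helper4
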