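import Mathlib
import Cfsg.Prelude.Def_Characters
import Cfsg.Agent.Lib.Helper4.SL2CharK

set_option autoImplicit false

namespace Cfsg.Agent.Lib.Helper4

open scoped ComplexConjugate

variable {F : Type*} [Field F]

theorem sl2_diag_facts (g : Matrix.SpecialLinearGroup (Fin 2) F)
    (h01 : (g : Matrix (Fin 2) (Fin 2) F) 0 1 = 0) (h10 : (g : Matrix (Fin 2) (Fin 2) F) 1 0 = 0)
    (ha : (g : Matrix (Fin 2) (Fin 2) F) 0 0 ^ 2 ≠ 1) :
    (Matrix.trace (g : Matrix (Fin 2) (Fin 2) F)) ^ 2 ≠ 4 ∧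
    (g : Matrix (Fin 2) (Fin 2) F) 0 0 ^ 2 - Matrix.trace (g : Matrix (Fin 2) (Fin 2) F) *
      (g : Matrix (Fin 2) (Fin 2) F) 0 0 + 1 = 0 ∧ (g : Matrix (Fin 2) (Fin 2) F) 0 0 ≠ 0 := by
  have hd := sl2_det g
  rw [h01, zero_mul, sub_zero] at hd
  refine ⟨?_, ?_, ?_⟩
  · intro h
    rw [Matrix.trace_fin_two] at h
    have h3 : ((g : Matrix (Fin 2) (Fin 2) F) 0 0 - (g : Matrix (Fin 2) (Fin 2) F) 1 1) ^ 2 = 0 := by
      linear_combination h - 4 * hd
    have h4 := pow_eq_zero_iff (two_ne_zero) |>.mp h3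
    apply ha
    have h5 : (g : Matrix (Fin 2) (Fin 2) F) 0 0 = (g : Matrix (Fin 2) (Fin 2) F) 1 1 := by
      linear_combination h4
    rw [pow_two]
    nth_rewrite 2 [h5]
    exact hd
  · rw [Matrix.trace_fin_two]
    linear_combination -hd
  · intro h
    rw [h, zero_mul] at hd
    exact zero_ne_one hd

theorem sl2_no_root_of_no_eigenvector (g : Matrix.SpecialLinearGroup (Fin 2) F)
    (h : ∀ (c : F) (v : Fin 2 → F), v ≠ 0 → (g : Matrix (Fin 2) (Fin 2) F).mulVec v ≠ c • v) :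
    ∀ a : F, a ^ 2 - Matrix.trace (g : Matrix (Fin 2) (Fin 2) F) * a + 1 ≠ 0 := by
  intro a ha
  obtain ⟨v, hv, hav⟩ := sl2_exists_eigenvector g a ha
  exact h a v hv hav

theorem isConj_pow_eq_one_iff {G : Type*} [Group G] {g c : G} (h : IsConj g c) (n : ℕ) :
    g ^ n = 1 ↔ c ^ n = 1 := by
  obtain ⟨x, rfl⟩ := isConj_iff.mp h
  rw [conj_pow]
  constructor
  · intro h1
    rw [h1]
    simp
  · intro h1
    have : g ^ n = x⁻¹ * (x * g ^ n * x⁻¹) * x := by group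
    rw [this, h1]
    simp

theorem pm_one_inv (x : ℂ) (h : x = 1 ∨ x = -1) : x⁻¹ = x := by
  rcases h with rfl | rfl <;> norm_num

end Cfsg.Agent.Lib.Helper4
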