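import Mathlib
import Cfsg.Prelude.Def_Characters
import Cfsg.Agent.Lib.Helper4.SL2CharL

set_option autoImplicit false

namespace Cfsg.Agent.Lib.Helper4

open scoped ComplexConjugate

variable {F : Type*} [Field F] [Fintype F]

theorem card_ge_five_of_sq_ne_one (hodd : Odd (Fintype.card F)) (a : F) (ha0 : a ≠ 0)
    (ha : a ^ 2 ≠ 1) : 5 ≤ Fintype.card F := by
  have hq1 : 1 < Fintype.card F := Fintype.one_lt_card
  by_contra hlt
  have h3 : Fintype.card F = 3 := by
    obtain ⟨k, hk⟩ := hodd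
    omega
  have := FiniteField.pow_card_sub_one_eq_one a ha0
  rw [h3] at this
  exact ha this

variable [DecidableEq F]

section torus

variable (C : Subgroup (Matrix.SpecialLinearGroup (Fin 2) F))
  (hC : IsCyclic C) (hcard : Nat.card C = Fintype.card F + 1)

omit [Fintype F] [DecidableEq F] in
theorem torusChar_sq_eq_one_iff (θ : C →* ℂˣ) : θ ^ 2 = 1 ↔ ∀ c : C, θ c ^ 2 = 1 := by
  constructor
  · intro h c
    have := congrArg (fun f : C →* ℂˣ => f c) h
    simpa using this
  · intro h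
    ext c
    simpa using congrArg Units.val (h c)

include hC hcard in
theorem exists_torusChar_sq_ne_one (hodd : Odd (Fintype.card F)) :
    ∃ θ : C →* ℂˣ, θ ^ 2 ≠ 1 := by
  classical
  haveI : Fintype (C →* ℂˣ) := Fintype.ofFinite _
  obtain ⟨θ₀, hθ₀, hθ₀1⟩ := exists_quadratic_torusChar hodd C hC hcard
  by_contra hcon
  push Not at hcon
  have hsub : (Finset.univ : Finset (C →* ℂˣ)) ⊆ {1, θ₀} := by
    intro θ _
    rw [Finset.mem_insert, Finset.mem_singleton]
    by_cases h1 : θ = 1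
    · left; exact h1
    · right
      exact torusChar_quadratic_unique C hC θ θ₀ (hcon θ) h1 hθ₀ hθ₀1
  have hle := Finset.card_le_card hsub
  have h2 : ({1, θ₀} : Finset (C →* ℂˣ)).card ≤ 2 := Finset.card_le_two
  have e : Nat.card (C →* ℂˣ) = Nat.card C := by
    letI : CommGroup C := hC.commGroup
    exact CommGroup.card_monoidHom_of_hasEnoughRootsOfUnity C ℂ
  rw [Finset.card_univ, ← Nat.card_eq_fintype_card, e, hcard] at hle
  have hq1 : 1 < Fintype.card F := Fintype.one_lt_card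
  omega

include hC hcard in
theorem sl2_q3_torus_sum (hq3 : Fintype.card F = 3) (θ : C →* ℂˣ) (hθ : θ ^ 2 ≠ 1) (c : C)
    (hc : (c : Matrix.SpecialLinearGroup (Fin 2) F) ∉
      Subgroup.center (Matrix.SpecialLinearGroup (Fin 2) F)) :
    ((θ c : ℂˣ) : ℂ) + (((θ c)⁻¹ : ℂˣ) : ℂ) = 0 := by
  have hodd : Odd (Fintype.card F) := by rw [hq3]; decide
  have h2 : (2 : F) ≠ 0 := two_ne_zero_of_odd_card hodd
  have hz := sl2_neg_one_mem_torus C hC hcard
  have hsq : ∀ x : C, x ^ 2 = 1 ∨ x ^ 2 = ⟨sl2PM false 0, hz⟩ := by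
    intro x
    have h4 : x ^ 4 = 1 := by
      have := pow_card_eq_one' (G := C) (x := x)
      rw [hcard, hq3] at this
      exact this
    have h5 : ((x ^ 2 : C) : Matrix.SpecialLinearGroup (Fin 2) F) *
        ((x ^ 2 : C) : Matrix.SpecialLinearGroup (Fin 2) F) = 1 := by
      rw [← Subgroup.coe_mul, ← pow_add, h4]
      rfl
    rcases sl2_sq_eq_one_odd h2 _ h5 with h | h
    · left; exact Subtype.ext h
    · right; exact Subtype.ext h
  have hzz : θ ⟨sl2PM false 0, hz⟩ * θ ⟨sl2PM false 0, hz⟩ = 1 := by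
    rw [← map_mul]
    have e : (⟨sl2PM false 0, hz⟩ : C) * ⟨sl2PM false 0, hz⟩ = 1 :=
      Subtype.ext sl2PM_false_mul_self
    rw [e, map_one]
  have hθz : θ ⟨sl2PM false 0, hz⟩ = -1 := by
    have h3 : ((θ ⟨sl2PM false 0, hz⟩ : ℂˣ) : ℂ) = 1 ∨ ((θ ⟨sl2PM false 0, hz⟩ : ℂˣ) : ℂ) = -1 := by
      apply mul_self_eq_one_iff.mp
      rw [← Units.val_mul, hzz, Units.val_one]
    rcases h3 with h | h
    · exfalso
      apply hθ
      rw [torusChar_sq_eq_one_iff]
      intro x
      rcases hsq x with hx | hx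
      · rw [← map_pow, hx, map_one]
      · rw [← map_pow, hx]
        exact Units.ext (by simpa using h)
    · exact Units.ext (by simpa using h)
  have hc2 : c ^ 2 = ⟨sl2PM false 0, hz⟩ := by
    rcases hsq c with h | h
    · exfalso
      apply hc
      rw [sl2_mem_center_iff]
      have h5 : (c : Matrix.SpecialLinearGroup (Fin 2) F) *
          (c : Matrix.SpecialLinearGroup (Fin 2) F) = 1 := by
        rw [← Subgroup.coe_mul, ← pow_two, h]
        rfl
      exact sl2_sq_eq_one_odd h2 _ h5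
    · exact h
  have h6 : θ c ^ 2 = -1 := by
    rw [← map_pow, hc2, hθz]
  have h7 : (θ c)⁻¹ = -θ c := by
    apply inv_eq_of_mul_eq_one_right
    rw [mul_neg, ← pow_two, h6, neg_neg]
  rw [h7, Units.val_neg]
  ring

end torus

end Cfsg.Agent.Lib.Helper4
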