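import Mathlib
import Cfsg.Prelude.Def_Characters
import Cfsg.Agent.Lib.Helper4.SL2CharTwist

set_option autoImplicit false

namespace Cfsg.Agent.Lib.Helper4

open scoped ComplexConjugate
open Cfsg.Agent.Lib.Lead

theorem card_two_to_one {S X : Type*} [Fintype S] [Fintype X] [DecidableEq S] [DecidableEq X]
    (f : S → X) (hsurj : Function.Surjective f) (ι : S → S) (hι : ∀ s, ι s ≠ s)
    (hf : ∀ s s', f s' = f s ↔ (s' = s ∨ s' = ι s)) : Fintype.card S = 2 * Fintype.card X := by
  rw [← Finset.card_univ, Finset.card_eq_sum_card_fiberwise (f := f) (t := Finset.univ)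
    (fun x _ => Finset.mem_univ _)]
  rw [Finset.sum_const_nat (m := 2)]
  · rw [Finset.card_univ, mul_comm]
  · intro x _
    obtain ⟨s, rfl⟩ := hsurj x
    have e : Finset.univ.filter (fun s' => f s' = f s) = {s, ι s} := by
      ext s'
      simp [hf]
    rw [e, Finset.card_pair (hι s).symm]

theorem card_unique_of {X : Type*} (x₀ : X) (h : ∀ x : X, x = x₀) : Nat.card X = 1 := by
  haveI : Unique X := ⟨⟨x₀⟩, h⟩
  exact Nat.card_unique

theorem card_eq_two_of {X : Type*} (x y : X) (hxy : x ≠ y) (h : ∀ w : X, w = x ∨ w = y) :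
    Nat.card X = 2 := by
  rw [Nat.card_eq_two_iff]
  refine ⟨x, y, hxy, Set.eq_univ_of_forall (fun w => ?_)⟩
  rcases h w with rfl | rfl <;> simp

theorem card_sq_ne_one {A : Type*} [CommGroup A] [Finite A] (α₀ : A)
    (h₀ : α₀ ^ 2 = 1) (h₀1 : α₀ ≠ 1) (huniq : ∀ α : A, α ^ 2 = 1 → α ≠ 1 → α = α₀) :
    Nat.card {α : A // α ^ 2 ≠ 1} = Nat.card A - 2 := by
  classical
  haveI : Fintype A := Fintype.ofFinite A
  rw [Nat.card_eq_fintype_card, Nat.card_eq_fintype_card, Fintype.card_subtype_compl,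
    Fintype.card_subtype]
  have e : Finset.univ.filter (fun α : A => α ^ 2 = 1) = {1, α₀} := by
    ext α
    simp only [Finset.mem_filter, Finset.mem_univ, true_and, Finset.mem_insert,
      Finset.mem_singleton]
    constructor
    · intro h
      by_cases h1 : α = 1
      · left; exact h1
      · right; exact huniq α h h1
    · rintro (rfl | rfl)
      · simp
      · exact h₀
  rw [e, Finset.card_pair (Ne.symm h₀1)]

theorem card_sq_ne_one_odd {A : Type*} [CommGroup A] [Finite A]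
    (hodd : Odd (Nat.card A)) :
    Nat.card {α : A // α ^ 2 ≠ 1} = Nat.card A - 1 := by
  classical
  haveI : Fintype A := Fintype.ofFinite A
  rw [Nat.card_eq_fintype_card] at hodd
  rw [Nat.card_eq_fintype_card, Nat.card_eq_fintype_card, Fintype.card_subtype_compl,
    Fintype.card_subtype]
  have e : Finset.univ.filter (fun α : A => α ^ 2 = 1) = {1} := by
    ext α
    simp only [Finset.mem_filter, Finset.mem_univ, true_and, Finset.mem_singleton]
    constructor
    · intro h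
      have h1 : orderOf α ∣ 2 := orderOf_dvd_of_pow_eq_one h
      have h2 : orderOf α ∣ Fintype.card A := orderOf_dvd_card
      have h3 : orderOf α ∣ Nat.gcd 2 (Fintype.card A) := Nat.dvd_gcd h1 h2
      have h4 : Nat.gcd 2 (Fintype.card A) = 1 := by
        rw [← Nat.coprime_iff_gcd_eq_one, Nat.coprime_two_left]
        exact hodd
      rw [h4] at h3
      exact orderOf_eq_one_iff.mp (Nat.dvd_one.mp h3)
    · rintro rfl
      simp
  rw [e, Finset.card_singleton]

section skeleton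

open Classical

variable {G : Type*} [Group G] [Fintype G]
variable {A T : Type*} [CommGroup A] [Fintype A] [CommGroup T] [Fintype T]

namespace DLData

variable {q : ℕ} {z : G} {R : A → G → ℂ} {P : T → G → ℂ} {a : A → ℂ} {t : T → ℂ}

theorem R_eq_iff (D : DLData q z R P a t) (α β : A) (hα : α ^ 2 ≠ 1) (hβ : β ^ 2 ≠ 1) :
    R β = R α ↔ (β = α ∨ β = α⁻¹) := by
  have h1 := D.RR β α
  rw [classInner_irr (D.R_irr β hβ) (D.R_irr α hα)] at h1
  constructor
  · intro h
    rw [if_pos h] at h1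
    by_contra hcon
    push Not at hcon
    rw [if_neg hcon.1, if_neg hcon.2] at h1
    norm_num at h1
  · intro h
    by_contra hcon
    rw [if_neg hcon] at h1
    rcases h with h | h
    · rw [if_pos h] at h1
      split_ifs at h1 <;> norm_num at h1
    · rw [if_pos h] at h1
      split_ifs at h1 <;> norm_num at h1

theorem P_eq_iff (D : DLData q z R P a t) (α β : T) (hα : α ^ 2 ≠ 1) (hβ : β ^ 2 ≠ 1) :
    P β = P α ↔ (β = α ∨ β = α⁻¹) := by
  have h1 := D.PP β α
  rw [classInner_irr (D.P_irr β hβ) (D.P_irr α hα)] at h1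
  constructor
  · intro h
    rw [if_pos h] at h1
    by_contra hcon
    push Not at hcon
    rw [if_neg hcon.1, if_neg hcon.2] at h1
    norm_num at h1
  · intro h
    by_contra hcon
    rw [if_neg hcon] at h1
    rcases h with h | h
    · rw [if_pos h] at h1
      split_ifs at h1 <;> norm_num at h1
    · rw [if_pos h] at h1
      split_ifs at h1 <;> norm_num at h1

theorem inv_sq_ne_one {M : Type*} [CommGroup M] (x : M) (h : x ^ 2 ≠ 1) : x⁻¹ ^ 2 ≠ 1 := by
  intro h1
  apply h
  rw [inv_pow, inv_eq_one] at h1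
  exact h1

theorem card_R (D : DLData q z R P a t) (n : ℕ)
    (hn : Nat.card {α : A // α ^ 2 ≠ 1} = n)
    (hsurj : ∀ χ : G → ℂ, Cfsg.IsIrrCharacter G χ → χ 1 = (q : ℂ) + 1 →
      ∃ α, α ^ 2 ≠ 1 ∧ χ = R α) :
    Nat.card {χ : Cfsg.IrrCharacter G // (χ : G → ℂ) 1 = (q : ℂ) + 1} = n / 2 := by
  haveI : Fintype {χ : Cfsg.IrrCharacter G // (χ : G → ℂ) 1 = (q : ℂ) + 1} :=
    Fintype.ofFinite _
  rw [Nat.card_eq_fintype_card]
  have key := card_two_to_one
    (fun α : {α : A // α ^ 2 ≠ 1} =>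
      (⟨⟨R α.1, D.R_irr α.1 α.2⟩, D.Rone α.1⟩ :
        {χ : Cfsg.IrrCharacter G // (χ : G → ℂ) 1 = (q : ℂ) + 1}))
    (by
      intro χ
      obtain ⟨α, hα, h⟩ := hsurj χ.1.1 χ.1.2 χ.2
      exact ⟨⟨α, hα⟩, Subtype.ext (Subtype.ext h.symm)⟩)
    (fun α => ⟨α.1⁻¹, inv_sq_ne_one α.1 α.2⟩)
    (by
      intro α h
      apply α.2
      have h1 := congrArg Subtype.val h
      simp only at h1
      rw [pow_two]
      nth_rewrite 1 [← h1]
      exact inv_mul_cancel _)
    (by
      intro α β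
      rw [Subtype.ext_iff, Subtype.ext_iff]
      simp only
      rw [D.R_eq_iff α.1 β.1 α.2 β.2, Subtype.ext_iff, Subtype.ext_iff])
  rw [← Nat.card_eq_fintype_card, hn] at key
  omega

theorem card_P (D : DLData q z R P a t) (n : ℕ)
    (hn : Nat.card {θ : T // θ ^ 2 ≠ 1} = n)
    (hsurj : ∀ χ : G → ℂ, Cfsg.IsIrrCharacter G χ → χ 1 = (q : ℂ) - 1 →
      ∃ θ, θ ^ 2 ≠ 1 ∧ χ = P θ) :
    Nat.card {χ : Cfsg.IrrCharacter G // (χ : G → ℂ) 1 = (q : ℂ) - 1} = n / 2 := by
  haveI : Fintype {χ : Cfsg.IrrCharacter G // (χ : G → ℂ) 1 = (q : ℂ) - 1} :=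
    Fintype.ofFinite _
  rw [Nat.card_eq_fintype_card]
  have key := card_two_to_one
    (fun α : {α : T // α ^ 2 ≠ 1} =>
      (⟨⟨P α.1, D.P_irr α.1 α.2⟩, D.Pone α.1⟩ :
        {χ : Cfsg.IrrCharacter G // (χ : G → ℂ) 1 = (q : ℂ) - 1}))
    (by
      intro χ
      obtain ⟨α, hα, h⟩ := hsurj χ.1.1 χ.1.2 χ.2
      exact ⟨⟨α, hα⟩, Subtype.ext (Subtype.ext h.symm)⟩)
    (fun α => ⟨α.1⁻¹, inv_sq_ne_one α.1 α.2⟩)
    (by
      intro α h
      apply α.2
      have h1 := congrArg Subtype.val h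
      simp only at h1
      rw [pow_two]
      nth_rewrite 1 [← h1]
      exact inv_mul_cancel _)
    (by
      intro α β
      rw [Subtype.ext_iff, Subtype.ext_iff]
      simp only
      rw [D.P_eq_iff α.1 β.1 α.2 β.2, Subtype.ext_iff, Subtype.ext_iff])
  rw [← Nat.card_eq_fintype_card, hn] at key
  omega

end DLData

end skeleton

end Cfsg.Agent.Lib.Helper4
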