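import Mathlib
import Cfsg.Prelude.Def_Characters
import Cfsg.Agent.Lib.Helper4.SL2CharM
import Cfsg.Agent.Lib.Helper4.SL2CharN

set_option autoImplicit false

namespace Cfsg.Agent.Lib.Helper4

open scoped ComplexConjugate

variable {F : Type*} [Field F] [Fintype F]

theorem sl2_card_mulChar : Nat.card (MulChar F ℂ) = Fintype.card F - 1 := by
  classical
  haveI : NeZero (Monoid.exponent Fˣ) := ⟨Monoid.exponent_ne_zero_of_finite⟩
  rw [MulChar.card_eq_card_units_of_hasEnoughRootsOfUnity F ℂ,
    Nat.card_eq_fintype_card, Fintype.card_units]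

omit [Fintype F] in
theorem sl2_card_torusChar (C : Subgroup (Matrix.SpecialLinearGroup (Fin 2) F)) (hC : IsCyclic C)
    [Finite C] : Nat.card (C →* ℂˣ) = Nat.card C := by
  letI : CommGroup C := hC.commGroup
  exact CommGroup.card_monoidHom_of_hasEnoughRootsOfUnity C ℂ

end Cfsg.Agent.Lib.Helper4
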