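import Mathlib
import Cfsg.Prelude.Def_Characters
import Cfsg.Agent.Lib.Helper4.SL2CharD
import Cfsg.Agent.Lib.Helper4.SL2CharN

set_option autoImplicit false

namespace Cfsg.Agent.Lib.Helper4

open scoped ComplexConjugate

theorem eq_one_of_sq_eq_one_of_odd {A : Type*} [Group A] [Fintype A]
    (hodd : Odd (Fintype.card A)) (x : A) (h : x ^ 2 = 1) : x = 1 := by
  have h1 : orderOf x ∣ 2 := orderOf_dvd_of_pow_eq_one h
  have h2 : orderOf x ∣ Fintype.card A := orderOf_dvd_card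
  have h3 : orderOf x ∣ Nat.gcd 2 (Fintype.card A) := Nat.dvd_gcd h1 h2
  have h4 : Nat.gcd 2 (Fintype.card A) = 1 := by
    rw [← Nat.coprime_iff_gcd_eq_one, Nat.coprime_two_left]
    exact hodd
  rw [h4] at h3
  exact orderOf_eq_one_iff.mp (Nat.dvd_one.mp h3)

variable {F : Type*} [Field F] [Fintype F] [DecidableEq F]

omit [DecidableEq F] in
theorem exists_trace_no_root_all : ∃ t : F, ∀ a : F, a ^ 2 - t * a + 1 ≠ 0 := by
  by_cases h4 : 4 ≤ Fintype.card F
  · obtain ⟨t, -, ht⟩ := exists_trace_no_root (F := F) h4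
    exact ⟨t, ht⟩
  · have hq1 := Fintype.one_lt_card (α := F)
    by_cases h3 : Fintype.card F = 3
    · exact exists_trace_no_root_odd (by rw [h3]; decide)
    · have h2 : Fintype.card F = 2 := by omega
      refine ⟨1, fun a ha => ?_⟩
      have h5 := FiniteField.pow_card a
      rw [h2] at h5
      rw [h5] at ha
      simp at ha

omit [DecidableEq F] in
theorem sl2_exists_torus :
    ∃ C : Subgroup (Matrix.SpecialLinearGroup (Fin 2) F), IsCyclic C ∧
      Nat.card C = Fintype.card F + 1 := by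
  obtain ⟨t, ht⟩ := exists_trace_no_root_all (F := F)
  refine ⟨Subgroup.centralizer ({sl2Comp t 1} : Set (Matrix.SpecialLinearGroup (Fin 2) F)),
    isCyclic_centralizer_sl2Comp_of_no_root t ht, ?_⟩
  apply sl2_card_centralizer_of_no_root
  have htr : Matrix.trace ((sl2Comp t 1 : Matrix.SpecialLinearGroup (Fin 2) F) :
      Matrix (Fin 2) (Fin 2) F) = t := by
    rw [sl2Comp_val, Matrix.trace_fin_two]
    simp
  rw [htr]
  exact ht

section even

variable [CharP F 2]

omit [Fintype F] [DecidableEq F] in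
theorem sl2PM_false_eq_one : sl2PM false (0 : F) = 1 := by
  apply Subtype.ext
  rw [sl2PM_false_coe, Matrix.SpecialLinearGroup.coe_one]
  exact CharTwo.neg_eq _

omit [Fintype F] [DecidableEq F] in
theorem sl2_center_even (g : Matrix.SpecialLinearGroup (Fin 2) F) :
    g ∈ Subgroup.center (Matrix.SpecialLinearGroup (Fin 2) F) ↔ g = 1 := by
  rw [sl2_mem_center_iff, sl2PM_false_eq_one, or_self]

omit [Fintype F] [DecidableEq F] in
theorem sl2_nonscalar_even (g : Matrix.SpecialLinearGroup (Fin 2) F) (h1 : g ≠ 1) :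
    ¬ ((g : Matrix (Fin 2) (Fin 2) F) 0 1 = 0 ∧ (g : Matrix (Fin 2) (Fin 2) F) 1 0 = 0 ∧
      (g : Matrix (Fin 2) (Fin 2) F) 0 0 = (g : Matrix (Fin 2) (Fin 2) F) 1 1) := by
  rw [← sl2_mem_center_iff_scalar, sl2_center_even]
  exact h1

omit [DecidableEq F] in
theorem even_card_of_charP_two : Even (Fintype.card F) := by
  rw [Nat.even_iff]
  exact FiniteField.even_card_of_char_two (ringChar.eq F 2)

omit [Fintype F] [DecidableEq F] in
theorem sq_ne_four_even (t : F) (ht : t ≠ 2) : t ^ 2 ≠ 4 := by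
  intro h
  apply ht
  have h4 : (4 : F) = 0 := by
    have : (4 : F) = 2 * 2 := by norm_num
    rw [this, CharTwo.two_eq_zero, zero_mul]
  rw [h4] at h
  rw [CharTwo.two_eq_zero]
  exact pow_eq_zero_iff (two_ne_zero) |>.mp h

theorem sl2PsiE_one : sl2Psi 0 (1 : Matrix.SpecialLinearGroup (Fin 2) F) =
    (Fintype.card F : ℂ) ^ 2 - 1 := by
  unfold sl2Psi
  rw [if_pos rfl, if_pos sl2_trace_one]
  ring

omit [CharP F 2] in
theorem sl2PsiE_trace_two (g : Matrix.SpecialLinearGroup (Fin 2) F) (hg : g ≠ 1)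
    (ht : Matrix.trace (g : Matrix (Fin 2) (Fin 2) F) = 2) : sl2Psi 0 g = -1 := by
  unfold sl2Psi
  rw [if_neg hg, if_pos ht]
  ring

omit [CharP F 2] in
theorem sl2PsiE_of_ne (g : Matrix.SpecialLinearGroup (Fin 2) F)
    (ht : Matrix.trace (g : Matrix (Fin 2) (Fin 2) F) ≠ 2) : sl2Psi 0 g = 0 := by
  unfold sl2Psi
  rw [if_neg, if_neg ht]
  · ring
  · intro h
    rw [h, sl2_trace_one] at ht
    exact ht rfl

theorem sl2PsiE_eq_mul (α : MulChar F ℂ) (g : Matrix.SpecialLinearGroup (Fin 2) F) :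
    sl2Psi 0 g = (sl2R 1 g - 2) * sl2R α g := by
  by_cases h1 : g = 1
  · subst h1
    rw [sl2PsiE_one, sl2R_apply_one, sl2R_apply_one]
    ring
  have hns := sl2_nonscalar_even g h1
  by_cases ht2 : Matrix.trace (g : Matrix (Fin 2) (Fin 2) F) = 2
  · rw [sl2PsiE_trace_two g h1 ht2, sl2R_trace_two 1 g hns ht2, sl2R_trace_two α g hns ht2]
    ring
  have ht := sq_ne_four_even _ ht2
  rw [sl2PsiE_of_ne g ht2]
  by_cases hr : ∃ a : F, a ^ 2 - Matrix.trace (g : Matrix (Fin 2) (Fin 2) F) * a + 1 = 0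
  · obtain ⟨a, ha⟩ := hr
    have ha0 : a ≠ 0 := by
      rintro rfl
      simp at ha
    rw [sl2R_split 1 g ht a ha, MulChar.one_apply (isUnit_iff_ne_zero.mpr ha0),
      MulChar.one_apply (isUnit_iff_ne_zero.mpr (inv_ne_zero ha0))]
    ring
  · push Not at hr
    rw [sl2R_no_root α g hr]
    ring

theorem sum_sl2PsiE_mul (h : Matrix.SpecialLinearGroup (Fin 2) F → ℂ) (c : ℂ)
    (hc : ∀ g : Matrix.SpecialLinearGroup (Fin 2) F, g ≠ 1 →
      Matrix.trace (g : Matrix (Fin 2) (Fin 2) F) = 2 → h g = c) :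
    ∑ g : Matrix.SpecialLinearGroup (Fin 2) F, sl2Psi 0 g * h g =
      ((Fintype.card F : ℂ) ^ 2 - 1) * (h 1 - c) := by
  rw [sum_sl2Psi_mul 0 h c c hc (fun g hg ht => by
    rw [sl2PM_false_eq_one] at hg
    rw [CharTwo.neg_eq] at ht
    exact hc g hg ht)]
  ring

theorem classInner_sl2PsiE_sl2PsiE :
    Cfsg.classInner (sl2Psi (F := F) 0) (sl2Psi 0) = (Fintype.card F : ℂ) := by
  unfold Cfsg.classInner
  rw [sum_sl2PsiE_mul (fun g => conj (sl2Psi 0 g)) (conj (-1))
    (fun g hg ht => by rw [sl2PsiE_trace_two g hg ht]), sl2PsiE_one, sl2_card_cast]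
  simp only [map_sub, map_pow, map_neg, map_one, Complex.conj_natCast]
  field_simp [sl2_card_ne_zero (F := F), sl2_card_sub_one_ne_zero (F := F),
    sl2_card_add_one_ne_zero (F := F)]
  ring

theorem classInner_sl2PsiE_sl2R (α : MulChar F ℂ) :
    Cfsg.classInner (sl2Psi (F := F) 0) (sl2R α) = 1 := by
  unfold Cfsg.classInner
  rw [sum_sl2PsiE_mul (fun g => conj (sl2R α g)) (conj 1)
    (fun g hg ht => by rw [sl2R_trace_two α g (sl2_nonscalar_even g hg) ht]),
    sl2R_apply_one, sl2_card_cast]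
  simp only [map_add, map_one, Complex.conj_natCast]
  field_simp [sl2_card_ne_zero (F := F), sl2_card_sub_one_ne_zero (F := F),
    sl2_card_add_one_ne_zero (F := F)]
  ring

section torus

variable (C : Subgroup (Matrix.SpecialLinearGroup (Fin 2) F)) (hC : IsCyclic C)
  (hcard : Nat.card C = Fintype.card F + 1)

include hC hcard in
theorem sl2_torus_no_root_even (c : C) (h1 : c ≠ 1) :
    ∀ a : F, a ^ 2 - Matrix.trace ((c : Matrix.SpecialLinearGroup (Fin 2) F) :
      Matrix (Fin 2) (Fin 2) F) * a + 1 ≠ 0 := by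
  have h1' : (c : Matrix.SpecialLinearGroup (Fin 2) F) ≠ 1 := by
    intro h
    exact h1 (Subtype.ext h)
  exact (sl2_torus_elt C hC hcard _ c.2 (sl2_nonscalar_even _ h1')).1

omit [Fintype F] [DecidableEq F] [CharP F 2] in
theorem trace_ne_two_of_no_root (g : Matrix.SpecialLinearGroup (Fin 2) F)
    (hnr : ∀ a : F, a ^ 2 - Matrix.trace (g : Matrix (Fin 2) (Fin 2) F) * a + 1 ≠ 0) :
    Matrix.trace (g : Matrix (Fin 2) (Fin 2) F) ≠ 2 := by
  intro h
  apply hnr 1
  rw [h]
  ring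

include hC hcard in
theorem sl2PsiE_restrict (c : C) :
    sl2Psi 0 (c : Matrix.SpecialLinearGroup (Fin 2) F) =
      (if c = 1 then (Fintype.card F : ℂ) ^ 2 - 1 else 0) := by
  by_cases h1 : c = 1
  · subst h1
    rw [if_pos rfl]
    exact sl2PsiE_one
  · rw [if_neg h1]
    exact sl2PsiE_of_ne _ (trace_ne_two_of_no_root _ (sl2_torus_no_root_even C hC hcard c h1))

include hC hcard in
theorem sl2R_restrict_even (α : MulChar F ℂ) (c : C) :
    sl2R α (c : Matrix.SpecialLinearGroup (Fin 2) F) =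
      (if c = 1 then (Fintype.card F : ℂ) + 1 else 0) := by
  by_cases h1 : c = 1
  · subst h1
    rw [if_pos rfl]
    exact sl2R_apply_one α
  · rw [if_neg h1]
    exact sl2R_no_root α _ (sl2_torus_no_root_even C hC hcard c h1)

include hC hcard in
theorem sl2IndC_restrict_even (θ : C → ℂ) (c : C) :
    Cfsg.indFun C θ (c : Matrix.SpecialLinearGroup (Fin 2) F) = θ c + θ c⁻¹ +
      (if c = 1 then ((Fintype.card F : ℂ) * ((Fintype.card F : ℂ) - 1) - 2) * θ 1 else 0) := by
  by_cases h1 : c = 1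
  · subst h1
    rw [if_pos rfl, sl2IndC_central C hcard θ 1 (by simp), inv_one]
    ring
  · rw [if_neg h1, add_zero]
    have h1' : (c : Matrix.SpecialLinearGroup (Fin 2) F) ≠ 1 := fun h => h1 (Subtype.ext h)
    apply sl2IndC_noncentral C hC hcard θ c
    rw [sl2_center_even]
    exact h1'

end torus

omit [CharP F 2] in
theorem sum_one_point {X : Type*} [Fintype X] [DecidableEq X] (x₁ : X) (f : X → ℂ) (A : ℂ) :
    ∑ c : X, f c * conj (if c = x₁ then A else 0) = f x₁ * conj A := by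
  simp only [apply_ite conj, map_zero, mul_ite, mul_zero,
    Finset.sum_ite_eq', Finset.mem_univ, if_true]

section torus2

variable (C : Subgroup (Matrix.SpecialLinearGroup (Fin 2) F)) [Fintype C] (hC : IsCyclic C)
  (hcard : Nat.card C = Fintype.card F + 1)

include hC hcard in
theorem classInner_indC_sl2PsiE (θ : C →* ℂˣ) :
    Cfsg.classInner (Cfsg.indFun C (fun c => ((θ c : ℂˣ) : ℂ))) (sl2Psi 0) =
      (Fintype.card F : ℂ) - 1 := by
  rw [Lead.frobenius_reciprocity C _ _ (sl2Psi_classFun 0)]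
  unfold Cfsg.classInner
  simp_rw [sl2PsiE_restrict C hC hcard]
  rw [sum_one_point, hcard, map_one, Units.val_one]
  simp only [map_sub, map_pow, map_one, Complex.conj_natCast]
  push_cast
  field_simp [sl2_card_add_one_ne_zero (F := F)]
  ring

include hC hcard in
theorem classInner_indC_sl2R_even (θ : C →* ℂˣ) (α : MulChar F ℂ) :
    Cfsg.classInner (Cfsg.indFun C (fun c => ((θ c : ℂˣ) : ℂ))) (sl2R α) = 1 := by
  rw [Lead.frobenius_reciprocity C _ _ (sl2R_classFun α)]
  unfold Cfsg.classInner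
  simp_rw [sl2R_restrict_even C hC hcard α]
  rw [sum_one_point, hcard, map_one, Units.val_one]
  simp only [map_add, map_one, Complex.conj_natCast]
  push_cast
  field_simp [sl2_card_add_one_ne_zero (F := F)]

include hC hcard in
theorem classInner_indC_indC_even (θ θ' : C →* ℂˣ) [Decidable (θ = θ')]
    [Decidable (θ = θ'⁻¹)] :
    Cfsg.classInner (Cfsg.indFun C (fun c => ((θ c : ℂˣ) : ℂ)))
      (Cfsg.indFun C (fun c => ((θ' c : ℂˣ) : ℂ))) =
      (if θ = θ' then 1 else 0) + (if θ = θ'⁻¹ then 1 else 0) +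
      ((Fintype.card F : ℂ) - 2) := by
  rw [Lead.frobenius_reciprocity C _ _ (Lead.indFun_classFun C _)]
  unfold Cfsg.classInner
  simp_rw [sl2IndC_restrict_even C hC hcard (fun c => ((θ' c : ℂˣ) : ℂ))]
  have e : ∀ c : C, ((θ c : ℂˣ) : ℂ) * conj (((θ' c : ℂˣ) : ℂ) + ((θ' c⁻¹ : ℂˣ) : ℂ) +
      (if c = 1 then ((Fintype.card F : ℂ) * ((Fintype.card F : ℂ) - 1) - 2) *
        ((θ' 1 : ℂˣ) : ℂ) else 0)) =
      ((θ c : ℂˣ) : ℂ) * conj ((θ' c : ℂˣ) : ℂ) + ((θ c : ℂˣ) : ℂ) * conj ((θ' c⁻¹ : ℂˣ) : ℂ) +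
      ((θ c : ℂˣ) : ℂ) * conj (if c = 1 then
        ((Fintype.card F : ℂ) * ((Fintype.card F : ℂ) - 1) - 2) * ((θ' 1 : ℂˣ) : ℂ) else 0) := by
    intro c
    simp only [map_add, mul_add]
  have hcardC : (Fintype.card C : ℂ) = (Fintype.card F : ℂ) + 1 := by
    rw [← Nat.card_eq_fintype_card (α := ↥C), hcard]
    push_cast
    rfl
  simp_rw [e]
  rw [Finset.sum_add_distrib, Finset.sum_add_distrib, sum_hom_mul_conj, sum_hom_mul_conj_inv,
    sum_one_point, hcard, map_one, Units.val_one, hcardC]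
  have i1 : (if θ = θ' then ((Fintype.card F : ℂ) + 1) else 0) =
      ((Fintype.card F : ℂ) + 1) * (if θ = θ' then 1 else 0) := by
    split_ifs <;> simp
  have i2 : (if θ = θ'⁻¹ then ((Fintype.card F : ℂ) + 1) else 0) =
      ((Fintype.card F : ℂ) + 1) * (if θ = θ'⁻¹ then 1 else 0) := by
    split_ifs <;> simp
  rw [i1, i2]
  generalize (if θ = θ' then (1 : ℂ) else 0) = d₁
  generalize (if θ = θ'⁻¹ then (1 : ℂ) else 0) = d₂
  simp only [map_sub, map_mul, map_one, Complex.conj_natCast, Complex.conj_ofNat, Units.val_one]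
  push_cast
  field_simp [sl2_card_add_one_ne_zero (F := F)]
  ring

end torus2

end even

end Cfsg.Agent.Lib.Helper4
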