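import Mathlib
import Cfsg.Prelude.Def_Characters
import Cfsg.Agent.Lib.Helper4.SL2CharP
import Cfsg.Agent.Lib.Helper4.SL2CharO

set_option autoImplicit false

namespace Cfsg.Agent.Lib.Helper4

open scoped ComplexConjugate

variable {F : Type*} [Field F] [Fintype F] [DecidableEq F]

section cuspE

variable (C : Subgroup (Matrix.SpecialLinearGroup (Fin 2) F))

/-- The cuspidal generalized character in characteristic two. -/
noncomputable def sl2CuspE (θ : C →* ℂˣ) : Matrix.SpecialLinearGroup (Fin 2) F → ℂ :=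
  sl2Psi 0 - Cfsg.indFun C (fun c => ((θ c : ℂˣ) : ℂ))

variable [CharP F 2] (hC : IsCyclic C) (hcard : Nat.card C = Fintype.card F + 1)

include hC hcard in
theorem sl2CuspE_inner (θ θ' : C →* ℂˣ) [Decidable (θ = θ')] [Decidable (θ = θ'⁻¹)] :
    Cfsg.classInner (sl2CuspE C θ) (sl2CuspE C θ') =
      (if θ = θ' then 1 else 0) + (if θ = θ'⁻¹ then 1 else 0) := by
  haveI : Fintype C := Fintype.ofFinite C
  unfold sl2CuspE
  rw [Lead.classInner_sub_left, Lead.classInner_sub_right, Lead.classInner_sub_right,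
    classInner_sl2PsiE_sl2PsiE, classInner_indC_sl2PsiE C hC hcard,
    classInner_indC_indC_even C hC hcard, ← Lead.classInner_conj_symm,
    classInner_indC_sl2PsiE C hC hcard]
  simp only [map_sub, map_one, Complex.conj_natCast]
  ring

include hC hcard in
theorem sl2R_sl2CuspE_inner (α : MulChar F ℂ) (θ : C →* ℂˣ) :
    Cfsg.classInner (sl2R α) (sl2CuspE C θ) = 0 := by
  haveI : Fintype C := Fintype.ofFinite C
  unfold sl2CuspE
  rw [Lead.classInner_sub_right, ← Lead.classInner_conj_symm, classInner_sl2PsiE_sl2R,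
    ← Lead.classInner_conj_symm (Cfsg.indFun C _), classInner_indC_sl2R_even C hC hcard,
    sub_self]

include hcard in
theorem sl2CuspE_one (θ : C →* ℂˣ) :
    sl2CuspE C θ 1 = (Fintype.card F : ℂ) - 1 := by
  unfold sl2CuspE
  have h := sl2IndC_central C hcard (fun c => ((θ c : ℂˣ) : ℂ)) 1 (by simp)
  simp only [OneMemClass.coe_one, map_one, Units.val_one, mul_one] at h
  rw [Pi.sub_apply, sl2PsiE_one, h]
  ring

theorem sl2CuspE_isGenChar (θ : C →* ℂˣ) :
    Cfsg.IsGeneralizedCharacter (Matrix.SpecialLinearGroup (Fin 2) F) (sl2CuspE C θ) := by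
  refine ⟨sl2R 1 * sl2R 1, sl2R 1 + sl2R 1 + Cfsg.indFun C (fun c => ((θ c : ℂˣ) : ℂ)),
    Lead.isCharacter_mul (sl2R_isCharacter 1) (sl2R_isCharacter 1),
    Lead.isCharacter_add (Lead.isCharacter_add (sl2R_isCharacter 1) (sl2R_isCharacter 1))
      (Lead.isCharacter_indFun C _ (isCharacter_of_monoidHom θ)), ?_⟩
  funext g
  unfold sl2CuspE
  simp only [Pi.sub_apply, Pi.mul_apply, Pi.add_apply]
  rw [sl2PsiE_eq_mul 1 g]
  ring

omit [CharP F 2] in
theorem sl2CuspE_inner_one :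
    Cfsg.classInner (sl2CuspE C 1) (fun _ => (1 : ℂ)) = -1 := by
  haveI : Fintype C := Fintype.ofFinite C
  unfold sl2CuspE
  rw [Lead.classInner_sub_left, classInner_sl2Psi_one,
    Lead.frobenius_reciprocity C _ _ (fun _ _ => rfl)]
  have e : (fun c : C => (((1 : C →* ℂˣ) c : ℂˣ) : ℂ)) = fun _ => (1 : ℂ) := by
    funext c
    simp
  rw [e, Lead.classInner_one_one]
  ring

include hC hcard in
theorem sl2_dlData_even [Fintype (MulChar F ℂ)] [Fintype (C →* ℂˣ)] :
    DLData (Fintype.card F) (1 : Matrix.SpecialLinearGroup (Fin 2) F) sl2R (sl2CuspE C)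
      (fun _ : MulChar F ℂ => (1 : ℂ)) (fun _ : C →* ℂˣ => (1 : ℂ)) := by
  have hev : Even (Fintype.card F) := even_card_of_charP_two
  have hq1 : 1 < Fintype.card F := Fintype.one_lt_card
  have hA : Fintype.card (MulChar F ℂ) = Fintype.card F - 1 := by
    rw [← Nat.card_eq_fintype_card, sl2_card_mulChar]
  have hT : Fintype.card (C →* ℂˣ) = Fintype.card F + 1 := by
    rw [← Nat.card_eq_fintype_card, sl2_card_torusChar C hC, hcard]
  have hAodd : Odd (Fintype.card (MulChar F ℂ)) := by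
    rw [hA]
    obtain ⟨k, hk⟩ := hev
    exact ⟨k - 1, by omega⟩
  have hTodd : Odd (Fintype.card (C →* ℂˣ)) := by
    rw [hT]
    obtain ⟨k, hk⟩ := hev
    exact ⟨k, by omega⟩
  refine
    { hq := hq1
      cardG := card_sl2
      cardA := hA
      cardT := hT
      hz := Subgroup.one_mem _
      hzz := one_mul 1
      Rchar := sl2R_isCharacter
      Pgen := sl2CuspE_isGenChar C
      Rone := sl2R_apply_one
      Pone := sl2CuspE_one C hcard
      RR := fun α β => @sl2R_classInner _ _ _ _ α β (Classical.propDecidable _)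
        (Classical.propDecidable _)
      PP := fun θ θ' => @sl2CuspE_inner _ _ _ _ C _ hC hcard θ θ' (Classical.propDecidable _)
        (Classical.propDecidable _)
      RP := sl2R_sl2CuspE_inner C hC hcard
      Rpar := fun α g => by rw [one_mul, one_mul]
      Ppar := fun θ g => by rw [one_mul, one_mul]
      apm := fun _ => Or.inl rfl
      tpm := fun _ => Or.inl rfl
      sign := fun α θ hα hα1 _ _ => absurd (eq_one_of_sq_eq_one_of_odd hAodd α hα) hα1
      uniqT := fun θ θ' hθ hθ1 _ _ => absurd (eq_one_of_sq_eq_one_of_odd hTodd θ hθ) hθ1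
      R1 := sl2R_inner_one
      P1 := sl2CuspE_inner_one C }

include hC hcard in
theorem sl2_irr_even_cases {χ : Matrix.SpecialLinearGroup (Fin 2) F → ℂ}
    (hχ : Cfsg.IsIrrCharacter (Matrix.SpecialLinearGroup (Fin 2) F) χ) :
    ∃ d : ℕ, χ 1 = (d : ℂ) ∧
      ((d = 1 ∧ χ = fun _ => (1 : ℂ)) ∨
       (d = Fintype.card F ∧ χ = sl2R 1 - fun _ => (1 : ℂ)) ∨
       (d = Fintype.card F + 1 ∧ ∃ α : MulChar F ℂ, α ^ 2 ≠ 1 ∧ χ = sl2R α) ∨
       (d = Fintype.card F - 1 ∧ ∃ θ : C →* ℂˣ, θ ^ 2 ≠ 1 ∧ χ = sl2CuspE C θ)) := by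
  haveI : Fintype (MulChar F ℂ) := Fintype.ofFinite _
  haveI : Fintype (C →* ℂˣ) := Fintype.ofFinite _
  have D := sl2_dlData_even C hC hcard
  have hev : Even (Fintype.card F) := even_card_of_charP_two
  have hq1 : 1 < Fintype.card F := Fintype.one_lt_card
  have hAodd : Odd (Fintype.card (MulChar F ℂ)) := by
    rw [D.cardA]
    obtain ⟨k, hk⟩ := hev
    exact ⟨k - 1, by omega⟩
  have hTodd : Odd (Fintype.card (C →* ℂˣ)) := by
    rw [D.cardT]
    obtain ⟨k, hk⟩ := hev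
    exact ⟨k, by omega⟩
  rcases D.classify hχ with h | h | ⟨α, hα, h⟩ | ⟨θ, hθ, h⟩ | ⟨α, hα, hα1, h⟩ |
    ⟨θ, hθ, hθ1, h⟩
  · exact ⟨1, by rw [h]; simp, Or.inl ⟨rfl, h⟩⟩
  · refine ⟨Fintype.card F, ?_, Or.inr (Or.inl ⟨rfl, h⟩)⟩
    rw [h, Pi.sub_apply, sl2R_apply_one]
    ring
  · refine ⟨Fintype.card F + 1, ?_, Or.inr (Or.inr (Or.inl ⟨rfl, α, hα, h⟩))⟩
    rw [h, sl2R_apply_one]
    push_cast
    ring
  · refine ⟨Fintype.card F - 1, ?_, Or.inr (Or.inr (Or.inr ⟨rfl, θ, hθ, h⟩))⟩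
    rw [h, sl2CuspE_one C hcard, Nat.cast_sub (by omega)]
    simp
  · exact absurd (eq_one_of_sq_eq_one_of_odd hAodd α hα) hα1
  · exact absurd (eq_one_of_sq_eq_one_of_odd hTodd θ hθ) hθ1

include hC hcard in
theorem sl2CuspE_trace_two (θ : C →* ℂˣ)
    (g : Matrix.SpecialLinearGroup (Fin 2) F) (hg : g ≠ 1)
    (ht : Matrix.trace (g : Matrix (Fin 2) (Fin 2) F) = 2) : sl2CuspE C θ g = -1 := by
  unfold sl2CuspE
  have hc : g ∉ Subgroup.center (Matrix.SpecialLinearGroup (Fin 2) F) := by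
    rw [sl2_center_even]
    exact hg
  rw [Pi.sub_apply, sl2PsiE_trace_two g hg ht,
    sl2IndC_root C hC hcard _ g hc 1 (by rw [ht]; ring), sub_zero]

end cuspE

end Cfsg.Agent.Lib.Helper4
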