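import Mathlib
import Cfsg.Prelude.Def_Characters
import Cfsg.Agent.Lib.Helper4.SL2CharQ

set_option autoImplicit false

namespace Cfsg.Agent.Lib.Helper4

open scoped ComplexConjugate

variable {F : Type*} [Field F] [Fintype F] [DecidableEq F] [CharP F 2]

section degsE

variable (C : Subgroup (Matrix.SpecialLinearGroup (Fin 2) F))
  (hC : IsCyclic C) (hcard : Nat.card C = Fintype.card F + 1)

include hC hcard in
theorem sl2_even_deg_one (hq : 4 ≤ Fintype.card F)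
    {χ : Matrix.SpecialLinearGroup (Fin 2) F → ℂ}
    (hχ : Cfsg.IsIrrCharacter (Matrix.SpecialLinearGroup (Fin 2) F) χ)
    (hdeg : χ 1 = 1) : χ = fun _ => (1 : ℂ) := by
  obtain ⟨d, hd, hcases⟩ := sl2_irr_even_cases C hC hcard hχ
  rw [hd] at hdeg
  have hd' : d = 1 := by exact_mod_cast hdeg
  rcases hcases with ⟨-, h⟩ | ⟨h, -⟩ | ⟨h, -⟩ | ⟨h, -⟩
  · exact h
  · omega
  · omega
  · omega

include hC hcard in
theorem sl2_even_deg_q
    {χ : Matrix.SpecialLinearGroup (Fin 2) F → ℂ}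
    (hχ : Cfsg.IsIrrCharacter (Matrix.SpecialLinearGroup (Fin 2) F) χ)
    (hdeg : χ 1 = (Fintype.card F : ℂ)) : χ = sl2R 1 - fun _ => (1 : ℂ) := by
  obtain ⟨d, hd, hcases⟩ := sl2_irr_even_cases C hC hcard hχ
  rw [hd] at hdeg
  have hd' : d = Fintype.card F := by exact_mod_cast hdeg
  have hq1 : 1 < Fintype.card F := Fintype.one_lt_card
  rcases hcases with ⟨h, -⟩ | ⟨-, h⟩ | ⟨h, -⟩ | ⟨h, -⟩
  · omega
  · exact h
  · omega
  · omega

include hC hcard in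
theorem sl2_even_deg_add_one
    {χ : Matrix.SpecialLinearGroup (Fin 2) F → ℂ}
    (hχ : Cfsg.IsIrrCharacter (Matrix.SpecialLinearGroup (Fin 2) F) χ)
    (hdeg : χ 1 = (Fintype.card F : ℂ) + 1) : ∃ α : MulChar F ℂ, α ^ 2 ≠ 1 ∧ χ = sl2R α := by
  obtain ⟨d, hd, hcases⟩ := sl2_irr_even_cases C hC hcard hχ
  rw [hd] at hdeg
  have hd' := nat_eq_of_cast_add_one hdeg
  have hq1 : 1 < Fintype.card F := Fintype.one_lt_card
  rcases hcases with ⟨h, -⟩ | ⟨h, -⟩ | ⟨-, h⟩ | ⟨h, -⟩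
  · omega
  · omega
  · exact h
  · omega

include hC hcard in
theorem sl2_even_deg_sub_one (hq : 4 ≤ Fintype.card F)
    {χ : Matrix.SpecialLinearGroup (Fin 2) F → ℂ}
    (hχ : Cfsg.IsIrrCharacter (Matrix.SpecialLinearGroup (Fin 2) F) χ)
    (hdeg : χ 1 = (Fintype.card F : ℂ) - 1) :
    ∃ θ : C →* ℂˣ, θ ^ 2 ≠ 1 ∧ χ = sl2CuspE C θ := by
  obtain ⟨d, hd, hcases⟩ := sl2_irr_even_cases C hC hcard hχ
  rw [hd] at hdeg
  have hd' := nat_eq_of_cast_sub_one (by omega) hdeg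
  rcases hcases with ⟨h, -⟩ | ⟨h, -⟩ | ⟨h, -⟩ | ⟨-, h⟩
  · omega
  · omega
  · omega
  · exact h

end degsE

end Cfsg.Agent.Lib.Helper4
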