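import Mathlib
import Cfsg.Agent.Lib.Lead.PermEmbed

set_option autoImplicit false

namespace Cfsg.Agent.Lib.Helper4

theorem two_eq_zero_of_card_two {F : Type*} [Field F] [Fintype F] (hF : Fintype.card F = 2) :
    (2 : F) = 0 := by
  obtain ⟨p, hp⟩ := CharP.exists F
  haveI := hp
  haveI : Fact p.Prime := ⟨CharP.char_is_prime F p⟩
  obtain ⟨n, hprime, hcard⟩ := FiniteField.card F p
  rw [hF] at hcard
  have hdvd : p ∣ 2 := by rw [hcard]; exact dvd_pow_self p n.ne_zero
  have hp2 : p = 2 := (Nat.prime_dvd_prime_iff_eq hprime Nat.prime_two).mp hdvd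
  subst hp2
  exact_mod_cast CharP.cast_eq_zero F 2

section

variable {F : Type*} [Field F] [Fintype F]

/-- `|SL_n(q)| (q - 1) = |GL_n(q)|`. -/
theorem card_sl_mul (n : ℕ) (hn : 1 ≤ n) :
    Nat.card (Matrix.SpecialLinearGroup (Fin n) F) * (Fintype.card F - 1) =
      Nat.card (GL (Fin n) F) := by
  classical
  have hsurj : Function.Surjective (Matrix.GeneralLinearGroup.det : GL (Fin n) F →* Fˣ) := by
    intro a
    obtain ⟨i₀, hi₀⟩ : ∃ i₀ : Fin n, i₀ = ⟨0, hn⟩ := ⟨_, rfl⟩
    obtain ⟨d, hd⟩ : ∃ d : Fin n → F, d = fun i => if i = i₀ then (a : F) else 1 := ⟨_, rfl⟩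
    have hdet : (Matrix.diagonal d).det = a := by
      rw [Matrix.det_diagonal, Finset.prod_eq_single i₀ (fun b _ hb => by rw [hd]; simp [hb])
        (fun h => absurd (Finset.mem_univ _) h), hd]
      simp
    refine ⟨Matrix.GeneralLinearGroup.mk'' (Matrix.diagonal d) (by rw [hdet]; exact a.isUnit), ?_⟩
    apply Units.ext
    rw [Matrix.GeneralLinearGroup.val_det_apply]
    exact hdet
  have h1 := Subgroup.card_eq_card_quotient_mul_card_subgroup
    (Matrix.GeneralLinearGroup.det : GL (Fin n) F →* Fˣ).ker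
  have h2 : Nat.card (GL (Fin n) F ⧸ (Matrix.GeneralLinearGroup.det : GL (Fin n) F →* Fˣ).ker) =
      Fintype.card F - 1 := by
    rw [Nat.card_congr (QuotientGroup.quotientKerEquivOfSurjective _ hsurj).toEquiv,
      Nat.card_units, Nat.card_eq_fintype_card]
  have h3 : Nat.card (Matrix.GeneralLinearGroup.det : GL (Fin n) F →* Fˣ).ker =
      Nat.card (Matrix.SpecialLinearGroup (Fin n) F) := by
    symm
    refine Nat.card_congr (Equiv.ofBijective (fun s : Matrix.SpecialLinearGroup (Fin n) F =>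
      (⟨Matrix.SpecialLinearGroup.toGL s, ?_⟩ :
        (Matrix.GeneralLinearGroup.det : GL (Fin n) F →* Fˣ).ker)) ⟨?_, ?_⟩)
    · rw [MonoidHom.mem_ker]
      apply Units.ext
      rw [Matrix.GeneralLinearGroup.val_det_apply]
      exact s.2
    · intro s s' hss
      have h := congrArg (fun g : (Matrix.GeneralLinearGroup.det : GL (Fin n) F →* Fˣ).ker =>
        (g.1.1 : Matrix (Fin n) (Fin n) F)) hss
      exact Subtype.ext h
    · intro g
      have hdet : (g.1.1 : Matrix (Fin n) (Fin n) F).det = 1 := by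
        have h1 := g.2
        rw [MonoidHom.mem_ker] at h1
        have h2 := congrArg (fun u : Fˣ => (u : F)) h1
        simp only [Units.val_one] at h2
        rw [Matrix.GeneralLinearGroup.val_det_apply] at h2
        exact h2
      refine ⟨⟨g.1.1, hdet⟩, ?_⟩
      apply Subtype.ext
      apply Units.ext
      rfl
  rw [h1, h2, h3, mul_comm]

/-- `|PSL_n(q)| gcd(n, q - 1) = |SL_n(q)|`. -/
theorem card_psl_mul (n : ℕ) (hn : 1 ≤ n) :
    Nat.card (Matrix.ProjectiveSpecialLinearGroup (Fin n) F) * Nat.gcd n (Fintype.card F - 1) =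
      Nat.card (Matrix.SpecialLinearGroup (Fin n) F) := by
  rw [← Cfsg.Agent.Lib.Lead.card_center_sl n hn]
  exact (Subgroup.card_eq_card_quotient_mul_card_subgroup _).symm

end

end Cfsg.Agent.Lib.Helper4
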